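import Cfsg.Agent.S2450
set_option linter.all false

/-!
# Conjugacy in `SL(2,F)` by the trace, `F` finite; products of two conjugates with given trace
-/

set_option autoImplicit false

namespace Cfsg.Agent.H145.SLTwo

open Matrix Polynomial

variable {F : Type*} [Field F]

/-- the element `[[a,b],[c,d]]` of `SL(2,F)`. -/
def mk2 (a b c d : F) (h : a * d - b * c = 1) : SpecialLinearGroup (Fin 2) F :=
  ⟨!![a, b; c, d], by rw [Matrix.det_fin_two_of, h]⟩

@[simp] theorem mk2_coe (a b c d : F) (h : a * d - b * c = 1) :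
    ((mk2 a b c d h : SpecialLinearGroup (Fin 2) F) : Matrix (Fin 2) (Fin 2) F) =
      !![a, b; c, d] := rfl

/-- the normal form `[[0,-1/l],[l,t]]` in `SL(2,F)`. -/
def nf (l t : F) (hl : l ≠ 0) : SpecialLinearGroup (Fin 2) F :=
  ⟨!![0, -l⁻¹; l, t], by rw [Matrix.det_fin_two_of]; field_simp; ring⟩

@[simp] theorem nf_coe (l t : F) (hl : l ≠ 0) :
    ((nf l t hl : SpecialLinearGroup (Fin 2) F) : Matrix (Fin 2) (Fin 2) F) =
      !![0, -l⁻¹; l, t] := rfl

theorem trace_conj (g A : SpecialLinearGroup (Fin 2) F) :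
    Matrix.trace ((g * A * g⁻¹ : SpecialLinearGroup (Fin 2) F) : Matrix (Fin 2) (Fin 2) F) =
      Matrix.trace (A : Matrix (Fin 2) (Fin 2) F) := by
  rw [Matrix.SpecialLinearGroup.coe_mul, Matrix.SpecialLinearGroup.coe_mul,
      Matrix.trace_mul_comm, ← Matrix.mul_assoc, ← Matrix.SpecialLinearGroup.coe_mul,
      inv_mul_cancel, Matrix.SpecialLinearGroup.coe_one, Matrix.one_mul]

/-- A non-central element of `SL(2,F)` with trace `t` is conjugate to some `nf l t`. -/
theorem exists_nf (A : SpecialLinearGroup (Fin 2) F)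
    (hA : A ∉ Subgroup.center (SpecialLinearGroup (Fin 2) F)) :
    ∃ (g : SpecialLinearGroup (Fin 2) F) (l : F) (hl : l ≠ 0),
      g * A * g⁻¹ = nf l (Matrix.trace (A : Matrix (Fin 2) (Fin 2) F)) hl := by
  obtain ⟨g, l, t, hl, h⟩ := Cfsg.Agent.S2450.exists_normal_form A hA
  have ht : t = Matrix.trace (A : Matrix (Fin 2) (Fin 2) F) := by
    rw [← trace_conj g A, h]
    simp [Matrix.trace_fin_two]
  subst ht
  exact ⟨g, l, hl, Subtype.ext h⟩

theorem cayley (A : SpecialLinearGroup (Fin 2) F) :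
    (A : Matrix (Fin 2) (Fin 2) F) * (A : Matrix (Fin 2) (Fin 2) F) =
      Matrix.trace (A : Matrix (Fin 2) (Fin 2) F) • (A : Matrix (Fin 2) (Fin 2) F) - 1 := by
  have hdet : A 0 0 * A 1 1 - A 0 1 * A 1 0 = 1 := by
    have := A.2
    rw [Matrix.det_fin_two] at this
    exact this
  rw [Matrix.eta_fin_two (A : Matrix (Fin 2) (Fin 2) F)]
  ext i j
  fin_cases i <;> fin_cases j <;>
    simp [Matrix.mul_apply, Fin.sum_univ_two, Matrix.trace_fin_two]
  · linear_combination -hdet
  · ring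
  · ring
  · linear_combination -hdet

/-- If `det (v, A v) = m` is solvable for the normal form then `nf l t ~ nf m t`. -/
theorem nf_conj_of {l m t : F} (hl : l ≠ 0) (hm : m ≠ 0) {x y : F}
    (h : l * x ^ 2 + t * x * y + y ^ 2 * l⁻¹ = m) :
    ∃ g : SpecialLinearGroup (Fin 2) F, g * nf m t hm * g⁻¹ = nf l t hl := by
  have hdet : x * (m⁻¹ * (l * x + t * y)) - -(m⁻¹ * (y * l⁻¹)) * y = 1 := by
    have : x * (m⁻¹ * (l * x + t * y)) - -(m⁻¹ * (y * l⁻¹)) * y =
        m⁻¹ * (l * x ^ 2 + t * x * y + y ^ 2 * l⁻¹) := by ring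
    rw [this, h, inv_mul_cancel₀ hm]
  refine ⟨mk2 _ _ _ _ hdet, ?_⟩
  rw [mul_inv_eq_iff_eq_mul]
  apply Subtype.ext
  rw [Matrix.SpecialLinearGroup.coe_mul, Matrix.SpecialLinearGroup.coe_mul, nf_coe, nf_coe,
    mk2_coe]
  ext i j
  fin_cases i <;> fin_cases j
  · simp
    field_simp
  · simp
    field_simp
    ring
  · simp
    field_simp
  · simp
    field_simp
    try ring

variable [Fintype F]

theorem exists_rep {l m t : F} (hl : l ≠ 0) (hodd : Fintype.card F % 2 = 1)
    (ht : t ^ 2 ≠ 4) : ∃ x y : F, l * x ^ 2 + t * x * y + y ^ 2 * l⁻¹ = m := by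
  have h2 : (2 : F) ≠ 0 := by
    intro h
    have : CharP F 2 := by
      have : Fact (Nat.Prime 2) := ⟨Nat.prime_two⟩
      exact CharTwo.of_one_ne_zero_of_two_eq_zero one_ne_zero h
    have := FiniteField.even_card_of_char_two (F := F) (ringChar.eq_iff.mpr this)
    omega
  have h4 : (4 : F) ≠ 0 := by
    have : (4 : F) = 2 * 2 := by norm_num
    rw [this]
    exact mul_ne_zero h2 h2
  obtain ⟨a, b, hab⟩ := FiniteField.exists_root_sum_quadratic
    (f := C l * X ^ 2 + C 0 * X + C (-m)) (g := C (l⁻¹ * (1 - t ^ 2 / 4)) * X ^ 2 + C 0 * X + C 0)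
    (Polynomial.degree_quadratic hl) (Polynomial.degree_quadratic (by
      refine mul_ne_zero (inv_ne_zero hl) ?_
      intro h
      apply ht
      field_simp at h
      linear_combination -h)) hodd
  refine ⟨a - t * b / (2 * l), b, ?_⟩
  simp at hab
  field_simp at hab ⊢
  linear_combination hab

/-- Elements with the same trace `t`, `t² ≠ 4`, are conjugate (odd `q`). -/
theorem conj_of_trace (hodd : Fintype.card F % 2 = 1) {A B : SpecialLinearGroup (Fin 2) F}
    (hA : A ∉ Subgroup.center (SpecialLinearGroup (Fin 2) F))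
    (hB : B ∉ Subgroup.center (SpecialLinearGroup (Fin 2) F))
    (h : Matrix.trace (A : Matrix (Fin 2) (Fin 2) F) =
      Matrix.trace (B : Matrix (Fin 2) (Fin 2) F))
    (h4 : (Matrix.trace (A : Matrix (Fin 2) (Fin 2) F)) ^ 2 ≠ 4) :
    ∃ g : SpecialLinearGroup (Fin 2) F, g * A * g⁻¹ = B := by
  obtain ⟨g, l, hl, hg⟩ := exists_nf A hA
  obtain ⟨k, m, hm, hk⟩ := exists_nf B hB
  obtain ⟨x, y, hxy⟩ := exists_rep (m := l) (t := Matrix.trace (A : Matrix (Fin 2) (Fin 2) F))
    hm hodd h4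
  obtain ⟨r, hr⟩ := nf_conj_of hm hl hxy
  refine ⟨k⁻¹ * r * g, ?_⟩
  have h1 : k⁻¹ * r * g * A * (k⁻¹ * r * g)⁻¹ = k⁻¹ * (r * (g * A * g⁻¹) * r⁻¹) * k := by group
  have h2 : B = k⁻¹ * (k * B * k⁻¹) * k := by group
  rw [h1, hg, hr, h2, hk]
  simp only [h]

theorem two_ne_zero_of_odd (hodd : Fintype.card F % 2 = 1) : (2 : F) ≠ 0 := by
  intro h
  have : CharP F 2 := by
    have : Fact (Nat.Prime 2) := ⟨Nat.prime_two⟩
    exact CharTwo.of_one_ne_zero_of_two_eq_zero one_ne_zero h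
  have := FiniteField.even_card_of_char_two (F := F) (ringChar.eq_iff.mpr this)
  omega

/-- The conic: `nf l t` is a product of two elements of trace `α`, `t ≠ 2` (odd `q`). -/
theorem exists_factor (hodd : Fintype.card F % 2 = 1) {l t α : F} (hl : l ≠ 0) (ht : t ≠ 2)
    (hα : α ≠ 0) :
    ∃ A B : SpecialLinearGroup (Fin 2) F, A * B = nf l t hl ∧
      Matrix.trace (A : Matrix (Fin 2) (Fin 2) F) = α ∧
      Matrix.trace (B : Matrix (Fin 2) (Fin 2) F) = α := by
  have h2 : (2 : F) ≠ 0 := two_ne_zero_of_odd hodd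
  have h4 : (4 : F) ≠ 0 := by
    have : (4 : F) = 2 * 2 := by norm_num
    rw [this]
    exact mul_ne_zero h2 h2
  obtain ⟨a, y, hay⟩ : ∃ a y : F, a ^ 2 + y ^ 2 - α * a - α * y + t * a * y + 1 = 0 := by
    by_cases ht' : t = -2
    · refine ⟨(2 * α)⁻¹, (2 * α)⁻¹, ?_⟩
      rw [ht']
      field_simp
      ring
    · obtain ⟨s, rfl⟩ : ∃ s : F, t = 2 * s := ⟨t / 2, by field_simp⟩
      have hq : (1 - s ^ 2 : F) ≠ 0 := by
        intro h
        have h1 : (s - 1) * (s + 1) = 0 := by linear_combination -h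
        rcases mul_eq_zero.mp h1 with h1 | h1
        · exact ht (by linear_combination 2 * h1)
        · exact ht' (by linear_combination 2 * h1)
      obtain ⟨a, b, hab⟩ := FiniteField.exists_root_sum_quadratic
        (f := C 1 * X ^ 2 + C (-α) * X + C 1)
        (g := C (1 - s ^ 2) * X ^ 2 + C (α * (s - 1)) * X + C 0)
        (Polynomial.degree_quadratic one_ne_zero) (Polynomial.degree_quadratic hq) hodd
      refine ⟨a - s * b, b, ?_⟩
      simp only [eval_add, eval_mul, eval_C, eval_pow, eval_X] at hab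
      linear_combination hab
  have hA : a * (α - a) - (-(y / l)) * (l * (α - y - a * t)) = 1 := by
    field_simp
    linear_combination -hay
  refine ⟨mk2 a (-(y / l)) (l * (α - y - a * t)) (α - a) hA,
    (mk2 a (-(y / l)) (l * (α - y - a * t)) (α - a) hA)⁻¹ * nf l t hl, ?_, ?_, ?_⟩
  · group
  · simp [Matrix.trace_fin_two]
  · rw [Matrix.SpecialLinearGroup.coe_mul, Matrix.SpecialLinearGroup.coe_inv, nf_coe, mk2_coe]
    simp [Matrix.trace_fin_two, Matrix.adjugate_fin_two]
    field_simp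
    ring

omit [Fintype F] in
/-- A central element has trace with square `4`. -/
theorem trace_of_center {A : SpecialLinearGroup (Fin 2) F}
    (hA : A ∈ Subgroup.center (SpecialLinearGroup (Fin 2) F)) :
    (Matrix.trace (A : Matrix (Fin 2) (Fin 2) F)) ^ 2 = 4 := by
  obtain ⟨r, hr, hr'⟩ := Matrix.SpecialLinearGroup.mem_center_iff.mp hA
  rw [Fintype.card_fin] at hr
  rw [← hr']
  simp
  linear_combination 4 * hr

end Cfsg.Agent.H145.SLTwo
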