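import Cfsg.Agent.H638.FD.Blk
import Mathlib
import Cfsg.Agent.H686.CharKit
import Cfsg.Agent.Characters.GaloisBasic
import Cfsg.Agent.Characters.DegreeBounds
import Cfsg.Agent.Characters.ExceptionalIsometry
import Cfsg.Agent.H849.OZ.Bad_m3
import Cfsg.Agent.H596.Degree
import Cfsg.Agent.MTwelve.SmallDegree
import Cfsg.Agent.Involutions.IndexFive
import Cfsg.Agent.PLocal.CyclicIndexP
import Cfsg.Agent.Characters.CNBasic
import Cfsg.Agent.CharactersDeep.FeitOddAux
import Cfsg.Agent.S4604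
import Cfsg.Agent.S0142
import Cfsg.Agent.H713.Invol
import Cfsg.Agent.Characters.SchurBound
import Cfsg.Agent.H710.VanCount
import Cfsg.Agent.H424.DegTools
import Cfsg.Prelude.Def_DegreeGraph
import Cfsg.Agent.H604.FD.Inner
import Cfsg.Agent.H145.U3Psu
import Cfsg.Agent.Characters.Clifford
import Cfsg.Agent.Blocks.Deflate
import Cfsg.Agent.S0887
import Cfsg.Agent.Lib.FieldAutCard
import Cfsg.Agent.Characters.Core
import Cfsg.Agent.PermutationGroups.PermChar
import Cfsg.Agent.H894.Derange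
import Cfsg.Agent.H79.MinIdxSp2.Concrete
import Cfsg.Agent.H957.NoFixSymp
import Cfsg.Agent.H167.HasStLie
import Cfsg.Agent.KFacts.RgdFld.Two_m3
import Cfsg.Agent.S0245
import Cfsg.Agent.S0270
import Cfsg.Agent.KFacts.He.TwoA_m3
import Cfsg.Agent.H547.SelfCent.He
import Cfsg.Agent.S2075
import Cfsg.Agent.H604.FD.Degs
import Cfsg.Agent.H604.Cop.Conway
import Cfsg.Agent.H270.Crit.Base
import Cfsg.Agent.H370.JNorm
import Cfsg.Agent.H839.SeventeenMain_m3
import Cfsg.Agent.H729.PairTool_m3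
import Cfsg.Agent.OddHalf.Table.OutRu
import Cfsg.Agent.RuD.IdxPermG_m3
import Cfsg.Agent.KFacts.Ru.Core
import Cfsg.Agent.RuRed.Final768_m3
import Cfsg.Agent.H603.SporElim
import Cfsg.Agent.HoltZ.Crit
import Cfsg.Agent.SmallSimple.ClassDvd
import Cfsg.Agent.S1697
import Cfsg.Agent.S2068
import Cfsg.Agent.S2069
import Cfsg.Agent.S2070
import Cfsg.Agent.S2071
import Cfsg.Agent.S2077
import Cfsg.Agent.S2080
import Cfsg.Agent.S4106
import Cfsg.Agent.H710.Spor.HNMix
import Cfsg.Agent.H740.Eight.TwFTwo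
import Cfsg.Agent.Tits.Opp
import Cfsg.Agent.H638.FD.LieGen
import Cfsg.Agent.H235.ExtOut
import Cfsg.Agent.H691.StExt
import Cfsg.Agent.FastGrp
import Cfsg.Agent.Prune
set_option linter.all false

section
prune_inst 0x7f00000000000000000000000000000000000000000000000000000000000000000000000000000000000000000000000000000000000000000000000000000000000000000000000000000000000000003fff7effffffffffffffffffffffbeffbdfbfeffff

-- part: H590/Five/Check_mg
section
set_option linter.all false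
open scoped Cfsg.Agent.FastGrp

-- part: H590/Five/Blk2
section
/-!
# Principal blocks with cyclic defect group and few character degrees, with the number of linear characters (helper590)

`degs` : `H638.FD.Blk.degs` with two more conclusions: `e ∣ p - 1`, and if the exceptional degree `f` is 1 then there is
one more linear character.
-/

set_option autoImplicit false
set_option linter.unusedSectionVars false

namespace Cfsg.Agent.H590.Five.Blk2

open Cfsg Cfsg.Agent.Characters Cfsg.Agent.Blocks Cfsg.Agent.H638.FD.Blk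

universe u

variable {G : Type u} [Group G] [Finite G] {p : ℕ} [hp : Fact p.Prime]

/-- Counting in the principal block of a group with few character degrees. -/
theorem degs (h2 : p ≠ 2) (P : Sylow p G) (hP : IsCyclic P) {k : ℕ} (hk : 1 ≤ k)
    (hc : Nat.card P = p ^ k) {e : ℕ}
    (he : (Subgroup.centralizer ((P : Subgroup G) : Set G)).relIndex (Subgroup.normalizer ((P : Subgroup G) : Set G)) = e)
    (hN : ∀ N : Subgroup G, N.Normal → N.index ≠ p) {a b c : ℕ} (hcd : charDegrees G ⊆ {1, a, b, c})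
    (ha : a ≠ 1) (hb : b ≠ 1) (hc' : c ≠ 1) (hab : a ≠ b) (hac : a ≠ c) (hbc : b ≠ c) :
    e ∣ p - 1 ∧ ∃ (n₁ na nb nc : ℕ) (sa sb sc s : ℤ) (f : ℕ), 1 ≤ n₁ ∧ n₁ ≤ (commutator G).index ∧
      (f = 1 → n₁ + 1 ≤ (commutator G).index) ∧ n₁ + na + nb + nc = e ∧
      (sa = 1 ∨ sa = -1) ∧ (sb = 1 ∨ sb = -1) ∧ (sc = 1 ∨ sc = -1) ∧ (s = 1 ∨ s = -1) ∧
      (na ≠ 0 → (p : ℤ) ^ k ∣ sa * a - 1) ∧ (nb ≠ 0 → (p : ℤ) ^ k ∣ sb * b - 1) ∧
      (nc ≠ 0 → (p : ℤ) ^ k ∣ sc * c - 1) ∧ (f = 1 ∨ f = a ∨ f = b ∨ f = c) ∧ (p : ℤ) ^ k ∣ f + e * s ∧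
      n₁ + sa * na * a + sb * nb * b + sc * nc * c + s * f = 0 := by
  classical
  have hpp : p.Prime := hp.out
  have : Fintype (IrrCharacter G) := @Fintype.ofFinite _ Core.finite_irr
  obtain ⟨M, hM⟩ := ExistsModular.exists_isPModular hpp
  obtain ⟨hep, X, Y, δ, δ₀, hB, hd, hX, hY, h1X, hδ1, hδ, hδ₀, hcX, hcY, hsum⟩ := struct hM P hP hk hc he hN
  have hpk : (2 : ℤ) < (p : ℤ) ^ k := by
    have h3 : 3 ≤ p := by
      rcases hpp.eq_two_or_odd' with h | h
      · exact absurd h h2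
      · rcases h with ⟨m, hm⟩; have := hpp.two_le; omega
    have h4 : p ^ 1 ≤ p ^ k := Nat.pow_le_pow_right hpp.pos hk
    rw [pow_one] at h4
    have h5 : 2 < p ^ k := by omega
    exact_mod_cast h5
  -- the sign depends only on the degree
  have hsgn : ∀ χ ∈ X, ∀ χ' ∈ X, charDegree (χ : G → ℂ) = charDegree (χ' : G → ℂ) → δ χ = δ χ' := by
    intro χ hχ χ' hχ' hdeg
    have h3 := hcX χ hχ
    have h4 := hcX χ' hχ'
    rw [← hdeg] at h4
    rcases hδ χ hχ with h | h <;> rcases hδ χ' hχ' with h' | h' <;> rw [h, h'] <;> exfalso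
    · rw [h] at h3; rw [h'] at h4
      have h5 := dvd_add h3 h4
      have h6 : 1 * (charDegree (χ : G → ℂ) : ℤ) - 1 + (-1 * (charDegree (χ : G → ℂ) : ℤ) - 1) = -2 := by ring
      rw [h6, dvd_neg] at h5
      exact absurd (Int.le_of_dvd (by norm_num) h5) (by omega)
    · rw [h] at h3; rw [h'] at h4
      have h5 := dvd_add h3 h4
      have h6 : -1 * (charDegree (χ : G → ℂ) : ℤ) - 1 + (1 * (charDegree (χ : G → ℂ) : ℤ) - 1) = -2 := by ring
      rw [h6, dvd_neg] at h5
      exact absurd (Int.le_of_dvd (by norm_num) h5) (by omega)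
  have hmem : ∀ χ : IrrCharacter G, charDegree (χ : G → ℂ) = 1 ∨ charDegree (χ : G → ℂ) = a ∨
      charDegree (χ : G → ℂ) = b ∨ charDegree (χ : G → ℂ) = c := by
    intro χ
    have h3 := hcd ⟨χ, rfl⟩
    simpa using h3
  -- the sum over a degree
  let D : ℕ → Finset (IrrCharacter G) := fun d => X.filter fun χ => charDegree (χ : G → ℂ) = d
  have hS : ∀ d : ℕ, ∃ s : ℤ, (s = 1 ∨ s = -1) ∧ (∀ χ ∈ D d, δ χ = s) := by
    intro d
    by_cases hne : (D d).Nonempty
    · obtain ⟨χ, hχ⟩ := hne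
      have h3 := Finset.mem_filter.1 hχ
      refine ⟨δ χ, hδ χ h3.1, fun χ' hχ' => ?_⟩
      have h4 := Finset.mem_filter.1 hχ'
      exact hsgn _ h4.1 _ h3.1 (by rw [h4.2, h3.2])
    · rw [Finset.not_nonempty_iff_eq_empty] at hne
      exact ⟨1, Or.inl rfl, by rw [hne]; simp⟩
  have hDsum : ∀ d : ℕ, ∀ s : ℤ, (∀ χ ∈ D d, δ χ = s) →
      ∑ χ ∈ D d, δ χ * (charDegree (χ : G → ℂ) : ℤ) = s * (D d).card * d := by
    intro d s hs
    have h3 : ∀ χ ∈ D d, δ χ * (charDegree (χ : G → ℂ) : ℤ) = s * d := by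
      intro χ hχ
      rw [hs χ hχ, (Finset.mem_filter.1 hχ).2]
    rw [Finset.sum_congr rfl h3, Finset.sum_const, nsmul_eq_mul]; ring
  have hXd : X = D 1 ∪ (D a ∪ (D b ∪ D c)) := by
    ext χ
    simp only [D, Finset.mem_union, Finset.mem_filter]
    constructor
    · intro h3
      rcases hmem χ with h | h | h | h
      · exact Or.inl ⟨h3, h⟩
      · exact Or.inr (Or.inl ⟨h3, h⟩)
      · exact Or.inr (Or.inr (Or.inl ⟨h3, h⟩))
      · exact Or.inr (Or.inr (Or.inr ⟨h3, h⟩))
    · rintro (h | h | h | h) <;> exact h.1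
  have hdisj : ∀ d d' : ℕ, d ≠ d' → Disjoint (D d) (D d') := by
    intro d d' hdd
    rw [Finset.disjoint_left]
    intro χ h3 h4
    exact hdd ((Finset.mem_filter.1 h3).2.symm.trans (Finset.mem_filter.1 h4).2)
  have hdj1 : Disjoint (D b) (D c) := hdisj _ _ hbc
  have hdj2 : Disjoint (D a) (D b ∪ D c) := Finset.disjoint_union_right.2 ⟨hdisj _ _ hab, hdisj _ _ hac⟩
  have hdj3 : Disjoint (D 1) (D a ∪ (D b ∪ D c)) := Finset.disjoint_union_right.2
    ⟨hdisj _ _ ha.symm, Finset.disjoint_union_right.2 ⟨hdisj _ _ hb.symm, hdisj _ _ hc'.symm⟩⟩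
  obtain ⟨sa, hsa, hsa'⟩ := hS a
  obtain ⟨sb, hsb, hsb'⟩ := hS b
  obtain ⟨sc, hsc, hsc'⟩ := hS c
  have hs1 : ∀ χ ∈ D 1, δ χ = 1 := by
    intro χ hχ
    have h3 := Finset.mem_filter.1 hχ
    rw [← hδ1]
    exact hsgn _ h3.1 _ h1X (by rw [h3.2, deg_one])
  have hYne : Y.Nonempty := by
    rw [← Finset.card_pos, hY]
    apply Nat.div_pos
    · have hp1 : 0 < p - 1 := Nat.sub_pos_of_lt hpp.one_lt
      have h3 : e ≤ p - 1 := Nat.le_of_dvd hp1 hep
      have h4 : p ^ 1 ≤ p ^ k := Nat.pow_le_pow_right hpp.pos hk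
      rw [pow_one] at h4
      omega
    · rw [← hX]; exact Finset.card_pos.2 ⟨_, h1X⟩
  obtain ⟨ψ, hψ⟩ := hYne
  have hcongr : ∀ d : ℕ, ∀ s : ℤ, (∀ χ ∈ D d, δ χ = s) → (D d).card ≠ 0 → (p : ℤ) ^ k ∣ s * d - 1 := by
    intro d s hs hne
    obtain ⟨χ, hχ⟩ := Finset.card_ne_zero.1 hne
    have h3 := Finset.mem_filter.1 hχ
    have h4 := hcX χ h3.1
    rwa [hs χ hχ, h3.2] at h4
  refine ⟨hep, (D 1).card, (D a).card, (D b).card, (D c).card, sa, sb, sc, δ₀, charDegree (ψ : G → ℂ), ?_, ?_, ?_, ?_, hsa, hsb,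
    hsc, hδ₀, hcongr a sa hsa', hcongr b sb hsb', hcongr c sc hsc', hmem ψ, hcY ψ hψ, ?_⟩
  · exact Finset.card_pos.2 ⟨_, Finset.mem_filter.2 ⟨h1X, deg_one⟩⟩
  · rw [← card_linear]
    refine Finset.card_le_card fun χ hχ => ?_
    exact Finset.mem_filter.2 ⟨Finset.mem_univ _, (Finset.mem_filter.1 hχ).2⟩
  · intro hf1
    have h3 : ψ ∉ D 1 := fun h => Finset.disjoint_left.1 hd (Finset.mem_filter.1 h).1 hψ
    rw [← card_linear, ← Finset.card_insert_of_notMem h3]
    refine Finset.card_le_card fun χ hχ => ?_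
    rcases Finset.mem_insert.1 hχ with rfl | h
    · exact Finset.mem_filter.2 ⟨Finset.mem_univ _, hf1⟩
    · exact Finset.mem_filter.2 ⟨Finset.mem_univ _, (Finset.mem_filter.1 h).2⟩
  · have h3 : X.card = (D 1).card + ((D a).card + ((D b).card + (D c).card)) := by
      conv_lhs => rw [hXd]
      rw [Finset.card_union_of_disjoint hdj3, Finset.card_union_of_disjoint hdj2, Finset.card_union_of_disjoint hdj1]
    omega
  · have h3 := hsum ψ hψ
    have h4 : ∑ χ ∈ X, δ χ * (charDegree (χ : G → ℂ) : ℤ) = ∑ χ ∈ D 1 ∪ (D a ∪ (D b ∪ D c)), δ χ * (charDegree (χ : G → ℂ) : ℤ) := by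
      rw [← hXd]
    rw [h4, Finset.sum_union hdj3, Finset.sum_union hdj2, Finset.sum_union hdj1, hDsum 1 1 hs1, hDsum a sa hsa',
      hDsum b sb hsb', hDsum c sc hsc'] at h3
    push_cast at h3
    linarith only [h3]

end Cfsg.Agent.H590.Five.Blk2
end

-- part: H598/Gram
section
/-!
# Multiplicities of the eigenvalues of an element of prime order

For `y` of order `p` and an irreducible character `χ` let `a χ j` be the multiplicity of the
eigenvalue `ζ ^ j` of `y`.  The Gram matrix of the vectors `(a χ j)_χ`.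
-/

set_option autoImplicit false

namespace Cfsg.Agent.H598.Gram

open Cfsg Cfsg.Agent.Characters Cfsg.Agent.H686.CharKit
open scoped ComplexConjugate

universe u

section mult

variable {G : Type u} [Group G] {p : ℕ} [hp : Fact p.Prime]

theorem sum_stdAddChar_mul (b : ZMod p) :
    ∑ k : ZMod p, (ZMod.stdAddChar (b * k) : ℂ) = if b = 0 then (p : ℂ) else 0 := by
  have h := AddChar.sum_mulShift (R := ZMod p) (R' := ℂ) (ψ := ZMod.stdAddChar) b
    (ZMod.isPrimitive_stdAddChar p)
  simp only [mul_comm _ b] at h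
  rw [h, ZMod.card]
  simp

/-- Inversion formula. -/
theorem mult_eq {f : ZMod p → ℂ} {a : ZMod p → ℂ}
    (h : ∀ k : ZMod p, f k = ∑ j, a j * ZMod.stdAddChar (j * k)) (j : ZMod p) :
    (p : ℂ) * a j = ∑ k, f k * ZMod.stdAddChar (-(j * k)) := by
  have h1 : ∀ k, f k * ZMod.stdAddChar (-(j * k))
      = ∑ l, a l * ZMod.stdAddChar ((l - j) * k) := by
    intro k
    rw [h k, Finset.sum_mul]
    refine Finset.sum_congr rfl fun l _ => ?_
    rw [mul_assoc, ← AddChar.map_add_eq_mul]
    congr 2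
    ring
  rw [Finset.sum_congr rfl fun k _ => h1 k, Finset.sum_comm]
  simp only [← Finset.mul_sum, sum_stdAddChar_mul, sub_eq_zero]
  rw [Finset.sum_eq_single j]
  · simp [mul_comm]
  · intro l _ hl
    rw [if_neg hl, mul_zero]
  · intro h
    exact absurd (Finset.mem_univ j) h

end mult

section gram

variable {G : Type u} [Group G] [Finite G] {p : ℕ} [hp : Fact p.Prime]

/-- A family of multiplicities of the eigenvalues of `y` for the irreducible characters. -/
def IsMult (y : G) (a : IrrCharacter G → ZMod p → ℕ) : Prop :=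
  ∀ χ : IrrCharacter G,
    (∀ k : ZMod p, (χ : G → ℂ) (y ^ k.val) = ∑ j, (a χ j : ℂ) * ZMod.stdAddChar (j * k)) ∧
      (χ : G → ℂ) 1 = ∑ j, (a χ j : ℂ)

omit [Finite G] in
theorem IsMult.inv {y : G} {a : IrrCharacter G → ZMod p → ℕ} (ha : IsMult y a)
    (χ : IrrCharacter G) (j : ZMod p) :
    (p : ℂ) * a χ j = ∑ k : ZMod p, (χ : G → ℂ) (y ^ k.val) * ZMod.stdAddChar (-(j * k)) :=
  mult_eq (f := fun k : ZMod p => (χ : G → ℂ) (y ^ k.val)) (a := fun j => (a χ j : ℂ))
    (ha χ).1 j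

theorem conj_stdAddChar (x : ZMod p) :
    conj (ZMod.stdAddChar x : ℂ) = ZMod.stdAddChar (-x) := by
  rw [AddChar.map_neg_eq_conj]

/-- The character induced from a linear character of `⟨y⟩`. -/
theorem IsMult.col [Fintype (IrrCharacter G)] {y : G} {a : IrrCharacter G → ZMod p → ℕ}
    (ha : IsMult y a) (g : G) (l : ZMod p) [∀ h : G, Decidable (IsConj g h)] :
    (p : ℂ) * ∑ χ : IrrCharacter G, (χ : G → ℂ) g * a χ l
      = ∑ k : ZMod p, ZMod.stdAddChar (l * k) *
        (if IsConj g (y ^ k.val) then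
          (Nat.card (Subgroup.centralizer ({y ^ k.val} : Set G)) : ℂ) else 0) := by
  have h1 : ∀ χ : IrrCharacter G, (p : ℂ) * ((χ : G → ℂ) g * a χ l)
      = ∑ k : ZMod p, ZMod.stdAddChar (l * k) *
        ((χ : G → ℂ) g * conj ((χ : G → ℂ) (y ^ k.val))) := by
    intro χ
    have h2 : (p : ℂ) * a χ l
        = ∑ k : ZMod p, conj ((χ : G → ℂ) (y ^ k.val)) * ZMod.stdAddChar (l * k) := by
      have h3 := congrArg conj (ha.inv χ l)
      rw [map_mul, Complex.conj_natCast, Complex.conj_natCast, map_sum] at h3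
      rw [h3]
      refine Finset.sum_congr rfl fun k _ => ?_
      rw [map_mul, conj_stdAddChar, neg_neg]
    rw [mul_left_comm, h2, Finset.mul_sum]
    refine Finset.sum_congr rfl fun k _ => ?_
    ring
  rw [Finset.mul_sum, Finset.sum_congr rfl fun χ _ => h1 χ, Finset.sum_comm]
  refine Finset.sum_congr rfl fun k _ => ?_
  rw [← Finset.mul_sum, col_orth g (y ^ k.val)]

/-- The exponents `t` with `y ^ t` conjugate to `y`. -/
noncomputable def expo (p : ℕ) [Fact p.Prime] (y : G) : Finset (ZMod p) :=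
  haveI := Classical.decPred fun t : ZMod p => t ≠ 0 ∧ IsConj y (y ^ t.val)
  Finset.univ.filter fun t : ZMod p => t ≠ 0 ∧ IsConj y (y ^ t.val)

omit [Finite G] in
theorem mem_expo {y : G} {t : ZMod p} : t ∈ expo p y ↔ t ≠ 0 ∧ IsConj y (y ^ t.val) := by
  unfold expo
  simp only [_root_.ne_eq, _root_.isConj_iff, _root_.Finset.mem_filter, _root_.Finset.mem_univ, _root_.true_and]

omit [Finite G] in
theorem pow_val_mul {y : G} (hy : y ^ p = 1) (k t : ZMod p) :
    y ^ (k * t).val = (y ^ k.val) ^ t.val := by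
  rw [ZMod.val_mul, ← pow_mul, ← pow_eq_pow_mod _ hy]

omit [Finite G] in
theorem pow_val_inv {y : G} (hy : y ^ p = 1) {k : ZMod p} (hk : k ≠ 0) :
    (y ^ k.val) ^ (k⁻¹).val = y := by
  rw [← pow_val_mul hy, mul_inv_cancel₀ hk]
  have : Fact (1 < p) := ⟨hp.out.one_lt⟩
  rw [ZMod.val_one, pow_one]

omit [Finite G] in
theorem centralizer_pow_val {y : G} (hy : y ^ p = 1) {k : ZMod p} (hk : k ≠ 0) :
    Subgroup.centralizer ({y ^ k.val} : Set G) = Subgroup.centralizer ({y} : Set G) := by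
  ext g
  rw [Subgroup.mem_centralizer_singleton_iff, Subgroup.mem_centralizer_singleton_iff]
  constructor
  · intro h
    have h1 : Commute g (y ^ k.val) := h
    have h2 := h1.pow_right (k⁻¹).val
    rw [pow_val_inv hy hk] at h2
    exact h2
  · intro h
    have h1 : Commute g y := h
    exact h1.pow_right k.val

omit [Finite G] in
theorem isConj_pow_val_iff {y : G} (hy : y ^ p = 1) {k : ZMod p} (hk : k ≠ 0) (t : ZMod p) :
    IsConj (y ^ k.val) (y ^ (k * t).val) ↔ IsConj y (y ^ t.val) := by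
  constructor
  · intro h
    have h1 := h.pow (k⁻¹).val
    rw [pow_val_inv hy hk, ← pow_val_mul hy, mul_comm (k * t), inv_mul_cancel_left₀ hk] at h1
    exact h1
  · intro h
    have h1 := h.pow k.val
    rwa [← pow_val_mul hy, mul_comm t k] at h1

theorem IsMult.col_one [Fintype (IrrCharacter G)] {y : G} (hy : y ^ p = 1) (hy1 : y ≠ 1)
    {a : IrrCharacter G → ZMod p → ℕ}
    (ha : IsMult y a) (l : ZMod p) :
    (p : ℂ) * ∑ χ : IrrCharacter G, (χ : G → ℂ) 1 * a χ l = Nat.card G := by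
  classical
  rw [ha.col 1 l, Finset.sum_eq_single 0]
  · rw [ZMod.val_zero, pow_zero, if_pos (IsConj.refl _), mul_zero, AddChar.map_zero_eq_one, one_mul]
    have : Subgroup.centralizer ({(1 : G)} : Set G) = ⊤ := by
      rw [eq_top_iff]
      intro x _
      rw [Subgroup.mem_centralizer_singleton_iff, one_mul, mul_one]
    rw [this, Nat.card_congr Subgroup.topEquiv.toEquiv]
  · intro k _ hk
    rw [if_neg, mul_zero]
    intro h
    rw [isConj_one_right] at h
    apply hy1
    rw [← pow_val_inv hy hk, h, one_pow]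
  · intro h
    exact absurd (Finset.mem_univ _) h

theorem IsMult.col_pow [Fintype (IrrCharacter G)] {y : G} (hy : y ^ p = 1) (hy1 : y ≠ 1)
    {a : IrrCharacter G → ZMod p → ℕ}
    (ha : IsMult y a) (l : ZMod p) {k : ZMod p} (hk : k ≠ 0) :
    (p : ℂ) * ∑ χ : IrrCharacter G, (χ : G → ℂ) (y ^ k.val) * a χ l
      = Nat.card (Subgroup.centralizer ({y} : Set G)) *
        ∑ t ∈ expo p y, ZMod.stdAddChar (l * t * k) := by
  classical
  rw [ha.col _ l, ← Equiv.sum_comp (Equiv.mulLeft₀ k hk)]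
  rw [Finset.mul_sum, ← Finset.sum_subset (Finset.subset_univ (expo p y))]
  · refine Finset.sum_congr rfl fun t ht => ?_
    rw [mem_expo] at ht
    have h1 : (Equiv.mulLeft₀ k hk) t = k * t := rfl
    rw [h1, if_pos ((isConj_pow_val_iff hy hk t).2 ht.2),
      centralizer_pow_val hy (mul_ne_zero hk ht.1), mul_comm (k : ZMod p) t, ← mul_assoc, mul_comm]
  · intro t _ ht
    have h1 : (Equiv.mulLeft₀ k hk) t = k * t := rfl
    rw [h1]
    by_cases ht0 : t = 0
    · subst ht0
      rw [if_neg, mul_zero]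
      rw [mul_zero, ZMod.val_zero, pow_zero, isConj_one_left]
      intro h
      apply hy1
      rw [← pow_val_inv hy hk, h, one_pow]
    · rw [if_neg, mul_zero]
      rw [isConj_pow_val_iff hy hk]
      intro h
      exact ht (mem_expo.2 ⟨ht0, h⟩)

theorem gram_aux [Fintype (IrrCharacter G)] {y : G} (hy : y ^ p = 1) (hy1 : y ≠ 1)
    {a : IrrCharacter G → ZMod p → ℕ} (ha : IsMult y a) (j l : ZMod p) :
    (p : ℂ) * ((p : ℂ) * ∑ χ : IrrCharacter G, (a χ j : ℂ) * a χ l)
      + Nat.card (Subgroup.centralizer ({y} : Set G)) * (expo p y).card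
      = Nat.card G + Nat.card (Subgroup.centralizer ({y} : Set G)) *
        ((p : ℂ) * ((expo p y).filter fun t => l * t = j).card) := by
  classical
  have h1 : (p : ℂ) * ((p : ℂ) * ∑ χ : IrrCharacter G, (a χ j : ℂ) * a χ l)
      = ∑ k : ZMod p, ZMod.stdAddChar (-(j * k)) *
        ((p : ℂ) * ∑ χ : IrrCharacter G, (χ : G → ℂ) (y ^ k.val) * a χ l) := by
    have h2 : ∀ χ : IrrCharacter G, (p : ℂ) * ((a χ j : ℂ) * a χ l)
        = ∑ k : ZMod p, ZMod.stdAddChar (-(j * k)) * ((χ : G → ℂ) (y ^ k.val) * a χ l) := by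
      intro χ
      rw [← mul_assoc, ha.inv χ j, Finset.sum_mul]
      refine Finset.sum_congr rfl fun k _ => ?_
      ring
    rw [Finset.mul_sum (a := (p : ℂ)), Finset.sum_congr rfl fun χ _ => h2 χ, Finset.sum_comm,
      Finset.mul_sum]
    refine Finset.sum_congr rfl fun k _ => ?_
    rw [← Finset.mul_sum]
    ring
  rw [h1, ← Finset.add_sum_erase _ _ (Finset.mem_univ (0 : ZMod p))]
  have h0 : (ZMod.stdAddChar (-(j * 0)) : ℂ) *
      ((p : ℂ) * ∑ χ : IrrCharacter G, (χ : G → ℂ) (y ^ (0 : ZMod p).val) * a χ l) = Nat.card G := by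
    rw [mul_zero, neg_zero, AddChar.map_zero_eq_one, one_mul, ZMod.val_zero, pow_zero,
      ha.col_one hy hy1]
  rw [h0]
  have h3 : ∀ k ∈ (Finset.univ : Finset (ZMod p)).erase 0, (ZMod.stdAddChar (-(j * k)) : ℂ) *
      ((p : ℂ) * ∑ χ : IrrCharacter G, (χ : G → ℂ) (y ^ k.val) * a χ l)
      = Nat.card (Subgroup.centralizer ({y} : Set G)) *
        ∑ t ∈ expo p y, ZMod.stdAddChar ((l * t - j) * k) := by
    intro k hk
    rw [ha.col_pow hy hy1 l (Finset.ne_of_mem_erase hk), mul_left_comm, Finset.mul_sum]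
    congr 1
    refine Finset.sum_congr rfl fun t _ => ?_
    rw [← AddChar.map_add_eq_mul]
    congr 1
    ring
  rw [Finset.sum_congr rfl h3, ← Finset.mul_sum, Finset.sum_comm]
  have h4 : ∀ t ∈ expo p y, ∑ k ∈ (Finset.univ : Finset (ZMod p)).erase 0,
      (ZMod.stdAddChar ((l * t - j) * k) : ℂ) = (if l * t = j then (p : ℂ) else 0) - 1 := by
    intro t _
    have h5 := Finset.add_sum_erase (Finset.univ : Finset (ZMod p))
      (fun k => (ZMod.stdAddChar ((l * t - j) * k) : ℂ)) (Finset.mem_univ (0 : ZMod p))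
    rw [sum_stdAddChar_mul] at h5
    simp only [mul_zero, AddChar.map_zero_eq_one, sub_eq_zero] at h5
    rw [← h5]
    ring
  rw [Finset.sum_congr rfl h4, Finset.sum_sub_distrib, ← Finset.sum_filter, Finset.sum_const,
    Finset.sum_const, nsmul_eq_mul, nsmul_eq_mul]
  ring

/-- The Gram matrix when `⟨y⟩` is its own centralizer. -/
theorem gram [Fintype (IrrCharacter G)] {y : G} (hy : y ^ p = 1) (hy1 : y ≠ 1)
    (hc : Nat.card (Subgroup.centralizer ({y} : Set G)) = p)
    {a : IrrCharacter G → ZMod p → ℕ} (ha : IsMult y a) :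
    ∃ n : ℕ, ∀ j l : ZMod p, ∑ χ : IrrCharacter G, a χ j * a χ l
      = n + ((expo p y).filter fun t => l * t = j).card := by
  have hp0 : (p : ℂ) ≠ 0 := by exact_mod_cast hp.out.ne_zero
  refine ⟨∑ χ : IrrCharacter G, a χ 1 * a χ 0, fun j l => ?_⟩
  have h1 := gram_aux hy hy1 ha 1 0
  have h2 := gram_aux hy hy1 ha j l
  rw [hc] at h1 h2
  have h3 : ((expo p y).filter fun t => (0 : ZMod p) * t = 1).card = 0 := by
    rw [Finset.card_eq_zero, Finset.filter_eq_empty_iff]
    intro t _ h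
    rw [zero_mul] at h
    exact zero_ne_one h
  rw [h3, Nat.cast_zero, mul_zero, mul_zero, add_zero] at h1
  have h4 : (p : ℂ) * ((p : ℂ) * ∑ χ : IrrCharacter G, (a χ j : ℂ) * a χ l)
      = (p : ℂ) * ((p : ℂ) * ((∑ χ : IrrCharacter G, (a χ 1 : ℂ) * a χ 0)
        + ((expo p y).filter fun t => l * t = j).card)) := by
    linear_combination h2 - h1
  have h5 := mul_left_cancel₀ hp0 (mul_left_cancel₀ hp0 h4)
  exact_mod_cast h5

end gram

section comb

variable {X : Type*} [Fintype X] {p : ℕ} [hp : Fact p.Prime]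

/-- The combinatorial hypothesis. -/
structure Data (E : Finset (ZMod p)) (n : ℕ) (a : X → ZMod p → ℕ) : Prop where
  zero_notMem : (0 : ZMod p) ∉ E
  one_mem : (1 : ZMod p) ∈ E
  gram : ∀ j l : ZMod p, ∑ x, a x j * a x l = n + (E.filter fun t => l * t = j).card
  pos : ∀ x, 0 < ∑ j, a x j

variable {E : Finset (ZMod p)} {n : ℕ} {a : X → ZMod p → ℕ}

theorem Data.self (h : Data E n a) {i : ZMod p} (hi : i ≠ 0) : ∑ x, a x i * a x i = n + 1 := by
  rw [h.gram i i]
  congr 1
  have : (E.filter fun t => i * t = i) = {1} := by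
    ext t
    rw [Finset.mem_filter, Finset.mem_singleton]
    constructor
    · rintro ⟨_, h2⟩
      exact mul_left_cancel₀ hi (by rw [h2, mul_one])
    · rintro rfl
      exact ⟨h.one_mem, mul_one i⟩
  rw [this, Finset.card_singleton]

theorem Data.sq_sub (h : Data E n a) {i j : ZMod p} (hi : i ≠ 0) (hj : j ≠ 0) :
    ∑ x, ((a x i : ℤ) - a x j) * ((a x i : ℤ) - a x j)
      = 2 - 2 * (E.filter fun t => j * t = i).card := by
  have h1 := h.self hi
  have h2 := h.self hj
  have h3 := h.gram i j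
  have h1' : ∑ x, (a x i : ℤ) * a x i = n + 1 := by exact_mod_cast h1
  have h2' : ∑ x, (a x j : ℤ) * a x j = n + 1 := by exact_mod_cast h2
  have h3' : ∑ x, (a x i : ℤ) * a x j = n + (E.filter fun t => j * t = i).card := by
    exact_mod_cast h3
  have h4 : ∀ x, ((a x i : ℤ) - a x j) * ((a x i : ℤ) - a x j)
      = (a x i : ℤ) * a x i + (a x j : ℤ) * a x j - 2 * ((a x i : ℤ) * a x j) := by
    intro x; ring
  rw [Finset.sum_congr rfl fun x _ => h4 x, Finset.sum_sub_distrib, Finset.sum_add_distrib,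
    ← Finset.mul_sum, h1', h2', h3']
  ring

/-- Invariance of the multiplicities under `E`. -/
theorem Data.inv (h : Data E n a) {j t : ZMod p} (hj : j ≠ 0) (ht : t ∈ E) (x : X) :
    a x (j * t) = a x j := by
  have ht0 : t ≠ 0 := fun h0 => h.zero_notMem (h0 ▸ ht)
  have h1 := h.sq_sub (mul_ne_zero hj ht0) hj
  have h2 : (E.filter fun s => j * s = j * t).card = 1 := by
    rw [Finset.card_eq_one]
    refine ⟨t, ?_⟩
    ext s
    rw [Finset.mem_filter, Finset.mem_singleton]
    constructor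
    · rintro ⟨_, h2⟩
      exact mul_left_cancel₀ hj h2
    · rintro rfl
      exact ⟨ht, rfl⟩
  rw [h2] at h1
  norm_num only [] at h1
  have h3 := (Finset.sum_eq_zero_iff_of_nonneg (fun x _ => mul_self_nonneg _)).1 h1 x
    (Finset.mem_univ x)
  have h4 := mul_self_eq_zero.1 h3
  have h5 : (a x (j * t) : ℤ) = a x j := by linarith only [h4]
  exact_mod_cast h5

end comb

section final

variable {G : Type u} [Group G] [Finite G] {p : ℕ} [hp : Fact p.Prime]

/-- The principal character. -/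
def prin (G : Type u) [Group G] : IrrCharacter G := ⟨1, Core.isIrr_one⟩

end final

end Cfsg.Agent.H598.Gram
end

-- part: H598/PrimeDegrees
section
/-!
# Simple groups all of whose nonlinear degrees are primes

There is no nonabelian finite simple group of even order all of whose nonprincipal irreducible
characters have prime degree.
-/

set_option autoImplicit false

namespace Cfsg.Agent.H598.PrimeDegrees

open Cfsg Cfsg.Agent Cfsg.Agent.Characters Cfsg.Agent.H686.CharKit
open Cfsg.Agent.H598.Gram (prin)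

universe u

section simple

variable {G : Type u} [Group G] [Finite G] [IsSimpleGroup G]

omit [Finite G] in
theorem commutator_eq_top (hnc : ¬ ∀ x y : G, x * y = y * x) : commutator G = ⊤ := by
  rcases (inferInstance : (commutator G).Normal).eq_bot_or_eq_top with h | h
  · exfalso
    apply hnc
    rw [commutator_def, Subgroup.commutator_eq_bot_iff_le_centralizer] at h
    intro x y
    have := Subgroup.mem_centralizer_iff.1 (h (Subgroup.mem_top x)) y (Subgroup.mem_top y)
    exact this.symm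
  · exact h

omit [Finite G] [IsSimpleGroup G] in
theorem ne_one_of_ne_prin {χ : IrrCharacter G} (h : χ ≠ prin G) : (χ : G → ℂ) ≠ 1 :=
  fun h1 => h (Subtype.ext h1)

/-- nonprincipal characters of nonabelian simple groups are not linear -/
theorem charDegree_ne_one (hG : commutator G = ⊤) {χ : IrrCharacter G} (h : χ ≠ prin G) :
    charDegree (χ : G → ℂ) ≠ 1 := by
  intro h1
  rw [charDegree_eq_one_iff] at h1
  obtain ⟨f, hf⟩ := Linear.exists_hom_of_isIrrCharacter χ.2 h1
  apply ne_one_of_ne_prin h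
  rw [hf]
  funext g
  have h2 : commutator G ≤ f.ker := Abelianization.commutator_subset_ker f
  rw [hG] at h2
  have h3 : f g = 1 := h2 (Subgroup.mem_top g)
  rw [h3]
  rfl

theorem norm_ne (hG : commutator G = ⊤) {χ : IrrCharacter G} (h : χ ≠ prin G) {g : G}
    (hg : g ≠ 1) : ‖(χ : G → ℂ) g‖ ≠ charDegree (χ : G → ℂ) := by
  intro h1
  apply hg
  apply MTwelve.SmallDegree.eq_one_of_norm_eq hG χ.2 (ne_one_of_ne_prin h)
  rw [h1, ← charDegree_irr χ, Complex.norm_natCast]

/-- no irreducible character of degree two -/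
theorem charDegree_ne_two (hG : commutator G = ⊤) (χ : IrrCharacter G) :
    charDegree (χ : G → ℂ) ≠ 2 := by
  intro h2
  have hne : χ ≠ prin G := by
    rintro rfl
    have : charDegree ((prin G : IrrCharacter G) : G → ℂ) = 1 := by
      rw [charDegree_eq_one_iff]; rfl
    omega
  have hdvd : 2 ∣ Nat.card G := by
    rw [← h2]
    exact Cfsg.Agent.H596.charDegree_dvd_card χ.2
  have := Fact.mk Nat.prime_two
  obtain ⟨t, ht⟩ := exists_prime_orderOf_dvd_card' 2 hdvd
  have ht1 : t ≠ 1 := by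
    rintro rfl
    rw [orderOf_one] at ht
    norm_num at ht
  obtain ⟨k, hk⟩ := MTwelve.SmallDegree.character_eq_add_four_mul hG
    (Core.isIrr_isCharacter χ.2) (g := t) (by rw [← ht, pow_orderOf_eq_one])
  rw [← charDegree_irr χ, h2] at hk
  have h3 : (χ : G → ℂ) t = ((2 - 4 * k : ℤ) : ℂ) := by
    push_cast
    push_cast at hk
    linear_combination -hk
  obtain ⟨n, ρ, hρ, hρχ⟩ := χ.2
  have h4 : ‖(χ : G → ℂ) t‖ ≤ (charDegree (χ : G → ℂ) : ℝ) := by
    have h5 := Values.norm_character_le ρ t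
    rw [hρχ] at h5
    have h6 : ρ.character 1 = (Module.finrank ℂ (Fin n → ℂ) : ℂ) := Representation.char_one ρ
    rw [hρχ, ← charDegree_irr χ] at h6
    have h7 : charDegree (χ : G → ℂ) = Module.finrank ℂ (Fin n → ℂ) := by exact_mod_cast h6
    rw [h7]
    exact h5
  apply norm_ne hG hne ht1
  rw [h2] at h4 ⊢
  rw [h3, Complex.norm_intCast] at h4 ⊢
  have h8 : |(2 - 4 * (k : ℤ))| ≤ 2 := by exact_mod_cast h4
  rw [abs_le] at h8
  have hk1 : k = 0 ∨ k = 1 := by omega
  rcases hk1 with rfl | rfl <;> norm_num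

end simple

end Cfsg.Agent.H598.PrimeDegrees
end

-- part: H590/Five/Setup
section
/-!
# Character degrees of almost simple groups `M ≤ G`, `|G : M| ≤ 2` (helper590)

* `Ctx M` : `M` is a perfect simple normal subgroup of `G` with trivial centralizer, of index 1 or 2;
* `Ctx.deg_over` : the degree of `χ` is `k` times the degree of a constituent of its restriction, `k = 1` or `k = 2`;
* `Ctx.exists_deg` : the degrees of `M` occur in `G`, up to a factor 2;
* `Ctx.ne_two` : there is no character of degree two;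
* `Ctx.apply_ne` : nonlinear characters are faithful on `M`;
* `Ctx.index_ne` : no normal subgroup of odd prime index;
* `Ctx.index_comm` : `|G : G'|` divides `|G : M|`.
-/

set_option autoImplicit false

namespace Cfsg.Agent.H590.Five.Setup

open Cfsg Cfsg.Agent.Characters.Core Cfsg.Agent.Characters.Clifford Cfsg.Agent.Blocks.Basic
open Cfsg.Agent.H665.NoPQ
open Cfsg.Agent.H598.Gram (prin)
open scoped ComplexConjugate

universe u

variable {G : Type u} [Group G] [Finite G]

/-- the situation -/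
structure Ctx (M : Subgroup G) : Prop where
  normal : M.Normal
  simple : IsSimpleGroup M
  perf : commutator M = ⊤
  idx : M.index ∣ 2
  cent : Subgroup.centralizer (M : Set G) = ⊥

/-- The sum of the squares of the multiplicities in the restriction is at most the index. -/
theorem sum_sq_le [Fintype G] (N : Subgroup G) [Fintype N] [Fintype (IrrCharacter N)] {χ : G → ℂ}
    (hχ : IsIrrCharacter G χ) {m : IrrCharacter N → ℕ}
    (hm : (fun n : N => χ n) = ∑ η : IrrCharacter N, m η • (η : N → ℂ)) : ∑ η, m η * m η ≤ N.index := by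
  have h1 : classInner (fun n : N => χ n) (fun n : N => χ n) = ((∑ η, m η * m η : ℕ) : ℂ) := by
    have h2 : (fun n : N => χ n) = ∑ η : IrrCharacter N, (m η : ℂ) • (η : N → ℂ) := by
      rw [hm]
      refine Finset.sum_congr rfl fun η _ => ?_
      rw [Nat.cast_smul_eq_nsmul]
    rw [h2, classInner_sum_smul_sum_smul]
    push_cast
    refine Finset.sum_congr rfl fun η _ => ?_
    rw [Complex.conj_natCast]
  rw [classInner_self_eq_ofReal] at h1
  have h3 : ((Nat.card N : ℝ)⁻¹ * ∑ g : N, Complex.normSq (χ g)) = ((∑ η, m η * m η : ℕ) : ℝ) := by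
    exact_mod_cast h1
  have h4 := classInner_irr_self hχ
  rw [classInner_self_eq_ofReal] at h4
  have h5 : ((Nat.card G : ℝ)⁻¹ * ∑ g : G, Complex.normSq (χ g)) = 1 := by exact_mod_cast h4
  have hG : (0 : ℝ) < Nat.card G := by exact_mod_cast Nat.card_pos
  have hN : (0 : ℝ) < Nat.card N := by exact_mod_cast Nat.card_pos
  have h6 : ∑ g : G, Complex.normSq (χ g) = Nat.card G := by
    field_simp at h5
    linarith only [h5]
  have h7 : ∑ g : N, Complex.normSq (χ g) ≤ ∑ g : G, Complex.normSq (χ g) := by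
    have h8 : ∑ g : N, Complex.normSq (χ g) =
        ∑ g ∈ Finset.univ.map (Function.Embedding.subtype (· ∈ N)), Complex.normSq (χ g) := by
      rw [Finset.sum_map]
      rfl
    rw [h8]
    exact Finset.sum_le_sum_of_subset_of_nonneg (Finset.subset_univ _) fun _ _ _ => Complex.normSq_nonneg _
  have h9 : ((∑ η, m η * m η : ℕ) : ℝ) ≤ N.index := by
    rw [← h3, inv_mul_le_iff₀ hN]
    have h10 : (Nat.card G : ℝ) = Nat.card N * N.index := by exact_mod_cast N.card_mul_index.symm
    linarith only [h6, h7, h10]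
  exact_mod_cast h9

namespace Ctx

variable {M : Subgroup G}

omit [Finite G] in
theorem idx_le (c : Ctx M) : M.index ≤ 2 := Nat.le_of_dvd (by norm_num) c.idx

theorem deg_over (c : Ctx M) {χ : G → ℂ} (hχ : IsIrrCharacter G χ) {θ : M → ℂ} (hθ : IsIrrCharacter M θ)
    [Fintype M] (hne : classInner (fun n : M => χ n) θ ≠ 0) :
    (charDegree χ = charDegree θ ∨ charDegree χ = 2 * charDegree θ) ∧
      (θ = 1 → charDegree χ = 1) := by
  classical
  have := c.normal
  have := Fintype.ofFinite G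
  have := finite_irr (G := M)
  have := Fintype.ofFinite (IrrCharacter M)
  obtain ⟨m, hm⟩ := exists_nat_comb (isCharacter_restrict M (isIrr_isCharacter hχ))
  have hconst : ∀ η : IrrCharacter M, m η ≠ 0 → ∃ g : G, (η : M → ℂ) = θ ∘ (MulAut.conjNormal g : MulAut M) := by
    intro η hη
    have h3 : classInner (fun n : M => χ n) (η : M → ℂ) ≠ 0 := by
      rw [hm, classInner_sum_nsmul_irr]
      exact_mod_cast hη
    exact exists_conj_of_constituents M hχ hθ η.2 hne h3
  have h1 : charDegree χ = (∑ η : IrrCharacter M, m η) * charDegree θ := by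
    have h0 : (charDegree χ : ℂ) = ((∑ η : IrrCharacter M, m η) * charDegree θ : ℕ) := by
      rw [← irr_one_eq_charDegree hχ]
      have h2 := congrFun hm 1
      simp only [Finset.sum_apply, Pi.smul_apply, OneMemClass.coe_one] at h2
      rw [h2, Finset.sum_mul]
      push_cast
      refine Finset.sum_congr rfl fun η _ => ?_
      by_cases hη : m η = 0
      · simp [hη]
      · obtain ⟨g, hg⟩ := hconst η hη
        have h4 : (η : M → ℂ) 1 = θ 1 := by
          rw [hg]
          simp only [_root_.Function.comp_apply, _root_.map_one]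
        rw [h4, irr_one_eq_charDegree hθ, nsmul_eq_mul]
    exact_mod_cast h0
  have h2 := sum_sq_le M hχ hm
  have h3 : ∑ η : IrrCharacter M, m η ≤ ∑ η, m η * m η :=
    Finset.sum_le_sum fun η _ => Nat.le_mul_self (m η)
  have h4 := c.idx_le
  have hpos : 0 < charDegree χ := charDegree_pos hχ
  have h5 : ∑ η : IrrCharacter M, m η ≠ 0 := by
    intro h
    rw [h, zero_mul] at h1
    omega
  refine ⟨?_, ?_⟩
  · rcases (show ∑ η : IrrCharacter M, m η = 1 ∨ ∑ η : IrrCharacter M, m η = 2 by omega) with h | h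
    · left; rw [h1, h, one_mul]
    · right; rw [h1, h]
  · intro hθ1
    -- all constituents are trivial
    let t : IrrCharacter M := ⟨θ, hθ⟩
    have h6 : ∀ η : IrrCharacter M, η ≠ t → m η = 0 := by
      intro η hη
      by_contra h
      obtain ⟨g, hg⟩ := hconst η h
      apply hη
      apply Subtype.ext
      show (η : M → ℂ) = θ
      rw [hg, hθ1]
      rfl
    have h7 : ∑ η : IrrCharacter M, m η = m t :=
      Finset.sum_eq_single t (fun η _ hη => h6 η hη) fun h => absurd (Finset.mem_univ _) h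
    have h8 : ∑ η : IrrCharacter M, m η * m η = m t * m t :=
      Finset.sum_eq_single t (fun η _ hη => by rw [h6 η hη, zero_mul]) fun h => absurd (Finset.mem_univ _) h
    rw [h7] at h1 h5
    rw [h8] at h2
    have h9 : m t = 1 := by
      have : m t < 2 := by
        by_contra hcon
        have : 2 * 2 ≤ m t * m t := Nat.mul_le_mul (by omega) (by omega)
        omega
      omega
    have h10 : charDegree θ = 1 := by
      have : (charDegree θ : ℂ) = 1 := by
        rw [← irr_one_eq_charDegree hθ, hθ1]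
        rfl
      exact_mod_cast this
    rw [h1, h9, h10]

/-- The degrees of `M` occur in `G`, up to a factor two. -/
theorem exists_deg (c : Ctx M) {t : ℕ} (ht : t ∈ charDegrees M) : t ∈ charDegrees G ∨ 2 * t ∈ charDegrees G := by
  have := Fintype.ofFinite G
  have := Fintype.ofFinite M
  obtain ⟨θ, rfl⟩ := ht
  obtain ⟨χ, hχ, hne⟩ := Cfsg.Agent.CharDeep.PowerDegrees.exists_irr_over M θ.2
  rcases (c.deg_over hχ θ.2 hne).1 with h | h
  · exact Or.inl ⟨⟨χ, hχ⟩, h⟩
  · exact Or.inr ⟨⟨χ, hχ⟩, h⟩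

/-- A constituent of the restriction. -/
theorem exists_constituent [Fintype M] {χ : G → ℂ} (hχ : IsIrrCharacter G χ) :
    ∃ θ : IrrCharacter M, classInner (fun n : M => χ n) (θ : M → ℂ) ≠ 0 := by
  classical
  have := finite_irr (G := M)
  have := Fintype.ofFinite (IrrCharacter M)
  obtain ⟨m, hm⟩ := exists_nat_comb (isCharacter_restrict M (isIrr_isCharacter hχ))
  by_contra hcon
  push Not at hcon
  have h1 : ∀ η : IrrCharacter M, m η = 0 := by
    intro η
    have h2 := hcon η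
    rw [hm, classInner_sum_nsmul_irr] at h2
    exact_mod_cast h2
  have h3 := congrFun hm 1
  simp only [h1, zero_smul, Finset.sum_const_zero, OneMemClass.coe_one, Pi.zero_apply] at h3
  exact isIrr_apply_one_ne_zero hχ h3

theorem ne_prin (c : Ctx M) [Fintype M] {χ : G → ℂ} (hχ : IsIrrCharacter G χ) (h1 : charDegree χ ≠ 1)
    {θ : IrrCharacter M} (hne : classInner (fun n : M => χ n) (θ : M → ℂ) ≠ 0) : θ ≠ prin M := by
  rintro rfl
  exact h1 ((c.deg_over hχ (prin M).2 hne).2 rfl)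

/-- There is no character of degree two. -/
theorem ne_two (c : Ctx M) (χ : IrrCharacter G) : charDegree (χ : G → ℂ) ≠ 2 := by
  have := Fintype.ofFinite M
  have := c.simple
  intro h2
  obtain ⟨θ, hθ⟩ := exists_constituent (M := M) χ.2
  have h3 := c.ne_prin χ.2 (by omega) hθ
  have h4 := Cfsg.Agent.H598.PrimeDegrees.charDegree_ne_one c.perf h3
  have h5 := Cfsg.Agent.H598.PrimeDegrees.charDegree_ne_two c.perf θ
  rcases (c.deg_over χ.2 θ.2 hθ).1 with h | h <;> omega

/-- Nonlinear characters are faithful on `M`. -/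
theorem apply_ne (c : Ctx M) {χ : G → ℂ} (hχ : IsIrrCharacter G χ) (h1 : charDegree χ ≠ 1) {x : M} (hx : x ≠ 1) :
    χ x ≠ χ 1 := by
  classical
  have := Fintype.ofFinite M
  have := c.simple
  have := finite_irr (G := M)
  have := Fintype.ofFinite (IrrCharacter M)
  intro heq
  obtain ⟨m, hm⟩ := exists_nat_comb (isCharacter_restrict M (isIrr_isCharacter hχ))
  have hx1 := congrFun hm x
  have hx2 := congrFun hm 1
  simp only [Finset.sum_apply, Pi.smul_apply, OneMemClass.coe_one] at hx1 hx2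
  rw [heq, hx2] at hx1
  have hle : ∀ η : IrrCharacter M, ‖(η : M → ℂ) x‖ ≤ charDegree (η : M → ℂ) := fun η =>
    Cfsg.Agent.Characters.SchurBound.norm_le (isIrr_isCharacter η.2) (irr_one_eq_charDegree η.2) x
  have hre : ∀ η : IrrCharacter M, ((η : M → ℂ) x).re ≤ charDegree (η : M → ℂ) := fun η =>
    (Complex.re_le_norm _).trans (hle η)
  obtain ⟨θ, hθ⟩ := exists_constituent (M := M) hχ
  have hm0 : m θ ≠ 0 := by
    intro h
    rw [hm, classInner_sum_nsmul_irr, h] at hθ
    exact hθ Nat.cast_zero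
  have hlt : ((θ : M → ℂ) x).re < charDegree (θ : M → ℂ) :=
    lt_of_le_of_lt (Complex.re_le_norm _) (lt_of_le_of_ne (hle θ)
      (Cfsg.Agent.H598.PrimeDegrees.norm_ne c.perf (c.ne_prin hχ h1 hθ) hx))
  have hsum := congrArg Complex.re hx1
  rw [Complex.re_sum, Complex.re_sum] at hsum
  have hmul : ∀ (k : ℕ) (z : ℂ), (k • z).re = k * z.re := by
    intro k z
    rw [nsmul_eq_mul]
    simp
  have h1' : ∀ η : IrrCharacter M, ((η : M → ℂ) 1).re = charDegree (η : M → ℂ) := by
    intro η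
    rw [irr_one_eq_charDegree η.2, Complex.natCast_re]
  have h3 : ∑ η : IrrCharacter M, (m η • (η : M → ℂ) x).re < ∑ η : IrrCharacter M, (m η • (η : M → ℂ) 1).re := by
    refine Finset.sum_lt_sum (fun η _ => ?_) ⟨θ, Finset.mem_univ _, ?_⟩
    · rw [hmul, hmul, h1']
      exact mul_le_mul_of_nonneg_left (hre η) (Nat.cast_nonneg _)
    · rw [hmul, hmul, h1']
      exact mul_lt_mul_of_pos_left hlt (by exact_mod_cast Nat.pos_of_ne_zero hm0)
  exact absurd hsum.symm h3.ne

omit [Finite G] in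
theorem le_commutator (c : Ctx M) : M ≤ commutator G := by
  have h1 := Subgroup.map_subtype_commutator M
  rw [c.perf, ← MonoidHom.range_eq_map, Subgroup.range_subtype] at h1
  rw [h1, commutator_def]
  exact Subgroup.commutator_mono le_top le_top

omit [Finite G] in
theorem index_comm (c : Ctx M) : (commutator G).index ∣ M.index := Subgroup.index_dvd_of_le c.le_commutator

omit [Finite G] in
/-- No normal subgroup of odd prime index. -/
theorem index_ne (c : Ctx M) {p : ℕ} (hp : p.Prime) (hp2 : p ≠ 2) (hcard : ¬ Nat.card G ∣ p) (N : Subgroup G)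
    (hN : N.Normal) : N.index ≠ p := by
  intro hi
  have := c.normal
  have := c.simple
  have h1 : (N.subgroupOf M).Normal := inferInstance
  rcases h1.eq_bot_or_eq_top with h | h
  · -- `N ∩ M = 1`
    have h2 : N ⊓ M = ⊥ := by
      rw [Subgroup.subgroupOf_eq_bot] at h
      exact h.eq_bot
    have h3 : N ≤ Subgroup.centralizer (M : Set G) := by
      intro n hn
      rw [Subgroup.mem_centralizer_iff]
      intro m hm
      have h4 : m * n * m⁻¹ * n⁻¹ ∈ N ⊓ M := by
        refine ⟨N.mul_mem (hN.conj_mem n hn m) (N.inv_mem hn), ?_⟩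
        rw [mul_assoc, mul_assoc, ← mul_assoc n]
        exact M.mul_mem hm (c.normal.conj_mem _ (M.inv_mem hm) n)
      rw [h2, Subgroup.mem_bot] at h4
      exact mul_inv_eq_iff_eq_mul.1 (mul_inv_eq_one.1 h4)
    rw [c.cent, le_bot_iff] at h3
    rw [h3, Subgroup.index_bot] at hi
    exact hcard (by rw [hi])
  · rw [Subgroup.subgroupOf_eq_top] at h
    have h2 : p ∣ 2 := by
      rw [← hi]
      exact (Subgroup.index_dvd_of_le h).trans c.idx
    exact hp2 ((Nat.prime_dvd_prime_iff_eq hp Nat.prime_two).1 h2)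

end Ctx

universe v

/-- The situation from an isomorphism with a simple group with two outer automorphisms. -/
theorem Ctx.of_iso {M : Subgroup G} {K : Type v} [Group K] [Finite K] (hK : IsSimpleGroup K) (e : M ≃* K)
    (hM : M.Normal) (hc : Subgroup.centralizer (M : Set G) = ⊥) (hout : Nat.card (Cfsg.Out K) = 2)
    (hnp : ¬ (Nat.card K).Prime) : Ctx M := by
  have hs : IsSimpleGroup M := (e.isSimpleGroup_congr).2 hK
  refine ⟨hM, hs, ?_, ?_, hc⟩
  · refine Cfsg.Agent.H598.PrimeDegrees.commutator_eq_top fun h => ?_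
    apply hnp
    let _ : CommGroup K := { ‹Group K› with
      mul_comm := fun x y => by
        have h1 := congrArg e (h (e.symm x) (e.symm y))
        rwa [map_mul, map_mul, e.apply_symm_apply, e.apply_symm_apply] at h1 }
    exact IsSimpleGroup.prime_card
  · let f : K →* G := M.subtype.comp e.symm.toMonoidHom
    have hf : Function.Injective f := fun x y h => e.symm.injective (Subtype.ext h)
    have hr : f.range = M := by
      ext g
      constructor
      · rintro ⟨x, rfl⟩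
        exact (e.symm x).2
      · intro hg
        exact ⟨e ⟨g, hg⟩, by
          show ((e.symm (e ⟨g, hg⟩) : M) : G) = g
          rw [e.symm_apply_apply]⟩
    have h1 := Cfsg.Agent.H713.index_mul_card_dvd f hf (by rw [hr]; exact hM) (by rw [hr]; exact hc)
    rw [hr] at h1
    have h2 := h1.trans (Cfsg.Agent.H713.card_mulAut_dvd (S := K) (o := 2) (by rw [hout]))
    exact Nat.dvd_of_mul_dvd_mul_right Nat.card_pos h2

/-- A degree of `M` divisible by `p` gives one of `G`. -/
theorem Ctx.exists_dvd {M : Subgroup G} (c : Ctx M) {K : Type v} [Group K] [Finite K] (e : M ≃* K) {p : ℕ}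
    (h : ∃ d ∈ charDegrees K, p ∣ d) : ∃ d ∈ charDegrees G, p ∣ d := by
  obtain ⟨d, hd, hpd⟩ := h
  rw [← Cfsg.Agent.H424.DegTools.charDegrees_congr e] at hd
  rcases c.exists_deg hd with h | h
  · exact ⟨d, h, hpd⟩
  · exact ⟨2 * d, h, Dvd.dvd.mul_left hpd 2⟩

end Cfsg.Agent.H590.Five.Setup
end

-- part: H590/Five/Rel
section
/-!
# The degree relation of the principal block for almost simple groups (helper590)

* `Rel p e idx a b c` : the relation;
* `Ctx.rel` : it holds for `e = |N(P) : C(P)| ≥ 2`, `e ∣ p - 1`, if the degrees of `G` lie in `{1, a, b, c}`.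
-/

set_option autoImplicit false

namespace Cfsg.Agent.H590.Five

open Cfsg Cfsg.Agent.H590.Five.Setup

universe u

/-- The relation between the degrees `1, a, b, c` in a principal block with a defect group of order `p`. -/
def Rel (p e idx a b c : ℕ) : Prop :=
  ∃ (n₁ na nb nc : ℕ) (sa sb sc s : ℤ) (f : ℕ), 1 ≤ n₁ ∧ n₁ ≤ idx ∧ (f = 1 → n₁ + 1 ≤ idx) ∧
    n₁ + na + nb + nc = e ∧ (sa = 1 ∨ sa = -1) ∧ (sb = 1 ∨ sb = -1) ∧ (sc = 1 ∨ sc = -1) ∧ (s = 1 ∨ s = -1) ∧
    (na ≠ 0 → (p : ℤ) ∣ sa * a - 1) ∧ (nb ≠ 0 → (p : ℤ) ∣ sb * b - 1) ∧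
    (nc ≠ 0 → (p : ℤ) ∣ sc * c - 1) ∧ (f = 1 ∨ f = a ∨ f = b ∨ f = c) ∧ (p : ℤ) ∣ f + e * s ∧
    n₁ + sa * na * a + sb * nb * b + sc * nc * c + s * f = 0

theorem two_le {G : Type u} [Group G] [Finite G] {p : ℕ} [hp : Fact p.Prime] (P : Sylow p G)
    (hP : Nat.card (P : Subgroup G) = p) (hN : ∀ N : Subgroup G, N.Normal → N.index ≠ p) :
    2 ≤ (Subgroup.centralizer ((P : Subgroup G) : Set G)).relIndex (Subgroup.normalizer ((P : Subgroup G) : Set G)) := by
  have h0 : (Subgroup.centralizer ((P : Subgroup G) : Set G)).relIndex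
      (Subgroup.normalizer ((P : Subgroup G) : Set G)) ≠ 0 := Subgroup.index_ne_zero_of_finite
  have h1 : (Subgroup.centralizer ((P : Subgroup G) : Set G)).relIndex
      (Subgroup.normalizer ((P : Subgroup G) : Set G)) ≠ 1 := by
    intro h
    have hle := Subgroup.relIndex_eq_one.1 h
    have h2 := MonoidHom.ker_transferSylow_isComplement' P hle
    exact hN _ inferInstance (h2.symm.index_eq_card.trans hP)
  omega

theorem _root_.Cfsg.Agent.H590.Five.Setup.Ctx.rel {G : Type u} [Group G] [Finite G] {M : Subgroup G} (c : Ctx M)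
    {p : ℕ} [hp : Fact p.Prime] (hp2 : p ≠ 2) (P : Sylow p G) (hP : Nat.card (P : Subgroup G) = p)
    (hcard : ¬ Nat.card G ∣ p) {e : ℕ}
    (he : (Subgroup.centralizer ((P : Subgroup G) : Set G)).relIndex
      (Subgroup.normalizer ((P : Subgroup G) : Set G)) = e) :
    2 ≤ e ∧ e ∣ p - 1 ∧ ∀ a b d : ℕ, charDegrees G ⊆ {1, a, b, d} → a ≠ 1 → b ≠ 1 → d ≠ 1 → a ≠ b → a ≠ d → b ≠ d →
      Rel p e M.index a b d := by
  have hN := c.index_ne hp.out hp2 hcard
  have hidx : (commutator G).index ≤ M.index :=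
    Nat.le_of_dvd (Nat.pos_of_ne_zero Subgroup.index_ne_zero_of_finite) c.index_comm
  refine ⟨he ▸ two_le P hP hN, he ▸ Cfsg.Agent.H604.FD.Inner.relIndex_dvd hp.out hP, ?_⟩
  intro a b d hcd ha hb hd hab had hbd
  obtain ⟨-, n₁, na, nb, nc, h88⟩ :=
    Blk2.degs hp2 P (isCyclic_of_prime_card hP) le_rfl (by rw [pow_one]; exact hP) he hN hcd ha hb hd hab had hbd
  revert h88; rintro ⟨sa, sb, sc, s, f, h88⟩
  revert h88; rintro ⟨h1, h2, h3, h4, h5, h88⟩
  revert h88; rintro ⟨h6, h7, h8, h9, h10, h88⟩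
  revert h88; rintro ⟨h11, h12, h13, h14⟩
  rw [pow_one] at h9 h10 h11 h13
  exact ⟨n₁, na, nb, nc, sa, sb, sc, s, f, h1, h2.trans hidx, fun h => (h3 h).trans hidx, h4, h5, h6, h7, h8, h9, h10,
    h11, h12, h13, h14⟩

end Cfsg.Agent.H590.Five
end

-- part: H590/Five/Arith
section
/-!
# The degree relation when one degree is divisible by `p` (helper590)

* `relE` : `e < p - 1`;
* `relF` : `e = p - 1`.
-/

set_option autoImplicit false

namespace Cfsg.Agent.H590.Five

/-- `v = m * u ± n`, `u ≡ ±1` modulo `p` -/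
def Sol (p m n u v : ℕ) : Prop := (u % p = 1 ∧ v = m * u + n) ∨ (u % p = p - 1 ∧ v + n = m * u)

theorem mod_of_sub {p a : ℕ} (hp : 2 < p) (h : (p : ℤ) ∣ a - 1) : a % p = 1 := by
  have h1 : (a : ℤ) % p = 1 := by
    have h2 : (a : ℤ) ≡ 1 [ZMOD p] := (Int.modEq_iff_dvd.2 (by
      have := dvd_neg.2 h
      rwa [neg_sub] at this))
    have h3 : (a : ℤ) % p = 1 % p := h2
    rw [h3]
    exact Int.emod_eq_of_lt (by norm_num) (by omega)
  exact_mod_cast h1

theorem mod_of_add {p a : ℕ} (hp : 2 < p) (h : (p : ℤ) ∣ a + 1) : a % p = p - 1 := by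
  have h1 : p ∣ a + 1 := by exact_mod_cast h
  obtain ⟨k, hk⟩ := h1
  rcases k with _ | k
  · omega
  · have h6 : a = (p - 1) + p * k := by
      rw [Nat.mul_succ] at hk
      omega
    rw [h6, Nat.add_mul_mod_self_left, Nat.mod_eq_of_lt (by omega)]

/-- small numbers are not divisible by `p` -/
theorem not_dvd_of_abs {p : ℕ} {z : ℤ} (h0 : z ≠ 0) (h1 : |z| < p) : ¬ (p : ℤ) ∣ z := fun h =>
  h0 (Int.eq_zero_of_abs_lt_dvd h h1)

theorem sign_sq {s : ℤ} (h : s = 1 ∨ s = -1) : s * s = 1 := by rcases h with rfl | rfl <;> rfl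

/-- a nonexceptional degree is not exceptional -/
theorem not_both {p e x : ℕ} (he : 2 ≤ e) (hep : e < p - 1) {s t : ℤ} (hs : s = 1 ∨ s = -1) (ht : t = 1 ∨ t = -1)
    (h1 : (p : ℤ) ∣ t * x - 1) (h2 : (p : ℤ) ∣ x + e * s) : False := by
  have h3 : (p : ℤ) ∣ t + e * s := by
    have h4 : (p : ℤ) ∣ t * (t * x - 1) := Dvd.dvd.mul_left h1 t
    have h5 := dvd_sub h2 h4
    have h6 : (x : ℤ) + e * s - t * (t * x - 1) = t + e * s := by
      have := sign_sq ht
      linear_combination (-(x : ℤ)) * this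
    rwa [h6] at h5
  have he' : (2 : ℤ) ≤ e := by exact_mod_cast he
  have hep' : (e : ℤ) + 1 < p := by
    have : e + 1 < p := by omega
    exact_mod_cast this
  refine not_dvd_of_abs ?_ ?_ h3
  · rcases hs with rfl | rfl <;> rcases ht with rfl | rfl <;> omega
  · rw [abs_lt]
    rcases hs with rfl | rfl <;> rcases ht with rfl | rfl <;> constructor <;> (clear * - he hep'; omega)

/-- a degree divisible by `p` does not occur -/
theorem nc_eq_zero {p c nc : ℕ} (hp : p.Prime) (hc : p ∣ c) {sc : ℤ} (h : nc ≠ 0 → (p : ℤ) ∣ sc * c - 1) : nc = 0 := by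
  by_contra h0
  have h1 : (p : ℤ) ∣ sc * c := Dvd.dvd.mul_left (by exact_mod_cast hc) sc
  have h2 : (p : ℤ) ∣ 1 := by
    have := dvd_sub h1 (h h0)
    rwa [sub_sub_cancel] at this
  have h3 : p ∣ 1 := by exact_mod_cast h2
  exact hp.one_lt.ne' (Nat.dvd_one.1 h3)

theorem f_ne {p e f c : ℕ} (he : 1 ≤ e) (hep : e < p) (hc : p ∣ c) {s : ℤ} (hs : s = 1 ∨ s = -1)
    (h : (p : ℤ) ∣ f + e * s) : f ≠ c := by
  rintro rfl
  have h1 : (p : ℤ) ∣ f := by exact_mod_cast hc
  have h2 : (p : ℤ) ∣ e * s := (dvd_add_right h1).1 h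
  have h3 : (p : ℤ) ∣ e := by
    rcases hs with rfl | rfl
    · simpa using h2
    · simpa using h2
  have h4 : p ∣ e := by exact_mod_cast h3
  exact absurd (Nat.le_of_dvd (by omega) h4) (by omega)

/-- one exceptional degree `a`, the degree `b` nonexceptional -/
theorem relE_aux {p e n₁ nb a b : ℕ} {sb s : ℤ} (hp : 2 < p) (hep : e < p - 1) (hsb : sb = 1 ∨ sb = -1)
    (hs : s = 1 ∨ s = -1) (hn : n₁ + nb = e) (hn1 : 1 ≤ n₁) (hb : nb ≠ 0 → (p : ℤ) ∣ sb * b - 1)
    (heq : n₁ + sb * nb * b + s * a = 0) : (n₁ = e ∧ a = e) ∨ (n₁ < e ∧ Sol p (e - n₁) n₁ b a) := by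
  have hnb : e - n₁ = nb := by omega
  rw [hnb]
  by_cases h0 : nb = 0
  · left
    subst h0
    refine ⟨by omega, ?_⟩
    rcases hs with rfl | rfl
    · push_cast at heq
      omega
    · push_cast at heq
      omega
  right
  refine ⟨by omega, ?_⟩
  have hb' := hb h0
  rcases hsb with rfl | rfl
  · left
    rw [one_mul] at hb'
    refine ⟨mod_of_sub hp hb', ?_⟩
    have h1 : (0 : ℤ) ≤ nb * b := by (clear * - h0; positivity)
    rcases hs with rfl | rfl
    · exfalso
      have : (1 : ℤ) ≤ n₁ := by exact_mod_cast hn1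
      have : (0 : ℤ) ≤ a := by positivity
      linarith only [hn1, h1, heq]
    · have : (a : ℤ) = nb * b + n₁ := by linarith only [heq]
      exact_mod_cast this
  · right
    have hb2 : (p : ℤ) ∣ (b : ℤ) + 1 := by
      have := dvd_neg.2 hb'
      rwa [show -(-1 * (b : ℤ) - 1) = b + 1 by ring] at this
    have hmod := mod_of_add hp hb2
    refine ⟨hmod, ?_⟩
    have hbp : p - 1 ≤ b := by
      rw [← hmod]
      exact Nat.mod_le _ _
    have h1 : (n₁ : ℤ) < nb * b := by
      have h2 : p - 1 ≤ nb * b := hbp.trans (Nat.le_mul_of_pos_left b (Nat.pos_of_ne_zero h0))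
      have h3 : n₁ < nb * b := by omega
      exact_mod_cast h3
    rcases hs with rfl | rfl
    · have : (a : ℤ) + n₁ = nb * b := by linarith only [heq]
      exact_mod_cast this
    · exfalso
      have : (0 : ℤ) ≤ a := by positivity
      linarith only [h1, heq]

/-- **The relation, `e < p - 1`.** -/
theorem relE {p e idx a b c : ℕ} (hp : p.Prime) (he : 2 ≤ e) (hep : e < p - 1) (hc : p ∣ c)
    (h : Rel p e idx a b c) : ∃ n₁, 1 ≤ n₁ ∧ n₁ ≤ idx ∧ ((n₁ = e ∧ (a = e ∨ b = e)) ∨ (n₁ < e ∧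
      (Sol p (e - n₁) n₁ a b ∨ Sol p (e - n₁) n₁ b a))) := by
  obtain ⟨n₁, na, nb, nc, sa, h88⟩ := h
  revert h88; rintro ⟨sb, sc, s, f, h1, h88⟩
  revert h88; rintro ⟨h2, -, h4, hsa, hsb, h88⟩
  revert h88; rintro ⟨-, hs, hna, hnb, hnc, h88⟩
  revert h88; rintro ⟨hf, hfe, heq⟩
  have hp2 : 2 < p := by (clear * - he hep; omega)
  have hnc0 := nc_eq_zero hp hc hnc
  subst hnc0
  have hfc := f_ne (by omega) (by (clear * - hep; omega)) hc hs hfe
  have heq' : (n₁ : ℤ) + sa * na * a + sb * nb * b + s * f = 0 := by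
    push_cast at heq
    linarith only [heq]
  refine ⟨n₁, h1, h2, ?_⟩
  rcases hf with rfl | rfl | rfl | rfl
  · exfalso
    exact not_both (x := 1) (t := 1) he hep hs (Or.inl rfl) (by simp) (by simpa only [_root_.Nat.cast_one] using hfe)
  · -- `f = a`
    have hna0 : na = 0 := by
      by_contra h0
      exact not_both he hep hs hsa (hna h0) hfe
    subst hna0
    have h5 : (n₁ : ℤ) + sb * nb * b + s * f = 0 := by
      push_cast at heq'
      linarith only [heq']
    rcases relE_aux hp2 hep hsb hs (by omega) h1 hnb h5 with h6 | h6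
    · exact Or.inl ⟨h6.1, Or.inl h6.2⟩
    · exact Or.inr ⟨h6.1, Or.inr h6.2⟩
  · -- `f = b`
    have hnb0 : nb = 0 := by
      by_contra h0
      exact not_both he hep hs hsb (hnb h0) hfe
    subst hnb0
    have h5 : (n₁ : ℤ) + sa * na * a + s * f = 0 := by
      push_cast at heq'
      linarith only [heq']
    rcases relE_aux hp2 hep hsa hs (by omega) h1 hna h5 with h6 | h6
    · exact Or.inl ⟨h6.1, Or.inr h6.2⟩
    · exact Or.inr ⟨h6.1, Or.inl h6.2⟩
  · exact absurd rfl hfc

/-- the conclusion for `e = p - 1` from the total multiplicities -/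
theorem relF_aux {p idx n x y a b : ℕ} {sa sb : ℤ} (hp : 5 ≤ p) (hidx : idx ≤ 2) (hn1 : 1 ≤ n) (hn : n ≤ idx)
    (hsum : n + x + y = p) (hsa : sa = 1 ∨ sa = -1) (hsb : sb = 1 ∨ sb = -1) (ha : x ≠ 0 → (p : ℤ) ∣ sa * a - 1)
    (hb : y ≠ 0 → (p : ℤ) ∣ sb * b - 1) (heq : (n : ℤ) + sa * x * a + sb * y * b = 0) :
    1 ≤ x ∧ 1 ≤ y ∧ ((a % p = 1 ∧ b % p = p - 1 ∧ n + x * a = y * b) ∨
      (b % p = 1 ∧ a % p = p - 1 ∧ n + y * b = x * a)) := by
  have hp2 : 2 < p := by omega
  -- a negative degree is large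
  have hneg : ∀ {w t : ℕ}, t ≠ 0 → (p : ℤ) ∣ (-1 : ℤ) * w - 1 → w % p = p - 1 ∧ n < t * w := by
    intro w t ht hw
    have h1 : (p : ℤ) ∣ (w : ℤ) + 1 := by
      have := dvd_neg.2 hw
      rwa [show -(-1 * (w : ℤ) - 1) = w + 1 by ring] at this
    have h2 := mod_of_add hp2 h1
    have h3 : p - 1 ≤ w := by
      rw [← h2]
      exact Nat.mod_le _ _
    refine ⟨h2, ?_⟩
    have h4 : w ≤ t * w := Nat.le_mul_of_pos_left w (Nat.pos_of_ne_zero ht)
    omega
  have hpos : ∀ {w : ℕ}, (p : ℤ) ∣ (1 : ℤ) * w - 1 → w % p = 1 := by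
    intro w hw
    rw [one_mul] at hw
    exact mod_of_sub hp2 hw
  have hn1' : (1 : ℤ) ≤ n := by exact_mod_cast hn1
  by_cases hx : x = 0
  · exfalso
    subst hx
    have hy : y ≠ 0 := by omega
    have heq' : (n : ℤ) + sb * y * b = 0 := by
      push_cast at heq
      linarith only [heq]
    rcases hsb with rfl | rfl
    · have : (0 : ℤ) ≤ (y : ℤ) * b := by (clear * - hy; positivity)
      linarith only [hn1, heq', this]
    · have h1 := (hneg hy (hb hy)).2
      have h2 : (n : ℤ) < y * b := by exact_mod_cast h1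
      linarith only [heq', h1]
  by_cases hy : y = 0
  · exfalso
    subst hy
    have heq' : (n : ℤ) + sa * x * a = 0 := by
      push_cast at heq
      linarith only [heq]
    rcases hsa with rfl | rfl
    · have : (0 : ℤ) ≤ (x : ℤ) * a := by (clear * - hx; positivity)
      linarith only [hn1, heq', this]
    · have h1 := (hneg hx (ha hx)).2
      have h2 : (n : ℤ) < x * a := by exact_mod_cast h1
      linarith only [heq', h1]
  refine ⟨Nat.pos_of_ne_zero hx, Nat.pos_of_ne_zero hy, ?_⟩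
  have hxa : (0 : ℤ) ≤ (x : ℤ) * a := by (clear * - hx; positivity)
  have hyb : (0 : ℤ) ≤ (y : ℤ) * b := by (clear * - hy; positivity)
  rcases hsa with rfl | rfl <;> rcases hsb with rfl | rfl
  · exfalso
    linarith only [hn1, hxa, hyb, heq]
  · left
    refine ⟨hpos (ha hx), (hneg hy (hb hy)).1, ?_⟩
    have : (n : ℤ) + x * a = y * b := by linarith only [heq]
    exact_mod_cast this
  · right
    refine ⟨hpos (hb hy), (hneg hx (ha hx)).1, ?_⟩
    have : (n : ℤ) + y * b = x * a := by linarith only [heq]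
    exact_mod_cast this
  · exfalso
    have h1 : (n : ℤ) < x * a := by exact_mod_cast (hneg hx (ha hx)).2
    linarith only [hyb, heq, h1]

/-- **The relation, `e = p - 1`.** -/
theorem relF {p idx a b c : ℕ} (hp : p.Prime) (hp5 : 5 ≤ p) (hidx : idx ≤ 2) (hc : p ∣ c)
    (h : Rel p (p - 1) idx a b c) : ∃ n x y, 1 ≤ n ∧ n ≤ idx ∧ n + x + y = p ∧ 1 ≤ x ∧ 1 ≤ y ∧
      ((a % p = 1 ∧ b % p = p - 1 ∧ n + x * a = y * b) ∨ (b % p = 1 ∧ a % p = p - 1 ∧ n + y * b = x * a)) := by
  obtain ⟨n₁, na, nb, nc, sa, sb, sc, s, f, h1, h2, h3, h4, hsa, hsb, -, hs, hna, hnb, hnc, hf, hfe, heq⟩ := h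
  have hnc0 := nc_eq_zero hp hc hnc
  subst hnc0
  have hfc := f_ne (by omega) (by omega) hc hs hfe
  have heq' : (n₁ : ℤ) + sa * na * a + sb * nb * b + s * f = 0 := by
    push_cast at heq
    linarith only [heq]
  -- `f ≡ s`
  have hfs : (p : ℤ) ∣ f - s := by
    have h5 : ((p - 1 : ℕ) : ℤ) = p - 1 := by
      have : 1 ≤ p := by omega
      push_cast [this]
      ring
    rw [h5] at hfe
    have h6 := dvd_sub hfe (dvd_mul_right (p : ℤ) s)
    rwa [show (f : ℤ) + (p - 1) * s - p * s = f - s by ring] at h6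
  have hsame : ∀ {t : ℤ}, (t = 1 ∨ t = -1) → (p : ℤ) ∣ t * f - 1 → t = s := by
    intro t ht h5
    by_contra hne
    have h6 : (p : ℤ) ∣ t * (f - s) := Dvd.dvd.mul_left hfs t
    have h7 := dvd_sub h6 h5
    rw [show t * ((f : ℤ) - s) - (t * f - 1) = 1 - t * s by ring] at h7
    have h8 : 1 - t * s = 2 := by
      rcases hs with rfl | rfl <;> rcases ht with rfl | rfl <;> first | rfl | exact absurd rfl hne
    rw [h8] at h7
    exact not_dvd_of_abs (by norm_num) (by
      rw [abs_of_pos (by norm_num : (0 : ℤ) < 2)]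
      exact_mod_cast (by omega : 2 < p)) h7
  have hsf : (p : ℤ) ∣ s * f - 1 := by
    have h5 : (p : ℤ) ∣ s * (f - s) := Dvd.dvd.mul_left hfs s
    have h6 : s * ((f : ℤ) - s) = s * f - 1 := by
      have := sign_sq hs
      linear_combination (-1 : ℤ) * this
    rwa [h6] at h5
  rcases hf with rfl | rfl | rfl | rfl
  · -- `f = 1`
    have hs1 : (1 : ℤ) = s := hsame (Or.inl rfl) (by simp)
    subst hs1
    have h5 : ((n₁ + 1 : ℕ) : ℤ) + sa * na * a + sb * nb * b = 0 := by
      push_cast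
      push_cast at heq'
      linarith only [heq']
    obtain ⟨h6, h7, h8⟩ := relF_aux hp5 hidx (by omega) (h3 rfl) (by (clear * - hp5 h4; omega)) hsa hsb hna hnb h5
    exact ⟨n₁ + 1, na, nb, by omega, h3 rfl, by (clear * - hp5 h4; omega), h6, h7, h8⟩
  · -- `f = a`
    have h5 : (n₁ : ℤ) + s * ((na + 1 : ℕ) : ℤ) * f + sb * nb * b = 0 := by
      by_cases h0 : na = 0
      · subst h0
        push_cast
        push_cast at heq'
        linarith only [heq']
      · have := hsame hsa (hna h0)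
        subst this
        push_cast
        linarith only [heq']
    obtain ⟨h6, h7, h8⟩ := relF_aux hp5 hidx h1 h2 (by (clear * - hp5 h4; omega)) hs hsb (fun _ => hsf) hnb h5
    exact ⟨n₁, na + 1, nb, h1, h2, by (clear * - hp5 h4; omega), h6, h7, h8⟩
  · -- `f = b`
    have h5 : (n₁ : ℤ) + sa * na * a + s * ((nb + 1 : ℕ) : ℤ) * f = 0 := by
      by_cases h0 : nb = 0
      · subst h0
        push_cast
        push_cast at heq'
        linarith only [heq']
      · have := hsame hsb (hnb h0)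
        subst this
        push_cast
        linarith only [heq']
    obtain ⟨h6, h7, h8⟩ := relF_aux hp5 hidx h1 h2 (by (clear * - hp5 h4; omega)) hsa hs hna (fun _ => hsf) h5
    exact ⟨n₁, na, nb + 1, h1, h2, by (clear * - hp5 h4; omega), h6, h7, h8⟩
  · exact absurd rfl hfc

end Cfsg.Agent.H590.Five
end

-- part: H590/Five/Main
section
/-!
# Fewer than five degrees in an almost simple group: the shape of the degrees prime to `p` (helper590)

`main` : `p` exactly divides `|G|`, some degree is divisible by `p`, fewer than five degrees: the nonlinear degrees are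
`a`, `b`, `d` with `p ∣ d` and `a`, `b` related by `Form p e idx a b`.
-/

set_option autoImplicit false

namespace Cfsg.Agent.H590.Five

open Cfsg Cfsg.Agent.H590.Five.Setup

universe u

/-- the relation between the two degrees prime to `p` -/
def Form (p e idx a b : ℕ) : Prop :=
  (2 ≤ e ∧ e < p - 1 ∧ ∃ n, 1 ≤ n ∧ n ≤ idx ∧ n < e ∧ Sol p (e - n) n a b) ∨
    (e = p - 1 ∧ ∃ n x y, 1 ≤ n ∧ n ≤ idx ∧ n + x + y = p ∧ 1 ≤ x ∧ 1 ≤ y ∧ a % p = 1 ∧ b % p = p - 1 ∧
      n + x * a = y * b)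

theorem Sol.not_dvd_left {p m n u v : ℕ} (hp : 2 < p) (h : Sol p m n u v) : ¬ p ∣ u := by
  intro hd
  have h1 := Nat.mod_eq_zero_of_dvd hd
  rcases h with ⟨h2, -⟩ | ⟨h2, -⟩ <;> omega

theorem Sol.not_dvd_right {p e n u v : ℕ} (he : 0 < e) (hep : e < p - 1) (hn : n < e)
    (h : Sol p (e - n) n u v) : ¬ p ∣ v := by
  have hp0 : 0 < p := by omega
  intro hd
  have hpe : ¬ p ∣ e := fun h => absurd (Nat.le_of_dvd he h) (by omega)
  apply hpe
  rcases h with ⟨h2, h3⟩ | ⟨h2, h3⟩
  · -- `v ≡ (e - n) + n`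
    have h4 : v ≡ e [MOD p] := by
      rw [h3]
      have h5 : u ≡ 1 [MOD p] := by
        show u % p = 1 % p
        rw [h2, Nat.mod_eq_of_lt (by omega)]
      have h6 : (e - n) * u + n ≡ (e - n) * 1 + n [MOD p] := (h5.mul_left _).add_right _
      rwa [mul_one, Nat.sub_add_cancel hn.le] at h6
    exact (Nat.modEq_zero_iff_dvd.1 ((h4.symm).trans (Nat.modEq_zero_iff_dvd.2 hd)))
  · have h5 : u + 1 ≡ 0 [MOD p] := by
      show (u + 1) % p = 0 % p
      rw [Nat.add_mod, h2, Nat.mod_eq_of_lt (show 1 < p by omega), show p - 1 + 1 = p by omega, Nat.mod_self,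
        Nat.zero_mod]
    have h6 : (e - n) * (u + 1) ≡ 0 [MOD p] := by
      have := h5.mul_left (e - n)
      rwa [mul_zero] at this
    have h7 : (e - n) * (u + 1) = v + e := by
      rw [mul_add, ← h3]
      omega
    rw [h7] at h6
    exact (Nat.dvd_add_right hd).1 (Nat.modEq_zero_iff_dvd.1 h6)

theorem main {G : Type u} [Group G] [Finite G] {M : Subgroup G} (c : Ctx M) {p N : ℕ} [hp : Fact p.Prime] (hp5 : 5 ≤ p)
    (hN : Nat.card G = N) (hlt : p < N) (h5 : (charDegrees G).ncard < 5)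
    (hdz : ∃ d ∈ charDegrees G, p ∣ d) (P : Sylow p G) (hP : Nat.card (P : Subgroup G) = p) {e : ℕ}
    (he : (Subgroup.centralizer ((P : Subgroup G) : Set G)).relIndex
      (Subgroup.normalizer ((P : Subgroup G) : Set G)) = e) :
    e ∣ p - 1 ∧ ∃ a b d : ℕ, charDegrees G ⊆ {1, a, b, d} ∧ a ≠ b ∧ p ∣ d ∧ a ∈ charDegrees G ∧ b ∈ charDegrees G ∧
      d ∈ charDegrees G ∧ a ≠ 1 ∧ b ≠ 1 ∧ a ≠ 2 ∧ b ≠ 2 ∧ Form p e M.index a b := by
  have hp2 : p ≠ 2 := by omega
  have hcard : ¬ Nat.card G ∣ p := fun h => absurd (Nat.le_of_dvd hp.out.pos h) (by omega)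
  obtain ⟨he2, hep, hrel⟩ := c.rel hp2 P hP hcard he
  refine ⟨hep, ?_⟩
  obtain ⟨a, b, d, hcd, ha, h88⟩ :=
    Cfsg.Agent.H604.FD.Inner.exists_three hp.out h5 hdz
  revert h88; rintro ⟨hb, hd, hab, had, hbd, h88⟩
  revert h88; rintro ⟨hpd, ha', hb'⟩
  have hR := hrel a b d hcd ha hb hd hab had hbd
  have hlep : e ≤ p - 1 := Nat.le_of_dvd (by omega) hep
  -- the degree divisible by `p`
  have hdG : ¬ p ∣ a → ¬ p ∣ b → d ∈ charDegrees G := by
    intro h1 h2
    obtain ⟨t, ht, hpt⟩ := hdz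
    have h3 := hcd ht
    simp only [Set.mem_insert_iff, Set.mem_singleton_iff] at h3
    rcases h3 with rfl | rfl | rfl | rfl
    · exact absurd (Nat.dvd_one.1 hpt) hp.out.one_lt.ne'
    · exact absurd hpt h1
    · exact absurd hpt h2
    · exact ht
  have hne2 : ∀ {t : ℕ}, t ∈ charDegrees G → t ≠ 2 := by
    rintro t ⟨χ, rfl⟩
    exact c.ne_two χ
  have hcd' : charDegrees G ⊆ {1, b, a, d} := by
    intro t ht
    have := hcd ht
    simp only [Set.mem_insert_iff, Set.mem_singleton_iff] at this ⊢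
    (clear * - this; tauto)
  rcases Nat.lt_or_ge e (p - 1) with hlt' | hge
  · obtain ⟨n, h1, h2, h3⟩ := relE hp.out he2 hlt' hpd hR
    rcases h3 with ⟨h3, h4⟩ | ⟨h3, h4⟩
    · exfalso
      have hidx := c.idx_le
      have he2' : e = 2 := by omega
      rcases h4 with h4 | h4
      · have h5 : ¬ p ∣ a := fun h => absurd (Nat.le_of_dvd (by omega) h) (by omega)
        exact hne2 (ha'.resolve_right h5) (by omega)
      · have h5 : ¬ p ∣ b := fun h => absurd (Nat.le_of_dvd (by omega) h) (by omega)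
        exact hne2 (hb'.resolve_right h5) (by omega)
    · rcases h4 with h4 | h4
      · have h6 := h4.not_dvd_left (by omega)
        have h7 := h4.not_dvd_right (by omega) hlt' h3
        have ha'' := ha'.resolve_right h6
        have hb'' := hb'.resolve_right h7
        exact ⟨a, b, d, hcd, hab, hpd, ha'', hb'', hdG h6 h7, ha, hb, hne2 ha'', hne2 hb'',
          Or.inl ⟨he2, hlt', n, h1, h2, h3, h4⟩⟩
      · have h6 := h4.not_dvd_left (by omega)
        have h7 := h4.not_dvd_right (by omega) hlt' h3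
        have ha'' := ha'.resolve_right h7
        have hb'' := hb'.resolve_right h6
        exact ⟨b, a, d, hcd', hab.symm, hpd, hb'', ha'', hdG h7 h6, hb, ha, hne2 hb'', hne2 ha'',
          Or.inl ⟨he2, hlt', n, h1, h2, h3, h4⟩⟩
  · have hee : e = p - 1 := by omega
    rw [hee] at hR
    obtain ⟨n, x, y, h1, h2, h3, h4, h5, h6⟩ := relF hp.out hp5 c.idx_le hpd hR
    have hmod : ∀ {t : ℕ}, (t % p = 1 ∨ t % p = p - 1) → ¬ p ∣ t := by
      intro t ht hd
      have := Nat.mod_eq_zero_of_dvd hd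
      omega
    rcases h6 with ⟨h6, h7, h8⟩ | ⟨h6, h7, h8⟩
    · have ha'' := ha'.resolve_right (hmod (Or.inl h6))
      have hb'' := hb'.resolve_right (hmod (Or.inr h7))
      exact ⟨a, b, d, hcd, hab, hpd, ha'', hb'', hdG (hmod (Or.inl h6)) (hmod (Or.inr h7)), ha, hb, hne2 ha'', hne2 hb'',
        Or.inr ⟨hee, n, x, y, h1, h2, h3, h4, h5, h6, h7, h8⟩⟩
    · have ha'' := ha'.resolve_right (hmod (Or.inr h7))
      have hb'' := hb'.resolve_right (hmod (Or.inl h6))
      exact ⟨b, a, d, hcd', hab.symm, hpd, hb'', ha'', hdG (hmod (Or.inr h7)) (hmod (Or.inl h6)), hb, ha, hne2 hb'',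
        hne2 ha'', Or.inr ⟨hee, n, y, x, h1, h2, by omega, h5, h4, h6, h7, h8⟩⟩

end Cfsg.Agent.H590.Five
end

-- part: H590/Five/Check
section
/-!
# Enumeration of the pairs of degrees prime to `p` (helper590)

`form_spec` : if the check `chkForm` succeeds (by `decide +kernel`), then all divisors `a`, `b` of `N` with
`Form p e idx a b` satisfy `Q a b`.
-/

set_option autoImplicit false

namespace Cfsg.Agent.H590.Five

open Cfsg.Agent.H604.FD.Inner (chkD chkD_spec)

def stepE (N p m n : ℕ) (Q : ℕ → ℕ → Bool) (u : ℕ) : Bool :=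
  cond (Nat.beq (Nat.mod u p) 1)
    (cond (Nat.beq (Nat.mod N (Nat.add (Nat.mul m u) n)) 0) (Q u (Nat.add (Nat.mul m u) n)) true)
    (cond (Nat.beq (Nat.mod N (Nat.sub (Nat.mul m u) n)) 0) (Q u (Nat.sub (Nat.mul m u) n)) true)

theorem beq_of {a b : ℕ} (h : a = b) : Nat.beq a b = true := by rw [h]; exact Nat.beq_refl b

theorem beq_false {a b : ℕ} (h : a ≠ b) : Nat.beq a b = false := by
  rcases hb : Nat.beq a b with _ | _
  · rfl
  · exact absurd (Nat.eq_of_beq_eq_true hb) h

theorem stepE_spec {N p m n : ℕ} {Q : ℕ → ℕ → Bool} {u v : ℕ} (hp : 2 < p) (h : stepE N p m n Q u = true)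
    (hs : Sol p m n u v) (hv : v ∣ N) : Q u v = true := by
  unfold stepE at h
  rcases hs with ⟨h1, rfl⟩ | ⟨h1, h2⟩
  · rw [show Nat.beq (Nat.mod u p) 1 = true from beq_of h1] at h
    rw [show Nat.beq (Nat.mod N (Nat.add (Nat.mul m u) n)) 0 = true from beq_of (Nat.mod_eq_zero_of_dvd hv)] at h
    exact h
  · have h3 : v = m * u - n := by omega
    subst h3
    rw [show Nat.beq (Nat.mod u p) 1 = false from beq_false (show u % p ≠ 1 by omega)] at h
    rw [show Nat.beq (Nat.mod N (Nat.sub (Nat.mul m u) n)) 0 = true from beq_of (Nat.mod_eq_zero_of_dvd hv)] at h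
    exact h

def stepF (N p n x y : ℕ) (Q : ℕ → ℕ → Bool) (u : ℕ) : Bool :=
  cond (Nat.beq (Nat.mod (Nat.add n (Nat.mul x u)) y) 0)
    (cond (Nat.beq (Nat.mod (Nat.div (Nat.add n (Nat.mul x u)) y) p) (Nat.sub p 1))
      (cond (Nat.beq (Nat.mod N (Nat.div (Nat.add n (Nat.mul x u)) y)) 0)
        (Q u (Nat.div (Nat.add n (Nat.mul x u)) y)) true) true) true

theorem stepF_spec {N p n x y : ℕ} {Q : ℕ → ℕ → Bool} {u v : ℕ} (hy : 1 ≤ y) (h : stepF N p n x y Q u = true)
    (h1 : n + x * u = y * v) (h2 : v % p = p - 1) (hv : v ∣ N) : Q u v = true := by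
  have h3 : (n + x * u) / y = v := by
    rw [h1, Nat.mul_div_cancel_left _ hy]
  have h4 : (n + x * u) % y = 0 := by
    rw [h1, Nat.mul_mod_right]
  unfold stepF at h
  rw [show Nat.div (Nat.add n (Nat.mul x u)) y = v from h3,
    show Nat.beq (Nat.mod (Nat.add n (Nat.mul x u)) y) 0 = true from beq_of h4,
    show Nat.beq (Nat.mod v p) (Nat.sub p 1) = true from beq_of h2,
    show Nat.beq (Nat.mod N v) 0 = true from beq_of (Nat.mod_eq_zero_of_dvd hv)] at h
  exact h

/-- all `x ≤ k`, `x ≥ 1`, with `y = r - x` -/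
def loopF (N p n r : ℕ) (Q : ℕ → ℕ → Bool) (u : ℕ) : ℕ → Bool
  | 0 => true
  | k + 1 => stepF N p n (Nat.succ k) (Nat.sub r (Nat.succ k)) Q u && loopF N p n r Q u k

theorem loopF_spec {N p n r : ℕ} {Q : ℕ → ℕ → Bool} {u : ℕ} : ∀ {k : ℕ}, loopF N p n r Q u k = true →
    ∀ x, 1 ≤ x → x ≤ k → stepF N p n x (r - x) Q u = true := by
  intro k
  induction k with
  | zero => intro _ x h1 h2; omega
  | succ k ih =>
    intro h x h1 h2
    rw [loopF, Bool.and_eq_true] at h
    rcases Nat.lt_or_ge x (k + 1) with h3 | h3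
    · exact ih h.2 x h1 (by omega)
    · obtain rfl : x = k + 1 := by omega
      exact h.1

/-- the check for the degree `u` -/
def chkForm (N p : ℕ) (es ns : List ℕ) (F : Bool) (Q : ℕ → ℕ → Bool) (u : ℕ) : Bool :=
  cond (Nat.beq (Nat.mod u p) 1)
    ((es.all fun e => ns.all fun n => cond (Nat.ble e n) true (stepE N p (Nat.sub e n) n Q u)) &&
      (cond F (ns.all fun n => loopF N p n (Nat.sub p n) Q u (Nat.sub (Nat.sub p n) 1)) true))
    (cond (Nat.beq (Nat.mod u p) (Nat.sub p 1))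
      (es.all fun e => ns.all fun n => cond (Nat.ble e n) true (stepE N p (Nat.sub e n) n Q u)) true)

theorem form_spec {N p idx : ℕ} {es ns : List ℕ} {F : Bool} {Q : ℕ → ℕ → Bool} {L : List (ℕ × ℕ)} (hp : p.Prime)
    (hp2 : 2 < p) (hL : ∀ x ∈ L, x.1.Prime) (hprod : N = p * (L.map fun x => x.1 ^ x.2).prod)
    (hchk : chkD (chkForm N p es ns F Q) L 1 = true) (hns : ∀ n, 1 ≤ n → n ≤ idx → n ∈ ns) {e : ℕ}
    (hes : e = p - 1 ∧ F = true ∨ e < p - 1 ∧ e ∈ es) {a b : ℕ} (ha : a ∣ N) (hb : b ∣ N) (h : Form p e idx a b) :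
    Q a b = true := by
  have hpa : ¬ p ∣ a := by
    rcases h with ⟨-, -, n, -, -, -, h1⟩ | ⟨-, n, x, y, -, -, -, -, -, h1, -⟩
    · exact h1.not_dvd_left hp2
    · intro hd
      have := Nat.mod_eq_zero_of_dvd hd
      omega
  have h1 : a ∣ (L.map fun x => x.1 ^ x.2).prod := by
    rw [hprod] at ha
    exact ((Nat.Prime.coprime_iff_not_dvd hp).2 hpa).symm.dvd_of_dvd_mul_left ha
  have h2 := chkD_spec hchk hL a h1
  rw [one_mul] at h2
  unfold chkForm at h2
  rcases h with ⟨-, hlt, n, hn1, hn2, hne, hs⟩ | ⟨he, n, x, y, hn1, hn2, hsum, hx, hy, ha1, hb1, heq⟩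
  · -- `e < p - 1`
    have hes' : e ∈ es := by
      rcases hes with h3 | h3
      · omega
      · exact h3.2
    have key : ((es.all fun e => ns.all fun n => cond (Nat.ble e n) true (stepE N p (Nat.sub e n) n Q a)) = true) →
        Q a b = true := by
      intro h3
      rw [List.all_eq_true] at h3
      have h4 := h3 e hes'
      rw [List.all_eq_true] at h4
      have h5 := h4 n (hns n hn1 hn2)
      have h6 : Nat.ble e n = false := by
        rcases hb : Nat.ble e n with _ | _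
        · rfl
        · exact absurd (Nat.le_of_ble_eq_true hb) (by omega)
      rw [h6] at h5
      exact stepE_spec hp2 h5 hs hb
    rcases hs with ⟨h3, h4⟩ | ⟨h3, h4⟩
    · rw [show Nat.beq (Nat.mod a p) 1 = true from beq_of h3] at h2
      have h5 := h2
      change (_ && _) = true at h5
      rw [Bool.and_eq_true] at h5
      exact key h5.1
    · rw [show Nat.beq (Nat.mod a p) 1 = false from beq_false (show a % p ≠ 1 by omega),
        show Nat.beq (Nat.mod a p) (Nat.sub p 1) = true from beq_of h3] at h2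
      exact key h2
  · -- `e = p - 1`
    have hF : F = true := by
      rcases hes with h3 | h3
      · exact h3.2
      · omega
    rw [show Nat.beq (Nat.mod a p) 1 = true from beq_of ha1, hF] at h2
    have h5 := h2
    change (_ && _) = true at h5
    rw [Bool.and_eq_true] at h5
    have h6 := h5.2
    change (ns.all _) = true at h6
    rw [List.all_eq_true] at h6
    have h7 := loopF_spec (h6 n (hns n hn1 hn2)) x hx (by
      show x ≤ p - n - 1
      omega)
    have h8 : Nat.sub p n - x = y := by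
      show p - n - x = y
      omega
    rw [h8] at h7
    exact stepF_spec hy h7 heq hb1 hb

end Cfsg.Agent.H590.Five
end

-- part: H590/Five/Fus
section
/-!
# `|N(P) : C(P)|` by fusion (helper590)

* `relIndex_fus` : `|N(P) : C(P)|` is the number of powers of `x` conjugate to `x`, `P = ⟨x⟩` a subgroup of order `p`;
* `exists_sylow` : `P` as a Sylow subgroup;
* `card_fus_mono` : the number for a subgroup is at most the one for the group.
-/

set_option autoImplicit false

namespace Cfsg.Agent.H590.Five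

open Cfsg Cfsg.Agent.H713 Cfsg.Agent.H713.Count Cfsg.Agent.H590.Five.Setup

universe u

variable {G : Type u} [Group G] [Finite G] {p : ℕ} [hp : Fact p.Prime]

omit [Finite G] in
theorem centralizer_zpowers (x : G) :
    Subgroup.centralizer (Subgroup.zpowers x : Set G) = Subgroup.centralizer ({x} : Set G) := by
  rw [Subgroup.zpowers_eq_closure, Subgroup.centralizer_closure]

theorem relIndex_fus {x : G} (hx : orderOf x = p) :
    (Subgroup.centralizer (Subgroup.zpowers x : Set G)).relIndex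
      (Subgroup.normalizer (Subgroup.zpowers x : Set G)) = (fus (p := p) x).card := by
  have h1 := card_normalizer_zpowers hx
  have hle : Subgroup.centralizer (Subgroup.zpowers x : Set G) ≤ Subgroup.normalizer (Subgroup.zpowers x : Set G) :=
    Subgroup.centralizer_le_normalizer _
  have h2 := Subgroup.index_mul_card ((Subgroup.centralizer (Subgroup.zpowers x : Set G)).subgroupOf
    (Subgroup.normalizer (Subgroup.zpowers x : Set G)))
  rw [Nat.card_congr (Subgroup.subgroupOfEquivOfLe hle).toEquiv, h1, ← centralizer_zpowers x] at h2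
  exact Nat.eq_of_mul_eq_mul_right Nat.card_pos h2

theorem exists_sylow {x : G} (hx : orderOf x = p) (hsq : ¬ p ^ 2 ∣ Nat.card G) :
    ∃ P : Sylow p G, (P : Subgroup G) = Subgroup.zpowers x := by
  obtain ⟨P, hP⟩ := (IsPGroup.of_card (G := Subgroup.zpowers x) (p := p) (n := 1)
    (by rw [pow_one, Nat.card_zpowers, hx])).exists_le_sylow
  refine ⟨P, (Subgroup.eq_of_le_of_card_ge hP ?_).symm⟩
  obtain ⟨n, hn⟩ := IsPGroup.iff_card.1 P.2
  have h1 : p ^ n ∣ Nat.card G := hn ▸ Subgroup.card_subgroup_dvd_card _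
  have hn1 : n ≤ 1 := by
    by_contra hc
    exact hsq (dvd_trans (pow_dvd_pow p (by omega)) h1)
  rw [Nat.card_zpowers, hx, hn]
  calc p ^ n ≤ p ^ 1 := Nat.pow_le_pow_right hp.out.pos hn1
    _ = p := pow_one p

omit [Finite G] in
theorem card_fus_mono {M : Subgroup G} (x : M) : (fus (p := p) x).card ≤ (fus (p := p) (x : G)).card := by
  refine Finset.card_le_card fun m hm => ?_
  rw [mem_fus] at hm ⊢
  refine ⟨hm.1, ?_⟩
  obtain ⟨g, hg⟩ := isConj_iff.1 hm.2
  exact isConj_iff.2 ⟨g, congrArg Subtype.val hg⟩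

omit [Finite G] in
theorem card_fus_dvd' {x : G} (hx : orderOf x = p) : (fus (p := p) x).card ∣ p - 1 :=
  ⟨_, (card_fus_mul_card_sing (by rw [← hx]; exact pow_orderOf_eq_one x)).symm⟩

/-- the fusion of a self-centralizing element -/
theorem card_fus_eq {x : G} (hx : orderOf x = p) (hsq : ¬ p ^ 2 ∣ Nat.card G)
    (hc : Nat.card (Subgroup.centralizer ({x} : Set G)) = p) : (fus (p := p) x).card = (Nat.card G / p) % p := by
  have hd : p ∣ Nat.card G := hx ▸ orderOf_dvd_natCard x
  have hf : (Nat.card G).factorization p = 1 := by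
    refine le_antisymm ?_ ((hp.out.dvd_iff_one_le_factorization Nat.card_pos.ne').1 hd)
    by_contra hcon
    push Not at hcon
    exact hsq ((hp.out.pow_dvd_iff_le_factorization Nat.card_pos.ne').2 hcon)
  have h1 := card_fus_mul hf hx (c := 1) (by rw [hc, mul_one])
  rw [mul_one] at h1
  have h2 : (fus (p := p) x).card < p := by
    have h3 := Nat.le_of_dvd (by have := hp.out.one_lt; omega) (card_fus_dvd' hx)
    have := hp.out.one_lt
    omega
  have h3 : (fus (p := p) x).card % p = (Nat.card G / p) % p := h1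
  rwa [Nat.mod_eq_of_lt h2] at h3

end Cfsg.Agent.H590.Five
end

private theorem dce_605b818b0d52 : _root_.True := by
  try have : _root_.True := by simp only [_root_.Cfsg.Agent.H598.Gram.expo.congr_simp]
  try have : _root_.True := by simp only [_root_.Cfsg.Agent.H590.Five.loopF.eq_def]
  try have : _root_.True := by simp only [_root_.Cfsg.Agent.H590.Five.loopF.eq_2]
  try have : _root_.True := by simp only [_root_.Cfsg.Agent.H590.Five.loopF.eq_1]
  exact _root_.True.intro
end

section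
prune_inst 0xf0fcf8eaa83ddfdfff7e3faed9dffc11804fffefdff943ffe8e3bf1f9f030409e1fba50de090fe0ed6601c10b87853fb7eeeffe86fdc7ffffd5ff41ffbee0fb5e7b50871958c340fbc2fff03f0778a6f000081000000000000000000000000000000000000

-- part: H145/FivePSU3_mg
section
prune_inst 0x10100100000000000000001000000220100000000000000000800002000000000000000000000000000000000000000000000000000000000a000000000404010000000000000000000000000000000000000000000000000000000000000000200000000
set_option linter.all false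
open scoped Cfsg.Agent.FastGrp

-- part: H145/AlmostR1
section
/-!
# Five character degrees of an almost simple group with rank one structure

(helper145, for S4898.)
-/

set_option autoImplicit false

namespace Cfsg.Agent.H145.AlmostR1

open Cfsg Cfsg.Agent.Characters.Core Cfsg.Agent.H145.RankOne
open scoped ComplexConjugate

universe u

variable {G : Type u} [Group G] [Fintype G]

/-- The average over a subgroup `U` of a function on `M ≥ U`. -/
noncomputable def avg {M U : Subgroup G} (hU : U ≤ M) (φ : M → ℂ) : ℂ :=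
  (Nat.card U : ℂ)⁻¹ * ∑ᶠ u : U, φ ⟨u, hU u.2⟩

omit [Fintype G] in
theorem avg_eq {M U : Subgroup G} (hU : U ≤ M) [Fintype U] (φ : M → ℂ) :
    avg hU φ = (Nat.card U : ℂ)⁻¹ * ∑ u : U, φ ⟨u, hU u.2⟩ := by
  rw [avg, finsum_eq_sum_of_fintype]

theorem avg_restrict {M U : Subgroup G} (hU : U ≤ M) [Fintype U] (X : G → ℂ) :
    avg hU (fun n : M => X n) = classInner (X ∘ U.subtype) 1 := by
  rw [avg_eq, classInner_def]
  congr 1
  refine Finset.sum_congr rfl fun u _ => ?_
  simp

theorem avg_sum {M U : Subgroup G} (hU : U ≤ M) {ι : Type*} (s : Finset ι) (m : ι → ℕ) (φ : ι → M → ℂ) :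
    avg hU (∑ i ∈ s, m i • φ i) = ∑ i ∈ s, m i * avg hU (φ i) := by
  classical
  have : Fintype U := Fintype.ofFinite U
  simp only [avg_eq, Finset.sum_apply, Pi.smul_apply]
  simp only [nsmul_eq_mul]
  rw [Finset.sum_comm, Finset.mul_sum]
  refine Finset.sum_congr rfl fun i _ => ?_
  rw [← Finset.mul_sum]
  ring

/-- The average of a conjugate. -/
theorem avg_conj {M U : Subgroup G} [M.Normal] (hU : U ≤ M)
    (hfr : ∀ g : G, ∃ m ∈ M, ∃ h ∈ Subgroup.normalizer (U : Set G), g = m * h) {χ : M → ℂ} (hχ : IsClassFunction M χ) (g : G) :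
    avg hU (χ ∘ (MulAut.conjNormal g : MulAut M)) = avg hU χ := by
  classical
  have : Fintype U := Fintype.ofFinite U
  obtain ⟨m, hm, h, hh, rfl⟩ := hfr g
  rw [avg_eq, avg_eq]
  congr 1
  have hn : ∀ u : U, h * (u : G) * h⁻¹ ∈ U := fun u => (Subgroup.mem_normalizer_iff.1 hh u).1 u.2
  have hn' : ∀ u : U, h⁻¹ * (u : G) * h ∈ U := fun u => by
    have := (Subgroup.mem_normalizer_iff.1 ((Subgroup.normalizer (U : Set G)).inv_mem hh) u).1 u.2
    simpa only [_root_.inv_inv] using this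
  refine Fintype.sum_equiv
    { toFun := fun u : U => (⟨h * u * h⁻¹, hn u⟩ : U)
      invFun := fun u : U => (⟨h⁻¹ * u * h, hn' u⟩ : U)
      left_inv := fun u => Subtype.ext (by simp [mul_assoc])
      right_inv := fun u => Subtype.ext (by simp [mul_assoc]) } _ _ fun u => ?_
  rw [← isClassFunction_def.1 hχ _ ⟨m, hm⟩]
  rw [Function.comp_apply]
  congr 1
  apply Subtype.ext
  rw [MulAut.conjNormal_apply]
  simp only [mul_assoc, _root_.mul_inv_rev, _root_.Equiv.coe_fn_mk, _root_.MulMemClass.mk_mul_mk, _root_.Subgroup.coe_mul, _root_.InvMemClass.coe_inv]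

/-- **The degree of a character over `χ₀`.** -/
theorem over_degree {M U : Subgroup G} [M.Normal] [Fintype M] [Fintype U] (hU : U ≤ M)
    (hfr : ∀ g : G, ∃ m ∈ M, ∃ h ∈ Subgroup.normalizer (U : Set G), g = m * h) {χ₀ : M → ℂ} (h0 : IsIrrCharacter M χ₀)
    {b : ℂ} (hb : χ₀ 1 = b) (ha : avg hU χ₀ = 1) {X : G → ℂ} (hX : IsIrrCharacter G X)
    (hc : classInner (fun n : M => X n) χ₀ ≠ 0) : X 1 = b * classInner (X ∘ U.subtype) 1 := by
  classical
  have : Fintype (IrrCharacter M) := by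
    have := finite_irr (G := M)
    exact Fintype.ofFinite _
  have hres := Cfsg.Agent.Characters.Clifford.isCharacter_restrict M (isIrr_isCharacter hX)
  obtain ⟨m, hm⟩ := exists_nat_comb hres
  have h1 : ∀ ψ : IrrCharacter M, (m ψ : ℂ) * (ψ : M → ℂ) 1 = (m ψ : ℂ) * (b * avg hU (ψ : M → ℂ)) := by
    intro ψ
    by_cases hψ : m ψ = 0
    · rw [hψ]; simp
    · have h2 : classInner (fun n : M => X n) (ψ : M → ℂ) ≠ 0 := by
        rw [hm, classInner_sum_nsmul_irr]
        exact_mod_cast hψ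
      obtain ⟨g, hg⟩ := Cfsg.Agent.Characters.Clifford.exists_conj_of_constituents M hX h0 ψ.2 hc h2
      rw [hg, avg_conj hU hfr (isIrr_isClassFunction h0) g, ha, mul_one, Function.comp_apply, map_one, hb]
  have h2 : X 1 = ∑ ψ : IrrCharacter M, (m ψ : ℂ) * (ψ : M → ℂ) 1 := by
    have h3 := congrFun hm 1
    simp only [Finset.sum_apply, Pi.smul_apply] at h3
    simp only [nsmul_eq_mul] at h3
    rw [← h3]
    simp
  rw [h2, ← avg_restrict hU, hm, avg_sum, Finset.mul_sum, Finset.sum_congr rfl (fun ψ _ => h1 ψ)]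
  refine Finset.sum_congr rfl fun ψ _ => ?_
  ring

/-- **A constituent on `H` trivial on `U`.** -/
theorem exists_psi {H U : Subgroup G} [Fintype U] (hUH : U ≤ H) (hn : (U.subgroupOf H).Normal)
    {X : G → ℂ} (hX : IsIrrCharacter G X) (hc : classInner (X ∘ U.subtype) 1 ≠ 0) :
    ∃ ψ' : IrrCharacter (H ⧸ U.subgroupOf H), IsIrrCharacter H ((ψ' : H ⧸ U.subgroupOf H → ℂ) ∘ QuotientGroup.mk) ∧
      classInner (indFun H ((ψ' : H ⧸ U.subgroupOf H → ℂ) ∘ QuotientGroup.mk)) X ≠ 0 := by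
  classical
  have : Fintype H := Fintype.ofFinite H
  have : Fintype (IrrCharacter H) := by
    have := finite_irr (G := H)
    exact Fintype.ofFinite _
  have hres := Cfsg.Agent.Characters.Clifford.isCharacter_restrict H (isIrr_isCharacter hX)
  obtain ⟨m, hm⟩ := exists_nat_comb hres
  have h1 : ∃ ψ : IrrCharacter H, m ψ ≠ 0 ∧ avg hUH (ψ : H → ℂ) ≠ 0 := by
    by_contra hcon
    push Not at hcon
    apply hc
    rw [← avg_restrict hUH, hm, avg_sum]
    refine Finset.sum_eq_zero fun ψ _ => ?_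
    by_cases hψ : m ψ = 0
    · rw [hψ]; simp
    · rw [hcon ψ hψ, mul_zero]
  obtain ⟨ψ, hψ, ha⟩ := h1
  have : Fintype (U.subgroupOf H) := Fintype.ofFinite _
  obtain ⟨ψ', hψ'⟩ := Cfsg.Agent.Blocks.Deflate.exists_deflation (U.subgroupOf H) (ψ : H → ℂ) ψ.2 (by
    intro h2
    apply ha
    rw [avg_eq]
    have h3 : ∑ u : U, (ψ : H → ℂ) ⟨u, hUH u.2⟩ = ∑ n : U.subgroupOf H, (ψ : H → ℂ) n := by
      refine Fintype.sum_equiv (Subgroup.subgroupOfEquivOfLe hUH).symm.toEquiv _ _ fun u => ?_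
      rfl
    rw [h3, h2, mul_zero])
  refine ⟨ψ', ?_, ?_⟩
  · rw [← hψ']; exact ψ.2
  · rw [← hψ', Cfsg.Agent.OddOrderCharacters.Clifford.classInner_indFun H _ _ (isIrr_isClassFunction hX)]
    intro h2
    have h3 : classInner (fun n : H => X n) (ψ : H → ℂ) = 0 := by
      rw [← classInner_conj_symm, h2, map_zero]
    rw [hm, classInner_sum_nsmul_irr] at h3
    exact hψ (by exact_mod_cast h3)

/-- The degree bound. -/
theorem degree_le {H : Type*} [Group H] [Finite H] (N C : Subgroup H) [N.Normal]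
    (hcomm : ∀ x ∈ C, ∀ y ∈ C, x * y * x⁻¹ * y⁻¹ ∈ N) (ψ' : IrrCharacter (H ⧸ N)) {n : ℕ}
    (hn : (ψ' : H ⧸ N → ℂ) 1 = n) : n ≤ C.index := by
  obtain ⟨d, ρ, hρ, hχ⟩ := ψ'.2
  have hd : (ψ' : H ⧸ N → ℂ) 1 = d := by
    rw [← hχ, Representation.char_one]
    simp only [_root_.Module.finrank_fintype_fun_eq_card, _root_.Fintype.card_fin]
  have h1 : n = d := by
    rw [hn] at hd
    exact_mod_cast hd
  have h2 := Cfsg.Agent.Characters.DegreeBounds.finrank_le_index_of_comm ρ (C.map (QuotientGroup.mk' N)) (by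
    rintro _ ⟨x, hx, rfl⟩ _ ⟨y, hy, rfl⟩
    rw [← map_mul, ← map_mul, QuotientGroup.mk'_eq_mk']
    refine ⟨(x * y)⁻¹ * (y * x), ?_, by group⟩
    have h3 := hcomm y⁻¹ (C.inv_mem hy) x⁻¹ (C.inv_mem hx)
    have h4 : (x * y)⁻¹ * (y * x) = y⁻¹ * x⁻¹ * y⁻¹⁻¹ * x⁻¹⁻¹ := by group
    rw [h4]
    exact h3)
  have h3 : (C.map (QuotientGroup.mk' N)).index ∣ C.index :=
    Subgroup.index_map_dvd _ (QuotientGroup.mk'_surjective N)
  have h4 := Nat.le_of_dvd (Nat.pos_of_ne_zero Subgroup.index_ne_zero_of_finite) h3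
  rw [h1]
  have h5 : Module.finrank ℂ (Fin d → ℂ) = d := by simp only [_root_.Module.finrank_fintype_fun_eq_card, _root_.Fintype.card_fin]
  rw [h5] at h2
  exact h2.trans h4

omit [Fintype G] in
theorem mem_charDegrees {χ : G → ℂ} (hχ : IsIrrCharacter G χ) {n : ℕ} (hn : χ 1 = n) : n ∈ charDegrees G := by
  refine ⟨⟨χ, hχ⟩, ?_⟩
  change charDegree χ = n
  rw [charDegree, hn]
  simp

theorem finite_charDegrees : (charDegrees G).Finite := by
  have := finite_irr (G := G)
  have h : charDegrees G = Set.range (fun χ : IrrCharacter G => charDegree (χ : G → ℂ)) := by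
    ext d
    simp only [charDegrees, _root_.Subtype.exists, _root_.exists_prop, _root_.Set.mem_ofPred_eq, _root_.Set.mem_range]
  rw [h]
  exact Set.finite_range _

/-- An irreducible character over a given one of a normal subgroup. -/
theorem exists_over {M : Subgroup G} [Fintype M] {χ₀ : M → ℂ} (h0 : IsIrrCharacter M χ₀) :
    ∃ X : G → ℂ, IsIrrCharacter G X ∧ classInner (fun n : M => X n) χ₀ ≠ 0 := by
  classical
  have h1 := Cfsg.Agent.CharactersDeep.IndFun.isCharacter_indFun M (isIrr_isCharacter h0)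
  have h2 : indFun M χ₀ ≠ 0 := by
    intro h2
    have h3 := congrFun h2 1
    rw [Cfsg.Agent.OddOrderCharacters.InertiaAbelian.indFun_one, Pi.zero_apply, mul_eq_zero] at h3
    rcases h3 with h3 | h3
    · exact (Nat.cast_ne_zero.2 (Subgroup.index_ne_zero_of_finite (H := M))) h3
    · exact isIrr_apply_one_ne_zero h0 h3
  obtain ⟨X, hX, hc⟩ := Cfsg.Agent.H113.NormTwoChar.exists_constituent h1 h2
  refine ⟨X, hX, ?_⟩
  rw [Cfsg.Agent.OddOrderCharacters.Clifford.classInner_indFun M _ _ (isIrr_isClassFunction hX)] at hc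
  intro h3
  apply hc
  rw [← classInner_conj_symm, h3, map_zero]

/-- the arithmetic -/
theorem arith {q b v t : ℕ} (hq : 3 ≤ q) (hb : b = q * (q - 1) + 1) (hv1 : 1 ≤ v) (hvq : v ≤ q) (ht : 1 ≤ t) :
    ({1, q ^ 3, b * v, b * v * q, t * ((q + 1) * b)} : Finset ℕ).card = 5 := by
  have hb7 : 7 ≤ b := by
    rw [hb]
    have : 3 * 2 ≤ q * (q - 1) := Nat.mul_le_mul hq (by omega)
    omega
  have hcop : Nat.Coprime b (q ^ 3) := by
    apply Nat.Coprime.pow_right
    rw [hb, Nat.coprime_iff_gcd_eq_one, Nat.gcd_comm]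
    simp
  have hb1 : ∀ k, b * k ≠ q ^ 3 := by
    intro k hk
    have h1 : b ∣ q ^ 3 := ⟨k, hk.symm⟩
    have h2 := Nat.eq_one_of_dvd_coprimes hcop (dvd_refl b) h1
    omega
  have hq3 : 27 ≤ q ^ 3 := by
    have := Nat.pow_le_pow_left hq 3
    omega
  have hcop2 : Nat.Coprime (q + 1) q := by simp
  have h34 : b * v ≠ b * v * q := by
    intro h
    have h1 : 0 < b * v := by positivity
    have h2 : b * v * 1 = b * v * q := by rw [mul_one]; exact h
    have := Nat.eq_of_mul_eq_mul_left h1 h2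
    omega
  have h35 : b * v ≠ t * ((q + 1) * b) := by
    intro h
    have h1 : b * v = b * (t * (q + 1)) := by rw [h]; ring
    have h2 := Nat.eq_of_mul_eq_mul_left (by omega) h1
    have h3 : 1 * (q + 1) ≤ t * (q + 1) := Nat.mul_le_mul_right _ ht
    omega
  have h45 : b * v * q ≠ t * ((q + 1) * b) := by
    intro h
    have h1 : b * (v * q) = b * (t * (q + 1)) := by rw [← mul_assoc, h]; ring
    have h2 := Nat.eq_of_mul_eq_mul_left (by omega) h1
    have h3 : (q + 1) ∣ v * q := ⟨t, by rw [h2]; ring⟩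
    have h4 := hcop2.dvd_of_dvd_mul_right h3
    have h5 := Nat.le_of_dvd (by omega) h4
    omega
  have h1a : b * v ≠ 1 := by
    intro h
    have : b * 1 ≤ b * v := Nat.mul_le_mul_left _ hv1
    omega
  have h1b : b * v * q ≠ 1 := by
    intro h
    have : b * 1 ≤ b * v := Nat.mul_le_mul_left _ hv1
    have : b * v * 1 ≤ b * v * q := Nat.mul_le_mul_left _ (by omega)
    omega
  have h1c : t * ((q + 1) * b) ≠ 1 := by
    intro h
    have h1 := Nat.eq_one_of_mul_eq_one_left h
    have h2 := Nat.eq_one_of_mul_eq_one_left h1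
    omega
  have h23 : q ^ 3 ≠ b * v := fun h => hb1 v h.symm
  have h24 : q ^ 3 ≠ b * v * q := fun h => hb1 (v * q) (by rw [← mul_assoc]; exact h.symm)
  have h25 : q ^ 3 ≠ t * ((q + 1) * b) := fun h => hb1 (t * (q + 1)) (by rw [h]; ring)
  rw [Finset.card_insert_of_notMem, Finset.card_insert_of_notMem, Finset.card_insert_of_notMem,
    Finset.card_insert_of_notMem, Finset.card_singleton]
  · rw [Finset.mem_singleton]; exact h45
  · rw [Finset.mem_insert, Finset.mem_singleton]; push Not; exact ⟨h34, h35⟩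
  · rw [Finset.mem_insert, Finset.mem_insert, Finset.mem_singleton]; push Not; exact ⟨h23, h24, h25⟩
  · rw [Finset.mem_insert, Finset.mem_insert, Finset.mem_insert, Finset.mem_singleton]; push Not
    exact ⟨by omega, h1a.symm, h1b.symm, h1c.symm⟩

/-- **Five degrees.** -/
theorem five {M H U C : Subgroup G} [hMn : M.Normal] (D : R1 H U) (hUM : U ≤ M) (hH : H ≤ Subgroup.normalizer (U : Set G))
    (hfr : ∀ g : G, ∃ m ∈ M, ∃ h ∈ H, g = m * h) {q : ℕ} (hq : 3 ≤ q) (hcU : Nat.card U = q ^ 3)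
    {χ₀ ζ : M → ℂ} (h0 : IsIrrCharacter M χ₀) (h01 : χ₀ 1 = (q : ℂ) ^ 2 - q + 1) (h0a : avg hUM χ₀ = 1)
    (hζ : IsIrrCharacter M ζ) (hζ1 : ζ 1 = (q : ℂ) ^ 3 + 1)
    (hcomm : ∀ x ∈ C, ∀ y ∈ C, x * y * x⁻¹ * y⁻¹ ∈ U) (hidx : (C.subgroupOf H).index ≤ q) :
    5 ≤ (charDegrees G).ncard := by
  classical
  have : Fintype U := Fintype.ofFinite U
  have : Fintype M := Fintype.ofFinite M
  have hnorm : (U.subgroupOf H).Normal := by
    refine ⟨fun n hn h => ?_⟩
    rw [Subgroup.mem_subgroupOf] at hn ⊢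
    exact (Subgroup.mem_normalizer_iff.1 (hH h.2) n).1 hn
  set b : ℕ := q * (q - 1) + 1 with hb
  have hbC : ((b : ℕ) : ℂ) = (q : ℂ) ^ 2 - q + 1 := by
    rw [hb]
    push_cast [Nat.cast_sub (show 1 ≤ q by omega)]; ring
  have hb0 : (b : ℂ) ≠ 0 := Nat.cast_ne_zero.2 (by omega)
  -- the degree `q³`
  obtain ⟨Y₀, hY₀, hY₀1⟩ := D.exists_stein
  have hd2 : q ^ 3 ∈ charDegrees G := mem_charDegrees hY₀ (by rw [hY₀1, hcU])
  have hd1 : 1 ∈ charDegrees G := mem_charDegrees isIrr_one (by simp)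
  -- the character over `χ₀`
  obtain ⟨X, hX, hXc⟩ := exists_over h0
  obtain ⟨x, hx0, hx⟩ := isIrr_apply_one hX
  have hX1 := over_degree hUM (fun g => by
    obtain ⟨m, hm, h, hh, e⟩ := hfr g
    exact ⟨m, hm, h, hH hh, e⟩) h0 h01 h0a hX hXc
  have hmult : classInner (X ∘ U.subtype) 1 ≠ 0 := by
    intro h
    rw [h, mul_zero, hx] at hX1
    exact (Nat.cast_ne_zero.2 hx0.ne') hX1
  obtain ⟨ψ', hψ, hψc⟩ := exists_psi D.le hnorm hX hmult
  set ψ : H → ℂ := (ψ' : H ⧸ U.subgroupOf H → ℂ) ∘ QuotientGroup.mk with hψdef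
  obtain ⟨v, hv0, hv⟩ := isIrr_apply_one hψ
  have hψU : ∀ (u : G) (hu : u ∈ U), ψ ⟨u, D.le hu⟩ = ψ 1 := by
    intro u hu
    have h1 : (QuotientGroup.mk (⟨u, D.le hu⟩ : H) : H ⧸ U.subgroupOf H) = QuotientGroup.mk (1 : H) := by
      rw [QuotientGroup.mk_one, QuotientGroup.eq_one_iff, Subgroup.mem_subgroupOf]
      exact hu
    rw [hψdef, Function.comp_apply, Function.comp_apply, h1]
  have hvq : v ≤ q := by
    refine (degree_le (U.subgroupOf H) (C.subgroupOf H) ?_ ψ' ?_).trans hidx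
    · intro x hx y hy
      rw [Subgroup.mem_subgroupOf] at hx hy ⊢
      exact hcomm _ hx _ hy
    · rw [← hv]; rfl
  -- the second character
  have hd34 : b * v ∈ charDegrees G ∧ b * v * q ∈ charDegrees G := by
    rcases D.dichotomy hψ hψU hX hψc with h | ⟨Y, hY, hsum, hm⟩
    · exfalso
      rw [← h] at hψc
      have h1 := D.inner_U (isIrr_isClassFunction hψ) hψU
      have h2 := D.ind_one ψ
      rw [← h] at h1 h2
      rw [h1, h2, hcU, hv] at hX1
      have h3 : ((q ^ 3 + 1) * v : ℕ) = ((b * (2 * v) : ℕ)) := by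
        have : (((q ^ 3 + 1) * v : ℕ) : ℂ) = ((b * (2 * v) : ℕ) : ℂ) := by
          push_cast [hbC]
          push_cast at hX1
          exact hX1
        exact_mod_cast this
      have h4 : (q + 1) * b = q ^ 3 + 1 := by
        have : (((q + 1) * b : ℕ) : ℂ) = ((q ^ 3 + 1 : ℕ) : ℂ) := by
          push_cast [hbC]
          ring
        exact_mod_cast this
      rw [← h4] at h3
      have h5 : (b * v) * (q + 1) = (b * v) * 2 := by linarith only [h3]
      have h6 := Nat.eq_of_mul_eq_mul_left (by (clear * - hv0; positivity)) h5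
      omega
    · rw [hm, hv, ← hbC] at hX1
      refine ⟨mem_charDegrees hX (by rw [hX1]; push_cast; ring), mem_charDegrees hY ?_⟩
      have h2 := D.ind_one ψ
      rw [hsum, Pi.add_apply, hX1, hcU, hv] at h2
      push_cast [hbC] at h2 ⊢
      linear_combination h2
  -- the character over `ζ`
  obtain ⟨Z, hZ, hZc⟩ := exists_over hζ
  obtain ⟨z, hz0, hz⟩ := isIrr_apply_one hZ
  have hdvd := S0887.result M Z hZ ζ hζ hZc z (q ^ 3 + 1) hz (by rw [hζ1]; push_cast; ring)
  obtain ⟨t, ht⟩ := hdvd.1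
  have hbq : (q + 1) * b = q ^ 3 + 1 := by
    have : (((q + 1) * b : ℕ) : ℂ) = ((q ^ 3 + 1 : ℕ) : ℂ) := by
      push_cast [hbC]
      ring
    exact_mod_cast this
  have ht1 : 1 ≤ t := by
    rcases Nat.eq_zero_or_pos t with h | h
    · rw [h, mul_zero] at ht
      omega
    · exact h
  have hd5 : t * ((q + 1) * b) ∈ charDegrees G := by
    rw [hbq, mul_comm, ← ht]
    exact mem_charDegrees hZ hz
  have hcard := arith hq hb hv0 hvq ht1
  rw [← hcard, ← Set.ncard_coe_finset]
  apply Set.ncard_le_ncard _ finite_charDegrees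
  intro d hd
  simp only [Finset.coe_insert, Finset.coe_singleton, Set.mem_insert_iff, Set.mem_singleton_iff] at hd
  rcases hd with rfl | rfl | rfl | rfl | rfl
  · exact hd1
  · exact hd2
  · exact hd34.1
  · exact hd34.2
  · exact hd5

end Cfsg.Agent.H145.AlmostR1
end

-- part: H145/U3Geo
section
/-!
# An almost simple group with socle `PSU₃(q)` has the rank one structure

(helper145, for S4898.)
-/

set_option autoImplicit false

namespace Cfsg.Agent.H145.U3Geo

open Matrix Cfsg Cfsg.Agent.Characters.Core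
  Cfsg.Agent.LieClassical.HermBasic Cfsg.Agent.LieClassical.HermSiegel Cfsg.Agent.LieClassical.HermGen
  Cfsg.Agent.LieClassical.SUBasic Cfsg.Agent.ClassicalGeometry.PSUAutBasic
  Cfsg.Agent.H961.LineChar Cfsg.Agent.H618.InvPSU3 Cfsg.Agent.H145.U3Sum Cfsg.Agent.H145.RankOne
  Cfsg.Agent.H145.U3Op Cfsg.Agent.H145.U3Ker Cfsg.Agent.H145.U3Ind

open Cfsg.Agent.ClassicalGeometry.PSUAutCount (gm semiConj toAut herm_gm act_semiConj herm_semi
  gm_inv_mulVec gm_mulVec_inv guConj act_guConj gm_mul gm_one)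
open Cfsg.Agent.ClassicalGeometry.UnitAutBasic (T c0 c0_ne_zero c0_tr exists_c0_mul_norm act_T act_T_smul conj_T)

variable {F : Type*} [Field F] [Fintype F] {q : ℕ} {e f : Fin 3 → F}

/-- The stabilizer of the isotropic vector `e` is the group of Siegel transformations. -/
theorem mem_siegG_iff (hF : Fintype.card F = q ^ 2) (H : IsFrame q e f) (g : SU 3 F q) :
    g ∈ siegG hF e H.ee ↔ act g e = e := by
  constructor
  · rintro ⟨w, μ, h, rfl⟩
    exact act_siegel_self hF h
  · intro hg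
    have hp := hp_of_frame hF H
    have hfe : hermForm 3 F q f e = 1 := hp.zx hF
    have h1 : hermForm 3 F q (act g f) e = 1 := by
      have : hermForm 3 F q (act g f) (act g e) = 1 := by rw [herm_act, hfe]
      rwa [hg] at this
    obtain ⟨c, μ, h, hu⟩ := exists_siegel_map hF (u := e) (v := act g f) (v' := f) H.ee
      (by rw [herm_act]) (by rw [h1, hfe]) (by rw [h1]; exact one_ne_zero)
    obtain ⟨σ, hσ, hσe, hσf⟩ : ∃ σ ∈ siegG hF e H.ee, act σ e = e ∧ act σ (act g f) = f :=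
      ⟨_, ⟨_, _, h, rfl⟩, act_siegel_self hF h, hu⟩
    set k := σ * g with hk
    have hke : act k e = e := by rw [hk, act_mul, hg, hσe]
    have hkf : act k f = f := by rw [hk, act_mul, hσf]
    have hspan : ∀ i : Fin 3, i ≠ 0 → act k (Pi.single i 1) = Pi.single i 1 := by
      intro i hi
      have h2 := hp.span (Pi.single i 1)
      have h3 : hermForm 3 F q (Pi.single i 1) (Pi.single 0 1) = 0 := by
        rw [herm_single_left, Pi.single_eq_of_ne hi, zero_pow_q hF, mul_zero]
      rw [h3, zero_smul, add_zero] at h2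
      rw [h2, act_add, act_smul, act_smul, hke, hkf]
    have hw : act k (Pi.single 0 1) = hermForm 3 F q (act k (Pi.single 0 1)) (Pi.single 0 1) • (Pi.single 0 1 : Fin 3 → F) := by
      have h2 := hp.span (act k (Pi.single 0 1))
      have h3 : hermForm 3 F q (act k (Pi.single 0 1)) e = 0 := by
        have : hermForm 3 F q (act k (Pi.single 0 1)) (act k e) = 0 := by rw [herm_act, hp.wx]
        rwa [hke] at this
      have h4 : hermForm 3 F q (act k (Pi.single 0 1)) f = 0 := by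
        have : hermForm 3 F q (act k (Pi.single 0 1)) (act k f) = 0 := by rw [herm_act, hp.wz]
        rwa [hkf] at this
      rw [h3, h4, zero_smul, zero_smul, zero_add, add_zero] at h2
      exact h2
    set τ := hermForm 3 F q (act k (Pi.single 0 1)) (Pi.single 0 1) with hτ
    have hmat : ∀ i j, mat k j i = (if i = 0 then τ else 1) * (if j = i then 1 else 0) := by
      intro i j
      rw [← act_single]
      by_cases hi : i = 0
      · subst hi
        rw [hw, if_pos rfl, Pi.smul_apply, smul_eq_mul, Pi.single_apply]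
      · rw [hspan i hi, if_neg hi, one_mul, Pi.single_apply]
    have hτ1 : τ = 1 := by
      have h2 := det_mat k
      rw [Matrix.det_fin_three] at h2
      simp only [hmat] at h2
      simpa using h2
    have hk1 : k = 1 := by
      apply mat_injective
      ext j i
      rw [hmat, hτ1, mat_one, Matrix.one_apply]
      simp
    have h5 : g = σ⁻¹ := by
      rw [hk, mul_eq_one_iff_inv_eq] at hk1
      exact hk1.symm
    rw [h5]
    exact (siegG hF e H.ee).inv_mem hσ

/-- The situation: `π : SU₃(q) → G` with central kernel, every element of `G` acting semilinearly. -/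
structure Sit {G : Type*} [Group G] (π : SU 3 F q →* G) : Prop where
  ker : ∀ s, π s = 1 ↔ s ∈ Subgroup.center (SU 3 F q)
  ind : ∀ g, ∃ (A : Cfsg.GU 3 F q) (ρ : F ≃+* F), ∀ s, g * π s * g⁻¹ = π (semiConj A ρ s)
  cent : ∀ g, (∀ s, g * π s = π s * g) → g = 1

namespace Sit

variable {G : Type*} [Group G] {π : SU 3 F q →* G}

/-- The root subgroup in `G`. -/
def UU (π : SU 3 F q →* G) (hF : Fintype.card F = q ^ 2) (H : IsFrame q e f) : Subgroup G :=
  (siegG hF e H.ee).map π

/-- Its normalizer. -/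
def HH (π : SU 3 F q →* G) (hF : Fintype.card F = q ^ 2) (H : IsFrame q e f) : Subgroup G :=
  Subgroup.normalizer (UU π hF H : Set G)

omit [Fintype F] in
theorem eq_of (S : Sit π) {s t : SU 3 F q} (h : π s = π t) : ∃ z ∈ Subgroup.center (SU 3 F q), s = t * z := by
  refine ⟨t⁻¹ * s, ?_, by group⟩
  rw [← S.ker, map_mul, map_inv, h, inv_mul_cancel]

theorem inj_siegG (hF : Fintype.card F = q ^ 2) (H : IsFrame q e f) (S : Sit π) {s t : SU 3 F q}
    (hs : s ∈ siegG hF e H.ee) (ht : t ∈ siegG hF e H.ee) (h : π s = π t) : s = t := by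
  obtain ⟨z, hz, rfl⟩ := S.eq_of h
  obtain ⟨c, -, -, hc⟩ := exists_scalar_of_mem_center hF le_rfl hz
  rw [mem_siegG_iff hF H] at hs ht
  rw [act_mul, hc, act_smul, ht] at hs
  have h1 : c = 1 := by
    have h2 : (c - 1) • e = 0 := by rw [sub_smul, hs, one_smul, sub_self]
    exact sub_eq_zero.1 ((smul_eq_zero.1 h2).resolve_right (e_ne H))
  have h2 : z = 1 := by
    apply ext_act
    intro v
    rw [hc, h1, one_smul, act_one]
  rw [h2, mul_one]

theorem card_UU (hF : Fintype.card F = q ^ 2) (H : IsFrame q e f) (S : Sit π) : Nat.card (UU π hF H) = q ^ 3 := by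
  rw [← card_U hF H]
  symm
  refine Nat.card_congr (Equiv.ofBijective (fun s : siegG hF e H.ee => (⟨π s, ⟨s, s.2, rfl⟩⟩ : UU π hF H)) ⟨?_, ?_⟩)
  · intro s t h
    exact Subtype.ext (S.inj_siegG hF H s.2 t.2 (congrArg Subtype.val h))
  · rintro ⟨_, ⟨s, hs, rfl⟩⟩
    exact ⟨⟨s, hs⟩, rfl⟩

/-- A transvection in the root subgroup has centre `e`. -/
theorem smul_of_T (hF : Fintype.card F = q ^ 2) (H : IsFrame q e f) (S : Sit π) {v : Fin 3 → F}
    (hv : hermForm 3 F q v v = 0) (h : π (T hF v) ∈ UU π hF H) : ∃ c : F, v = c • e := by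
  obtain ⟨s, hs, hsT⟩ := h
  obtain ⟨z, hz, hst⟩ := S.eq_of hsT
  obtain ⟨c, hc0, -, hc⟩ := exists_scalar_of_mem_center hF le_rfl hz
  have hs' := (mem_siegG_iff hF H s).1 hs
  rw [hst, act_mul, hc, act_smul, act_T hF hv] at hs'
  -- `c (e + (c0 h(e,v)) v) = e`
  have h1 : hermForm 3 F q e v = 0 := by
    by_contra h1
    apply h1
    have h2 : (c0 hF * hermForm 3 F q e v) • v = (c⁻¹ - 1) • e := by
      have h3 := congrArg (fun x => c⁻¹ • x) hs'
      simp only [smul_smul, inv_mul_cancel₀ hc0, one_smul] at h3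
      rw [sub_smul, one_smul, ← h3]
      abel
    have h4 : v = ((c0 hF * hermForm 3 F q e v)⁻¹ * (c⁻¹ - 1)) • e := by
      rw [← smul_smul, ← h2, smul_smul, inv_mul_cancel₀ (mul_ne_zero (c0_ne_zero hF) h1), one_smul]
    rw [h4, herm_smul_right, H.ee, mul_zero]
  exact smul_of_orth hF (e_ne H) H.ee hv (herm_eq_zero_swap hF h1)

/-- Elements mapping the line of `e` to itself normalize the root subgroup. -/
theorem mem_HH_iff (hF : Fintype.card F = q ^ 2) (H : IsFrame q e f) (S : Sit π) {g : G} {A : Cfsg.GU 3 F q}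
    {ρ : F ≃+* F} (hg : ∀ s, g * π s * g⁻¹ = π (semiConj A ρ s)) :
    g ∈ HH π hF H ↔ ∃ c : F, (gm A *ᵥ fun i => ρ (e i)) = c • e := by
  constructor
  · intro h
    have h1 : g * π (T hF e) * g⁻¹ ∈ UU π hF H :=
      (Subgroup.mem_normalizer_iff.1 h _).1 ⟨_, T_mem hF H, rfl⟩
    rw [hg] at h1
    obtain ⟨r, hr0, hr⟩ := Cfsg.Agent.ClassicalGeometry.PSUAutCount.exists_r hF ρ
    rw [semiConj_T hF A ρ hr H.ee] at h1
    obtain ⟨c, hc⟩ := S.smul_of_T hF H (v := r • (gm A *ᵥ fun i => ρ (e i)))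
      (by rw [herm_smul_left, herm_smul_right, herm_semi, H.ee, map_zero]; ring)
      h1
    refine ⟨r⁻¹ * c, ?_⟩
    rw [← smul_smul, ← hc, smul_smul, inv_mul_cancel₀ hr0, one_smul]
  · rintro ⟨c, hc⟩
    have hc0 : c ≠ 0 := by
      rintro rfl
      rw [zero_smul] at hc
      exact semi_ne A ρ (e_ne H) hc
    have hiff : ∀ s : SU 3 F q, act s e = e ↔ act (semiConj A ρ s) e = e := by
      intro s
      have h1 := act_semiConj A ρ s e
      rw [hc, act_smul] at h1
      constructor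
      · intro h
        rw [h, hc] at h1
        exact smul_right_injective _ hc0 h1
      · intro h
        rw [h, ← hc] at h1
        have h2 := congrArg (gm A⁻¹ *ᵥ ·) h1
        simp only [gm_inv_mulVec] at h2
        funext i
        exact (ρ.injective (congrFun h2 i)).symm
    rw [HH, Subgroup.mem_normalizer_iff]
    intro x
    constructor
    · rintro ⟨s, hs, rfl⟩
      rw [hg]
      exact ⟨_, (mem_siegG_iff hF H _).2 ((hiff s).1 ((mem_siegG_iff hF H s).1 hs)), rfl⟩
    · rintro ⟨t, ht, htx⟩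
      obtain ⟨s, rfl⟩ := (semiConj A ρ).surjective t
      have h1 : x = π s := by
        rw [← hg] at htx
        have h2 : x = g⁻¹ * (g * x * g⁻¹) * g := by group
        rw [h2, ← htx]; group
      rw [h1]
      exact ⟨s, (mem_siegG_iff hF H s).2 ((hiff s).2 ((mem_siegG_iff hF H _).1 ht)), rfl⟩

theorem pi_mem_HH_iff (hF : Fintype.card F = q ^ 2) (H : IsFrame q e f) (S : Sit π) (s : SU 3 F q) :
    π s ∈ HH π hF H ↔ s ∈ lineStab (rho F q) e := by
  constructor
  · intro h
    have h1 : π s * π (T hF e) * (π s)⁻¹ ∈ UU π hF H :=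
      (Subgroup.mem_normalizer_iff.1 h _).1 ⟨_, T_mem hF H, rfl⟩
    rw [← map_inv, ← map_mul, ← map_mul, conj_T hF s H.ee] at h1
    have hs0 : act s e ≠ 0 := fun h => e_ne H ((act_eq_zero s).1 h)
    obtain ⟨c, hc⟩ := S.smul_of_T hF H (v := act s e) (by rw [herm_act, H.ee]) h1
    have hc0 : c ≠ 0 := by
      rintro rfl
      rw [zero_smul] at hc
      exact hs0 hc
    exact ⟨Units.mk0 c hc0, hc⟩
  · rintro ⟨a, ha⟩
    rw [rho_mulVec] at ha
    have hiff : ∀ t : SU 3 F q, act t e = e ↔ act (s * t * s⁻¹) e = e := by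
      intro t
      have h1 : act s⁻¹ e = (a : F)⁻¹ • e := by
        have h2 := congrArg (act s⁻¹) ha
        rw [act_inv_act, act_smul] at h2
        rw [h2, smul_smul, inv_mul_cancel₀ a.ne_zero, one_smul, ← h2]
      rw [act_mul, act_mul, h1, act_smul, act_smul]
      constructor
      · intro h
        rw [h, ha, smul_smul, inv_mul_cancel₀ a.ne_zero, one_smul]
      · intro h
        have h2 := congrArg (act s⁻¹) h
        rw [act_smul, act_inv_act, h1] at h2
        exact smul_right_injective _ (inv_ne_zero a.ne_zero) h2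
    rw [HH, Subgroup.mem_normalizer_iff]
    intro x
    constructor
    · rintro ⟨t, ht, rfl⟩
      rw [← map_inv, ← map_mul, ← map_mul]
      exact ⟨_, (mem_siegG_iff hF H _).2 ((hiff t).1 ((mem_siegG_iff hF H t).1 ht)), rfl⟩
    · rintro ⟨t, ht, htx⟩
      have h1 : x = π (s⁻¹ * t * s) := by
        rw [map_mul, map_mul, htx, map_inv]; group
      rw [h1]
      refine ⟨_, (mem_siegG_iff hF H _).2 ((hiff _).2 ?_), rfl⟩
      have h2 : s * (s⁻¹ * t * s) * s⁻¹ = t := by group
      rw [h2]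
      exact (mem_siegG_iff hF H _).1 ht

/-- The Frattini argument. -/
theorem frattini (hF : Fintype.card F = q ^ 2) (H : IsFrame q e f) (S : Sit π) (g : G) :
    ∃ s : SU 3 F q, ∃ h ∈ HH π hF H, g = π s * h := by
  obtain ⟨A, ρ, hg⟩ := S.ind g
  obtain ⟨s, hs⟩ := exists_map hF (e_ne H) (semi_ne A ρ (e_ne H)) H.ee (by rw [herm_semi, H.ee, map_zero])
  refine ⟨s, (π s)⁻¹ * g, ?_, by group⟩
  obtain ⟨B, κ, hh⟩ := S.ind ((π s)⁻¹ * g)
  -- normalizes directly
  have hiff : ∀ t : SU 3 F q, act t e = e ↔ act (s⁻¹ * semiConj A ρ t * s) e = e := by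
    intro t
    rw [act_mul, act_mul, hs, act_semiConj]
    have h1 : act s⁻¹ (gm A *ᵥ fun i => ρ (e i)) = e := by rw [← hs, act_inv_act]
    constructor
    · intro h
      rw [h, h1]
    · intro h
      have h2 := congrArg (act s) h
      rw [act_act_inv, hs] at h2
      exact semi_inj A ρ h2
  have hconj : ∀ t : SU 3 F q, ((π s)⁻¹ * g) * π t * ((π s)⁻¹ * g)⁻¹ = π (s⁻¹ * semiConj A ρ t * s) := by
    intro t
    rw [map_mul, map_mul, ← hg, map_inv]; group
  rw [HH, Subgroup.mem_normalizer_iff]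
  intro x
  constructor
  · rintro ⟨t, ht, rfl⟩
    rw [hconj]
    exact ⟨_, (mem_siegG_iff hF H _).2 ((hiff t).1 ((mem_siegG_iff hF H t).1 ht)), rfl⟩
  · rintro ⟨t, ht, htx⟩
    obtain ⟨r, hr⟩ := (semiConj A ρ).surjective (s * t * s⁻¹)
    have h0 : t = s⁻¹ * semiConj A ρ r * s := by rw [hr]; group
    have h1 : x = π r := by
      rw [h0, ← hconj] at htx
      have h2 : x = ((π s)⁻¹ * g)⁻¹ * (((π s)⁻¹ * g) * x * ((π s)⁻¹ * g)⁻¹) * ((π s)⁻¹ * g) := by group
      rw [h2, ← htx]; group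
    rw [h1]
    refine ⟨r, (mem_siegG_iff hF H r).2 ((hiff r).2 ?_), rfl⟩
    rw [← h0]
    exact (mem_siegG_iff hF H t).1 ht

/-- **The rank one structure.** -/
theorem r1 (hF : Fintype.card F = q ^ 2) (H : IsFrame q e f) (S : Sit π) : R1 (HH π hF H) (UU π hF H) where
  le := Subgroup.le_normalizer
  ne_top := by
    obtain ⟨x, hx⟩ := (U3Ind.r1 hF H).ne_top
    exact ⟨π x, fun h => hx ((S.pi_mem_HH_iff hF H x).1 h)⟩
  tr := by
    intro x hx y hy
    obtain ⟨s, h, hh, rfl⟩ := S.frattini hF H x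
    obtain ⟨t, k, hk, rfl⟩ := S.frattini hF H y
    have hs : s ∉ lineStab (rho F q) e := fun h' =>
      hx ((HH π hF H).mul_mem ((S.pi_mem_HH_iff hF H s).2 h') hh)
    have ht : t ∉ lineStab (rho F q) e := fun h' =>
      hy ((HH π hF H).mul_mem ((S.pi_mem_HH_iff hF H t).2 h') hk)
    obtain ⟨u, hu, b, hb, rfl⟩ := (U3Ind.r1 hF H).tr s hs t ht
    refine ⟨π u, ⟨u, hu, rfl⟩, h⁻¹ * π b * k, ?_, ?_⟩
    · exact (HH π hF H).mul_mem ((HH π hF H).mul_mem ((HH π hF H).inv_mem hh) ((S.pi_mem_HH_iff hF H b).2 hb)) hk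
    · rw [map_mul, map_mul]; group
  free := by
    rintro _ ⟨u, hu, rfl⟩ hu1 x hx hmem
    obtain ⟨s, h, hh, rfl⟩ := S.frattini hF H x
    have hs : s ∉ lineStab (rho F q) e := fun h' =>
      hx ((HH π hF H).mul_mem ((S.pi_mem_HH_iff hF H s).2 h') hh)
    have hu1' : u ≠ 1 := by
      rintro rfl
      exact hu1 (map_one π)
    apply (U3Ind.r1 hF H).free u hu hu1' s hs
    rw [← S.pi_mem_HH_iff hF H, map_mul, map_mul, map_inv]
    have h1 : (π s)⁻¹ * π u * π s = h * ((π s * h)⁻¹ * π u * (π s * h)) * h⁻¹ := by group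
    rw [h1]
    exact (HH π hF H).mul_mem ((HH π hF H).mul_mem hh hmem) ((HH π hF H).inv_mem hh)

omit [Fintype F] in
theorem guConj_mul (A B : Cfsg.GU 3 F q) (s : SU 3 F q) : guConj (A * B) s = guConj A (guConj B s) := by
  apply ext_act
  intro x
  rw [act_guConj, act_guConj, act_guConj, _root_.mul_inv_rev, gm_mul, gm_mul]
  simp only [act_def, mulVec_mulVec, Matrix.mul_assoc]

omit [Fintype F] in
theorem guConj_one (s : SU 3 F q) : guConj (1 : Cfsg.GU 3 F q) s = s := by
  apply ext_act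
  intro x
  rw [act_guConj, inv_one, gm_one, one_mulVec, one_mulVec]

/-- The elements inducing inner-diagonal automorphisms. -/
def CC (π : SU 3 F q →* G) : Subgroup G where
  carrier := {g | ∃ A : Cfsg.GU 3 F q, ∀ s, g * π s * g⁻¹ = π (guConj A s)}
  one_mem' := ⟨1, fun s => by rw [guConj_one]; group⟩
  mul_mem' := by
    rintro g h ⟨A, hA⟩ ⟨B, hB⟩
    refine ⟨A * B, fun s => ?_⟩
    rw [guConj_mul, ← hA, ← hB]; group
  inv_mem' := by
    rintro g ⟨A, hA⟩
    refine ⟨A⁻¹, fun s => ?_⟩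
    have h1 := hA (guConj A⁻¹ s)
    rw [← guConj_mul, mul_inv_cancel, guConj_one] at h1
    rw [← h1]; group

omit [Fintype F] in
theorem mem_CC {g : G} : g ∈ CC π ↔ ∃ A : Cfsg.GU 3 F q, ∀ s, g * π s * g⁻¹ = π (guConj A s) := Iff.rfl

omit [Fintype F] in
theorem semiConj_refl (A : Cfsg.GU 3 F q) (s : SU 3 F q) : semiConj A (RingEquiv.refl F) s = guConj A s := by
  apply ext_act
  intro x
  have h1 := act_semiConj A (RingEquiv.refl F) s (gm A⁻¹ *ᵥ x)
  have h2 : (fun i => (RingEquiv.refl F) ((gm A⁻¹ *ᵥ x) i)) = gm A⁻¹ *ᵥ x := rfl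
  rw [h2, gm_mulVec_inv] at h1
  rw [h1, act_guConj]
  rfl

omit [Fintype F] in
/-- The stabilizer in `G` modulo the inner-diagonal part embeds in the field automorphisms. -/
theorem index_CC [Finite F] (S : Sit π) (K : Subgroup G) : ((CC π).subgroupOf K).index ≤ Nat.card (F ≃+* F) := by
  classical
  choose A ρ hA using S.ind
  have : Finite (F ≃+* F) := Finite.of_injective (fun r : F ≃+* F => (r : F → F)) DFunLike.coe_injective
  rw [Subgroup.index]
  refine Nat.card_le_card_of_injective (fun x : K ⧸ (CC π).subgroupOf K => ρ (((Quotient.out x : K) : G)⁻¹)) ?_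
  intro x y hxy
  simp only at hxy
  set a : K := Quotient.out x with ha
  set b : K := Quotient.out y with hb
  have hx : x = QuotientGroup.mk a := (QuotientGroup.out_eq' x).symm
  have hy : y = QuotientGroup.mk b := (QuotientGroup.out_eq' y).symm
  rw [hx, hy, QuotientGroup.eq, Subgroup.mem_subgroupOf, Subgroup.coe_mul, Subgroup.coe_inv, mem_CC]
  refine ⟨A ((a : G)⁻¹) * (A ((b : G)⁻¹))⁻¹, fun t => ?_⟩
  obtain ⟨s, rfl⟩ := (semiConj (A ((b : G)⁻¹)) (ρ ((b : G)⁻¹))).surjective t
  have h1 := hA ((b : G)⁻¹) s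
  have h2 := hA ((a : G)⁻¹) s
  rw [← h1]
  have h3 : (a : G)⁻¹ * b * ((b : G)⁻¹ * π s * ((b : G)⁻¹)⁻¹) * ((a : G)⁻¹ * b)⁻¹ = (a : G)⁻¹ * π s * ((a : G)⁻¹)⁻¹ := by
    group
  rw [h3, h2]
  congr 1
  rw [hxy]
  have h4 : ∀ (B : Cfsg.GU 3 F q) (r : F ≃+* F), semiConj B r s =
      guConj B (Cfsg.Agent.LieClassical.FieldTransfer.suCongr 3 q r s) := fun _ _ => rfl
  rw [h4, h4, ← guConj_mul, inv_mul_cancel_right]

/-- **Commutators of elements of the stabilizer inducing inner-diagonal automorphisms.** -/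
theorem comm_mem (hF : Fintype.card F = q ^ 2) (H : IsFrame q e f) (S : Sit π) {x y : G}
    (hx : x ∈ CC π ⊓ HH π hF H) (hy : y ∈ CC π ⊓ HH π hF H) : x * y * x⁻¹ * y⁻¹ ∈ UU π hF H := by
  obtain ⟨⟨A, hA⟩, hxH⟩ := hx
  obtain ⟨⟨B, hB⟩, hyH⟩ := hy
  have hrefl : ∀ (C : Cfsg.GU 3 F q), (gm C *ᵥ fun i => (RingEquiv.refl F) (e i)) = gm C *ᵥ e := fun _ => rfl
  obtain ⟨a, ha⟩ := (S.mem_HH_iff hF H (A := A) (ρ := RingEquiv.refl F) (fun s => by rw [semiConj_refl]; exact hA s)).1 hxH
  obtain ⟨b, hb⟩ := (S.mem_HH_iff hF H (A := B) (ρ := RingEquiv.refl F) (fun s => by rw [semiConj_refl]; exact hB s)).1 hyH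
  rw [hrefl] at ha hb
  have ha0 : a ≠ 0 := by
    rintro rfl
    rw [zero_smul] at ha
    have h1 := congrArg (gm A⁻¹ *ᵥ ·) ha
    simp only [gm_inv_mulVec, mulVec_zero] at h1
    exact e_ne H h1
  have hb0 : b ≠ 0 := by
    rintro rfl
    rw [zero_smul] at hb
    have h1 := congrArg (gm B⁻¹ *ᵥ ·) hb
    simp only [gm_inv_mulVec, mulVec_zero] at h1
    exact e_ne H h1
  have ha' : gm A⁻¹ *ᵥ e = a⁻¹ • e := by
    have h1 := congrArg (gm A⁻¹ *ᵥ ·) ha
    simp only [gm_inv_mulVec, mulVec_smul] at h1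
    rw [h1, smul_smul, inv_mul_cancel₀ ha0, one_smul, ← h1]
  have hb' : gm B⁻¹ *ᵥ e = b⁻¹ • e := by
    have h1 := congrArg (gm B⁻¹ *ᵥ ·) hb
    simp only [gm_inv_mulVec, mulVec_smul] at h1
    rw [h1, smul_smul, inv_mul_cancel₀ hb0, one_smul, ← h1]
  set D : Cfsg.GU 3 F q := A * B * A⁻¹ * B⁻¹ with hD
  have hDm : gm D = gm A * gm B * gm A⁻¹ * gm B⁻¹ := by rw [hD, gm_mul, gm_mul, gm_mul]
  have hdet : (gm D).det = 1 := by
    have h1 : (gm A).det * (gm A⁻¹).det = 1 := by
      rw [← det_mul, ← gm_mul, mul_inv_cancel, gm_one, det_one]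
    have h2 : (gm B).det * (gm B⁻¹).det = 1 := by
      rw [← det_mul, ← gm_mul, mul_inv_cancel, gm_one, det_one]
    rw [hDm, det_mul, det_mul, det_mul]
    linear_combination (gm B).det * (gm B⁻¹).det * h1 + h2
  set s0 : SU 3 F q := mkSU (gm D) hdet (fun u v => herm_gm D u v) with hs0
  have hact : ∀ v, act s0 v = gm D *ᵥ v := fun v => rfl
  have he : act s0 e = e := by
    rw [hact, hDm, ← mulVec_mulVec, ← mulVec_mulVec, ← mulVec_mulVec]
    simp only [hb', mulVec_smul, ha', hb, ha, smul_smul]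
    have : b⁻¹ * (a⁻¹ * (b * a)) = 1 := by field_simp
    first
      | rw [this, one_smul]
      | (have h9 : b⁻¹ * a⁻¹ * b * a = 1 := by field_simp
         rw [h9, one_smul])
  have hconj : ∀ s, guConj D s = s0 * s * s0⁻¹ := by
    intro s
    apply ext_act
    intro v
    rw [act_guConj, act_mul, act_mul, hact]
    congr 2
    have h1 : act s0 (gm D⁻¹ *ᵥ v) = v := by rw [hact, gm_mulVec_inv]
    have h2 := congrArg (act s0⁻¹) h1
    rw [act_inv_act] at h2
    rw [h2]
  have hcomm : ∀ s, (x * y * x⁻¹ * y⁻¹) * π s * (x * y * x⁻¹ * y⁻¹)⁻¹ = π s0 * π s * (π s0)⁻¹ := by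
    have hAi : ∀ s, x⁻¹ * π s * x⁻¹⁻¹ = π (guConj A⁻¹ s) := by
      intro s
      have h1 := hA (guConj A⁻¹ s)
      rw [← guConj_mul, mul_inv_cancel, guConj_one] at h1
      rw [← h1]; group
    have hBi : ∀ s, y⁻¹ * π s * y⁻¹⁻¹ = π (guConj B⁻¹ s) := by
      intro s
      have h1 := hB (guConj B⁻¹ s)
      rw [← guConj_mul, mul_inv_cancel, guConj_one] at h1
      rw [← h1]; group
    intro s
    have h1 : (x * y * x⁻¹ * y⁻¹) * π s * (x * y * x⁻¹ * y⁻¹)⁻¹ =
        x * (y * (x⁻¹ * (y⁻¹ * π s * y⁻¹⁻¹) * x⁻¹⁻¹) * y⁻¹) * x⁻¹ := by group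
    rw [h1, hBi, hAi, hB, hA, ← guConj_mul, ← guConj_mul, ← guConj_mul]
    rw [← hD, hconj, map_mul, map_mul, map_inv]
  have h1 : (π s0)⁻¹ * (x * y * x⁻¹ * y⁻¹) = 1 := by
    apply S.cent
    intro s
    have h2 := hcomm s
    have h3 : (x * y * x⁻¹ * y⁻¹) * π s = π s0 * π s * (π s0)⁻¹ * (x * y * x⁻¹ * y⁻¹) := by
      rw [← h2]; group
    rw [mul_assoc, h3]; group
  have h2 : x * y * x⁻¹ * y⁻¹ = π s0 := (inv_mul_eq_one.1 h1).symm
  rw [h2]
  exact ⟨s0, (mem_siegG_iff hF H s0).2 he, rfl⟩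

end Sit

end Cfsg.Agent.H145.U3Geo
end

-- part: H145/FivePSU3
section
/-!
# Five character degrees of almost simple groups with socle `PSU₃(q)`, `q ≥ 3`

(helper145, for S4898.)
-/

set_option autoImplicit false

namespace Cfsg.Agent.H145.FivePSU3

open Matrix Cfsg Cfsg.Agent.Characters.Core
  Cfsg.Agent.LieClassical.HermBasic Cfsg.Agent.LieClassical.HermSiegel Cfsg.Agent.LieClassical.HermGen
  Cfsg.Agent.ClassicalGeometry.PSUAutBasic Cfsg.Agent.H145.U3Geo Cfsg.Agent.H145.AlmostR1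

universe u

variable {G : Type u} [Group G]

/-- The projection to the socle. -/
noncomputable def pi {M : Subgroup G} {F : Type} [Field F] {q : ℕ} (e : M ≃* Cfsg.PSU 3 F q) : SU 3 F q →* G :=
  M.subtype.comp (e.symm.toMonoidHom.comp (QuotientGroup.mk' (Subgroup.center (SU 3 F q))))

theorem pi_apply {M : Subgroup G} {F : Type} [Field F] {q : ℕ} (e : M ≃* Cfsg.PSU 3 F q) (s : SU 3 F q) :
    pi e s = (e.symm (QuotientGroup.mk s) : M) := rfl

theorem sit {M : Subgroup G} [hM : M.Normal] (hc : Subgroup.centralizer (M : Set G) = ⊥)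
    {F : Type} [Field F] [Fintype F] {q : ℕ} (hF : Fintype.card F = q ^ 2) (hq : 3 ≤ q) (e : M ≃* Cfsg.PSU 3 F q) :
    Sit (pi e) where
  ker := by
    intro s
    rw [pi_apply, OneMemClass.coe_eq_one, MulEquiv.map_eq_one_iff, QuotientGroup.eq_one_iff]
  ind := by
    intro g
    obtain ⟨A, ρ, h⟩ := Cfsg.Agent.ClassicalGeometry.PSUAutMain.exists_toAut hF le_rfl
      (by rintro ⟨-, rfl⟩; omega) ((e.symm.trans (MulAut.conjNormal g : MulAut M)).trans e : MulAut (PSU 3 F q))
    refine ⟨A, ρ, fun s => ?_⟩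
    have h1 : e ((MulAut.conjNormal g : MulAut M) (e.symm (QuotientGroup.mk s))) =
        (QuotientGroup.mk (Cfsg.Agent.ClassicalGeometry.PSUAutCount.semiConj A ρ s) : PSU 3 F q) := by
      have h2 := DFunLike.congr_fun h (QuotientGroup.mk s : PSU 3 F q)
      exact h2
    rw [pi_apply, pi_apply, ← h1, MulEquiv.symm_apply_apply, MulAut.conjNormal_apply]
  cent := by
    intro g hg
    rw [← Subgroup.mem_bot, ← hc, Subgroup.mem_centralizer_iff]
    intro m hm
    obtain ⟨s, hs⟩ := QuotientGroup.mk_surjective (e ⟨m, hm⟩)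
    have h1 : pi e s = m := by
      rw [pi_apply, hs, MulEquiv.symm_apply_apply]
    rw [← h1]
    exact (hg s).symm

theorem card_aut_le {F : Type} [Field F] [Fintype F] {q : ℕ} (hF : Fintype.card F = q ^ 2) :
    Nat.card (F ≃+* F) ≤ q := by
  obtain ⟨p, k, hp, -, hk, hk0⟩ := exists_prime_pow hF
  have := Fact.mk hp
  rw [Cfsg.Agent.Lib.FieldAutCard.card_ringAut (p := p) (f := 2 * k) (by omega) (by rw [hF, hk, ← pow_mul, mul_comm])]
  rw [hk]
  have h1 : 2 ^ k ≤ p ^ k := Nat.pow_le_pow_left hp.two_le k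
  have h2 : ∀ n : ℕ, 0 < n → 2 * n ≤ 2 ^ n := by
    intro n hn
    induction n with
    | zero => omega
    | succ n ih =>
      rcases Nat.eq_zero_or_pos n with h | h
      · subst h; norm_num
      · have := ih h
        rw [pow_succ]; omega
  exact (h2 k hk0).trans h1

/-- **Task 544.** -/
theorem five_psu3 {G : Type u} [Group G] [Finite G] (M : Subgroup G) (hM : M.Normal)
    (hc : Subgroup.centralizer (M : Set G) = ⊥)
    (F : Type) [Field F] [Fintype F] (q : ℕ) (hF : Fintype.card F = q ^ 2) (hq : 3 ≤ q)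
    (e : Nonempty (M ≃* Cfsg.PSU 3 F q)) : 5 ≤ (Cfsg.charDegrees G).ncard := by
  classical
  have : Fintype G := Fintype.ofFinite G
  have : Fintype M := Fintype.ofFinite M
  obtain ⟨e⟩ := e
  have S := sit hc hF hq e
  obtain ⟨v, w, H⟩ := exists_frame (F := F) (q := q) (n := 3) hF (by norm_num)
  have : Fintype (siegG hF v H.ee) := Fintype.ofFinite _
  obtain ⟨η, hη, hη1, hηU⟩ := U3Psu.exists_eta hF hq H
  obtain ⟨ζ, hζ, hζ1⟩ := U3Psu.exists_zeta (F := F) hF hq
  have hUM : Sit.UU (pi e) hF H ≤ M := by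
    rintro _ ⟨s, -, rfl⟩
    exact (e.symm (QuotientGroup.mk s) : M).2
  have : Fintype (Sit.UU (pi e) hF H) := Fintype.ofFinite _
  refine five (C := Sit.CC (pi e) ⊓ Sit.HH (pi e) hF H) (χ₀ := η ∘ e.toMonoidHom) (ζ := ζ ∘ e.toMonoidHom)
    (S.r1 hF H) hUM le_rfl ?_ hq (S.card_UU hF H) (isIrr_comp _ e.surjective hη) ?_ ?_
    (isIrr_comp _ e.surjective hζ) ?_ (fun x hx y hy => S.comm_mem hF H hx hy) ?_
  · intro g
    obtain ⟨s, h, hh, hg⟩ := S.frattini hF H g
    exact ⟨pi e s, (e.symm (QuotientGroup.mk s) : M).2, h, hh, hg⟩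
  · rw [Function.comp_apply, map_one, hη1]
  · rw [avg_eq, ← hηU, classInner_def]
    have hcard : Nat.card (Sit.UU (pi e) hF H) = Nat.card (siegG hF v H.ee) := by
      rw [S.card_UU hF H, Cfsg.Agent.H618.InvPSU3.card_U hF H]
    rw [hcard]
    congr 1
    symm
    refine Fintype.sum_bijective (fun s : siegG hF v H.ee => (⟨pi e s, ⟨s, s.2, rfl⟩⟩ : Sit.UU (pi e) hF H)) ⟨?_, ?_⟩
      _ _ fun s => ?_
    · intro s t h
      have h' : pi e s = pi e t := Subtype.mk.inj h
      exact Subtype.ext (S.inj_siegG hF H s.2 t.2 h')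
    · rintro ⟨_, ⟨s, hs, rfl⟩⟩
      exact ⟨⟨s, hs⟩, rfl⟩
    · rw [Pi.one_apply, map_one, mul_one, Function.comp_apply]
      congr 1
      have h1 : (⟨pi e s, hUM ⟨s, s.2, rfl⟩⟩ : M) = e.symm (QuotientGroup.mk (s : SU 3 F q)) := Subtype.ext rfl
      change _ = e ⟨pi e s, _⟩
      rw [h1, MulEquiv.apply_symm_apply]
  · rw [Function.comp_apply, map_one, hζ1]
  · have h1 : ((Sit.CC (pi e) ⊓ Sit.HH (pi e) hF H).subgroupOf (Sit.HH (pi e) hF H)) =
        (Sit.CC (pi e)).subgroupOf (Sit.HH (pi e) hF H) := by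
      rw [Subgroup.inf_subgroupOf_right]
    rw [h1]
    exact (S.index_CC _).trans (card_aut_le hF)

end Cfsg.Agent.H145.FivePSU3
end

-- part: H145/PermDeg
section
/-!
# Large character degrees from transitive actions of small rank

`exists_deg`: a transitive action on `N` points of rank at most `R + 1` with `R * D + 1 < N` gives an irreducible
character of degree `d` with `D < d < N`.

(helper145, for S4898.)
-/

set_option autoImplicit false

namespace Cfsg.Agent.H145.PermDeg

open Cfsg MulAction Cfsg.Agent.Characters.Core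
open scoped ComplexConjugate

variable {G Ω : Type*} [Group G] [MulAction G Ω]

/-- A bound for the rank from a list of types. -/
theorem rank_le {T : Type*} [Finite T] (P : T → Ω × Ω → Prop) (h1 : ∀ p, ∃ t, P t p)
    (h2 : ∀ t p q, P t p → P t q → ∃ g : G, g • p = q) : H894.rank G Ω ≤ Nat.card T := by
  classical
  choose τ hτ using h1
  refine Nat.card_le_card_of_injective (fun x : Quotient (orbitRel G (Ω × Ω)) => τ x.out) ?_
  intro x y hxy
  obtain ⟨g, hg⟩ := h2 (τ x.out) x.out y.out (hτ _) (by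
    have h3 := hτ y.out
    have h4 : τ x.out = τ y.out := hxy
    rwa [← h4] at h3)
  rw [← x.out_eq, ← y.out_eq]
  refine (Quotient.sound ?_).symm
  exact ⟨g, hg⟩

/-- **A large character degree.** -/
theorem exists_deg [Finite G] [Finite Ω] [Nonempty Ω] (htr : IsPretransitive G Ω) {R D : ℕ}
    (hR : H894.rank G Ω ≤ R + 1) (hD : R * D + 1 < Nat.card Ω) :
    ∃ (χ : G → ℂ) (d : ℕ), IsIrrCharacter G χ ∧ χ 1 = d ∧ D < d ∧ d < Nat.card Ω := by
  classical
  have : Fintype G := Fintype.ofFinite G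
  have : Fintype Ω := Fintype.ofFinite Ω
  have : Fintype (IrrCharacter G) := by
    have := finite_irr (G := G)
    exact Fintype.ofFinite _
  have hG : (Nat.card G : ℂ) ≠ 0 := card_ne_zero_complex
  set π : G → ℂ := fun g => (Nat.card (fixedBy Ω g) : ℂ) with hπ
  have hchar : IsCharacter G π := by
    rw [hπ, Cfsg.Agent.PermutationGroups.PermChar.permChar_eq]
    exact isCharacter_of_rep _
  obtain ⟨m, hm⟩ := exists_nat_comb hchar
  have hsq : (∑ ψ : IrrCharacter G, (m ψ) ^ 2) = H894.rank G Ω := by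
    have h1 : classInner π π = ((∑ ψ : IrrCharacter G, (m ψ) ^ 2 : ℕ) : ℂ) := by
      have h2 : (∑ ψ : IrrCharacter G, m ψ • (ψ : G → ℂ)) = ∑ ψ : IrrCharacter G, (m ψ : ℂ) • (ψ : G → ℂ) := by
        simp only [Nat.cast_smul_eq_nsmul]
      rw [hm, h2, classInner_sum_smul_sum_smul]
      push_cast
      refine Finset.sum_congr rfl fun ψ _ => ?_
      rw [Complex.conj_natCast, sq]
    have h3 : classInner π π = (H894.rank G Ω : ℂ) := by
      rw [classInner_def]
      have h4 := H894.sum_fix_sq (G := G) (Ω := Ω)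
      have h5 : ∑ g : G, π g * conj (π g) = ((∑ g : G, Nat.card (fixedBy Ω g) ^ 2 : ℕ) : ℂ) := by
        push_cast
        refine Finset.sum_congr rfl fun g _ => ?_
        rw [hπ]
        simp only [Complex.conj_natCast]
        rw [sq]
      rw [h5, h4]
      push_cast
      field_simp
    rw [h1] at h3
    exact_mod_cast h3
  set ε : IrrCharacter G := ⟨1, isIrr_one⟩ with hε
  have hone : m ε = 1 := by
    have h1 := classInner_sum_nsmul_irr m ε
    rw [← hm] at h1
    have h2 : classInner π (1 : G → ℂ) = 1 := by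
      rw [classInner_def]
      have h4 := H894.sum_fix (G := G) (Ω := Ω) htr
      have h5 : ∑ g : G, π g * conj ((1 : G → ℂ) g) = ((∑ g : G, Nat.card (fixedBy Ω g) : ℕ) : ℂ) := by
        push_cast
        refine Finset.sum_congr rfl fun g _ => ?_
        rw [Pi.one_apply, map_one, mul_one]
      rw [h5, h4]
      field_simp
    have h3 : (m ε : ℂ) = 1 := by rw [← h1]; exact h2
    exact_mod_cast h3
  choose dg hdg0 hdg using fun ψ : IrrCharacter G => isIrr_apply_one ψ.2
  have hdeg : Nat.card Ω = ∑ ψ : IrrCharacter G, m ψ * dg ψ := by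
    have h1 := congrFun hm 1
    simp only [Finset.sum_apply, Pi.smul_apply] at h1
    have h2 : π 1 = Nat.card Ω := by
      rw [hπ]
      simp only [Nat.cast_inj]
      refine Nat.card_congr ⟨fun x => x.1, fun x => ⟨x, one_smul G x⟩, fun _ => rfl, fun _ => rfl⟩
    rw [h2] at h1
    have h3 : (Nat.card Ω : ℂ) = ((∑ ψ : IrrCharacter G, m ψ * dg ψ : ℕ) : ℂ) := by
      rw [h1]
      push_cast
      refine Finset.sum_congr rfl fun ψ _ => ?_
      rw [nsmul_eq_mul, ← hdg ψ]
    exact_mod_cast h3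
  have hdε : dg ε = 1 := by
    have h1 := hdg ε
    have h2 : (ε : G → ℂ) 1 = 1 := rfl
    rw [h2] at h1
    exact_mod_cast h1.symm
  by_contra hcon
  push Not at hcon
  have hsplit : Nat.card Ω = 1 + ∑ ψ ∈ Finset.univ.erase ε, m ψ * dg ψ := by
    rw [hdeg, ← Finset.add_sum_erase _ _ (Finset.mem_univ ε), hone, hdε]
  have hsplit2 : H894.rank G Ω = 1 + ∑ ψ ∈ Finset.univ.erase ε, (m ψ) ^ 2 := by
    rw [← hsq, ← Finset.add_sum_erase _ _ (Finset.mem_univ ε), hone, one_pow]
  have hterm : ∀ ψ ∈ Finset.univ.erase ε, m ψ * dg ψ ≤ (m ψ) ^ 2 * D := by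
    intro ψ hψ
    rcases Nat.eq_zero_or_pos (m ψ) with h0 | h0
    · rw [h0]; simp
    · have h1 : m ψ * dg ψ ≤ ∑ ψ ∈ Finset.univ.erase ε, m ψ * dg ψ :=
        Finset.single_le_sum (f := fun ψ => m ψ * dg ψ) (fun _ _ => Nat.zero_le _) hψ
      have h2 : dg ψ ≤ m ψ * dg ψ := Nat.le_mul_of_pos_left _ h0
      have h3 : dg ψ ≤ D := by
        by_contra h4
        push Not at h4
        have h5 := hcon ψ (dg ψ) ψ.2 (hdg ψ) h4
        omega
      calc m ψ * dg ψ ≤ m ψ * D := Nat.mul_le_mul_left _ h3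
        _ ≤ (m ψ) ^ 2 * D := Nat.mul_le_mul_right _ (by rw [sq]; exact Nat.le_mul_of_pos_left _ h0)
  have h1 := Finset.sum_le_sum hterm
  rw [← Finset.sum_mul] at h1
  have h2 : (∑ ψ ∈ Finset.univ.erase ε, (m ψ) ^ 2) ≤ R := by omega
  have h3 := Nat.mul_le_mul_right D h2
  omega

/-- **Two-transitive actions.** -/
theorem exists_deg_two [Finite G] [Finite Ω] (h2 : ∀ a b c d : Ω, a ≠ b → c ≠ d → ∃ g : G, g • a = c ∧ g • b = d)
    (h3 : 3 ≤ Nat.card Ω) : ∃ χ : G → ℂ, IsIrrCharacter G χ ∧ χ 1 = ((Nat.card Ω - 1 : ℕ) : ℂ) := by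
  classical
  have : Nontrivial Ω := Finite.one_lt_card_iff_nontrivial.1 (by omega)
  have htr : IsPretransitive G Ω := ⟨fun x y => by
    obtain ⟨x', hx'⟩ := exists_ne x
    obtain ⟨y', hy'⟩ := exists_ne y
    obtain ⟨g, hg, -⟩ := h2 x x' y y' hx'.symm hy'.symm
    exact ⟨g, hg⟩⟩
  have hR : H894.rank G Ω ≤ 1 + 1 := by
    have h := rank_le (G := G) (Ω := Ω) (T := Bool) (fun t p => (p.1 = p.2 ↔ t = true)) (fun p => by
      by_cases h : p.1 = p.2
      · exact ⟨true, by simp [h]⟩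
      · exact ⟨false, by simp [h]⟩) (fun t p q hp hq => by
        cases t
        · have h5 : p.1 ≠ p.2 := by simpa using hp
          have h6 : q.1 ≠ q.2 := by simpa using hq
          obtain ⟨g, hg1, hg2⟩ := h2 _ _ _ _ h5 h6
          exact ⟨g, Prod.ext hg1 hg2⟩
        · have h5 : p.1 = p.2 := by simpa using hp
          have h6 : q.1 = q.2 := by simpa using hq
          obtain ⟨g, hg⟩ := htr.exists_smul_eq p.1 q.1
          exact ⟨g, Prod.ext hg (by rw [Prod.smul_snd, ← h5, ← h6]; exact hg)⟩)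
    simpa using h
  obtain ⟨χ, d, hχ, hd, h4, h5⟩ := exists_deg htr (R := 1) (D := Nat.card Ω - 2) hR (by omega)
  refine ⟨χ, hχ, ?_⟩
  rw [hd]
  congr 1
  omega

end Cfsg.Agent.H145.PermDeg
end

-- part: H145/SpTwo
section
/-!
# Actions of `Sp_{2m}(2)`: quadratic forms and nondegenerate planes

(helper145, for S4898.)
-/

set_option autoImplicit false
set_option linter.unusedSectionVars false

namespace Cfsg.Agent.H145.SpTwo

open Cfsg.Agent.H79.MinIdxSp2 MulAction

variable {F V G : Type*} [Field F] [AddCommGroup V] [Module F V] [Group G] [DistribMulAction G V] (S : Sp2 F V G)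

/-! ### Quadratic forms -/

section Forms

variable {Q : V → F} (hQ : ∀ u v, Q (u + v) = Q u + Q v + S.B u v)

include hQ

theorem stab_one {v w : V} (hv : Q v = 0) (hw : Q w = 0) (h : S.B v w = 1) :
    (∀ u, Q (S.t (v + w) • u) = Q u) ∧ S.t (v + w) • v = w := by
  constructor
  · intro u
    exact S.form_t' hQ (by rw [hQ, hv, hw, h, zero_add, zero_add]) u
  · rw [S.t_smul, S.add_left, S.self, zero_add, S.symm, h, one_smul, S.add_add_self]

theorem stab_trans {v w : V} (hv0 : v ≠ 0) (hw0 : w ≠ 0) (hv : Q v = 0) (hw : Q w = 0) :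
    ∃ g : G, (∀ u, Q (g • u) = Q u) ∧ g • v = w := by
  by_cases hvw : v = w
  · exact ⟨1, fun u => by rw [one_smul], by rw [one_smul, hvw]⟩
  rcases S.two (S.B v w) with h | h
  · obtain ⟨z, hz1, hz2⟩ := S.exists_both hv0 hw0
    obtain ⟨y, hy, hy1, hy2⟩ : ∃ y, Q y = 0 ∧ S.B v y = 1 ∧ S.B w y = 1 := by
      rcases S.two (Q z) with h0 | h0
      · exact ⟨z, h0, hz1, hz2⟩
      · refine ⟨z + v, ?_, ?_, ?_⟩
        · rw [hQ, h0, hv, add_zero, S.symm, hz1, S.one_add_one]
        · rw [S.add_right, hz1, S.self, add_zero]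
        · rw [S.add_right, hz2, S.symm w v, h, add_zero]
    obtain ⟨a1, a2⟩ := stab_one S hQ hv hy hy1
    obtain ⟨b1, b2⟩ := stab_one S hQ hy hw (by rw [S.symm]; exact hy2)
    refine ⟨S.t (y + w) * S.t (v + y), fun u => ?_, ?_⟩
    · rw [mul_smul, b1, a1]
    · rw [mul_smul, a2, b2]
  · obtain ⟨a1, a2⟩ := stab_one S hQ hv hw h
    exact ⟨_, a1, a2⟩

omit hQ in
theorem smul_shift {g : G} (hg : ∀ u, Q (g • u) = Q u) (v : V) : g • S.shift Q v = S.shift Q (g • v) := by
  rw [Sp2.Fn.smul_def']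
  congr 1
  funext u
  change Q (g⁻¹ • u) + S.B v (g⁻¹ • u) = Q u + S.B (g • v) u
  rw [S.inv_left, ← hg (g⁻¹ • u), smul_inv_smul]

omit hQ in
theorem shift_zero : S.shift Q 0 = Sp2.Fn.mk Q := by
  rw [Sp2.shift]
  congr 1
  funext u
  rw [S.zero_left, add_zero]

/-- **The orbit of a form is 2-transitive.** -/
theorem two_trans (a b c d : orbit G (Sp2.Fn.mk Q)) (hab : a ≠ b) (hcd : c ≠ d) :
    ∃ g : G, g • a = c ∧ g • b = d := by
  have key : ∀ a b : orbit G (Sp2.Fn.mk Q), a ≠ b → ∃ (h : G) (v : V), v ≠ 0 ∧ Q v = 0 ∧ (a : Sp2.Fn F V) = h • Sp2.Fn.mk Q ∧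
      (b : Sp2.Fn F V) = h • S.shift Q v := by
    rintro ⟨_, ⟨h, rfl⟩⟩ ⟨b, hb⟩ hne
    have h1 : h⁻¹ • b ∈ orbit G (Sp2.Fn.mk Q) := by
      obtain ⟨k, rfl⟩ := hb
      exact ⟨h⁻¹ * k, mul_smul _ _ _⟩
    rw [S.orbit_eq hQ] at h1
    obtain ⟨⟨v, hv⟩, h2⟩ := h1
    have h3 : S.shift Q v = h⁻¹ • b := h2
    refine ⟨h, v, ?_, hv, rfl, ?_⟩
    · rintro rfl
      apply hne
      apply Subtype.ext
      change h • Sp2.Fn.mk Q = b
      rw [← shift_zero S, h3, smul_inv_smul]
    · rw [h3, smul_inv_smul]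
  obtain ⟨h, v, hv0, hv, ha, hb⟩ := key a b hab
  obtain ⟨k, w, hw0, hw, hc, hd⟩ := key c d hcd
  obtain ⟨g, hg, hgv⟩ := stab_trans S hQ hv0 hw0 hv hw
  refine ⟨k * g * h⁻¹, Subtype.ext ?_, Subtype.ext ?_⟩
  · change (k * g * h⁻¹) • (a : Sp2.Fn F V) = c
    rw [ha, hc, mul_smul, inv_smul_smul, mul_smul, ← shift_zero S, smul_shift S hg, smul_zero]
  · change (k * g * h⁻¹) • (b : Sp2.Fn F V) = d
    rw [hb, hd, mul_smul, inv_smul_smul, mul_smul, smul_shift S hg, hgv]

theorem card_orbit [Finite V] : Nat.card (orbit G (Sp2.Fn.mk Q)) = Nat.card {v // Q v = 0} := by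
  rw [← S.index_form hQ, index_stabilizer, Nat.card_coe_set_eq]

/-- The number of zeros of the form. -/
theorem zeros [Finite V] {m : ℕ} (hm : 1 ≤ m) (hV : Nat.card V = 2 ^ (2 * m)) :
    Nat.card {v // Q v = 0} = 2 ^ (m - 1) * (2 ^ m + 1) ∨ Nat.card {v // Q v = 0} = 2 ^ (m - 1) * (2 ^ m - 1) := by
  have := Fintype.ofFinite V
  have h2 := S.gauss hQ
  have h3 := Sp2.sum_sg Q
  have hVZ : (Fintype.card V : ℤ) = 2 ^ m * 2 ^ m := by
    rw [← Nat.card_eq_fintype_card, hV, two_mul, pow_add]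
    push_cast
    ring
  rw [hVZ] at h2 h3
  have h5 : (∑ v, Sp2.sg (Q v) - 2 ^ m) * (∑ v, Sp2.sg (Q v) + 2 ^ m) = 0 := by linear_combination h2
  have h2m : (2 : ℤ) ^ m = 2 * 2 ^ (m - 1) := by
    rw [← pow_succ', Nat.sub_add_cancel hm]
  have h1m : 1 ≤ 2 ^ m := Nat.one_le_two_pow
  rcases mul_eq_zero.1 h5 with h6 | h6
  · left
    have h7 : (∑ v, Sp2.sg (Q v)) = 2 ^ m := by omega
    rw [h7] at h3
    zify
    nlinarith only [h3, h2m]
  · right
    have h7 : (∑ v, Sp2.sg (Q v)) = - 2 ^ m := by omega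
    rw [h7] at h3
    zify [h1m]
    nlinarith only [h3, h2m]

/-- Both types of forms. -/
theorem exists_forms [Finite V] {m : ℕ} (hm : 1 ≤ m) (hV : Nat.card V = 2 ^ (2 * m)) :
    (∃ Q' : V → F, (∀ u v, Q' (u + v) = Q' u + Q' v + S.B u v) ∧
      Nat.card {v // Q' v = 0} = 2 ^ (m - 1) * (2 ^ m + 1)) ∧
    ∃ Q' : V → F, (∀ u v, Q' (u + v) = Q' u + Q' v + S.B u v) ∧
      Nat.card {v // Q' v = 0} = 2 ^ (m - 1) * (2 ^ m - 1) := by
  have := Fintype.ofFinite V
  obtain ⟨v, hv⟩ : ∃ v, Q v = 1 := by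
    by_contra hcon
    push Not at hcon
    have h0 : ∀ v, Q v = 0 := fun v => S.ne_one.1 (hcon v)
    have h2 : ∀ v : V, v = 0 := by
      intro v
      apply S.nd
      intro w
      have := hQ v w
      rw [h0, h0, h0, zero_add, zero_add] at this
      exact this.symm
    have h3 : Nat.card V = 1 := by
      rw [Nat.card_eq_one_iff_unique]
      exact ⟨⟨fun a b => (h2 a).trans (h2 b).symm⟩, ⟨0⟩⟩
    rw [hV] at h3
    have h4 : 1 < 2 ^ (2 * m) := Nat.one_lt_pow (by omega) (by norm_num)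
    omega
  have hQ' : ∀ u u', (fun u => Q u + S.B v u) (u + u') = (fun u => Q u + S.B v u) u + (fun u => Q u + S.B v u) u' + S.B u u' :=
    S.shift_add hQ v
  have h2 : ∑ u, Sp2.sg (Q u + S.B v u) = - ∑ u, Sp2.sg (Q u) := by
    have h2 : ∑ u, Sp2.sg (Q u + S.B v u) = ∑ u, Sp2.sg (Q (u + v) + 1) := by
      refine Finset.sum_congr rfl fun u _ => ?_
      rw [hQ, hv, S.symm u v, add_assoc (Q u), add_comm (1 : F), add_assoc, add_assoc,
        S.one_add_one, add_zero]
    have h3 : ∑ u, Sp2.sg (Q (u + v) + 1) = ∑ u, Sp2.sg (Q u + 1) :=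
      Equiv.sum_comp (Equiv.addRight v) fun u => Sp2.sg (Q u + 1)
    rw [h2, h3, ← Finset.sum_neg_distrib]
    refine Finset.sum_congr rfl fun u _ => ?_
    rw [S.sg_add, Sp2.sg_one, mul_neg_one]
  have e1 := Sp2.sum_sg Q
  have e2 := Sp2.sum_sg (fun u => Q u + S.B v u)
  have hVc : (Fintype.card V : ℤ) = 2 ^ m * 2 ^ m := by
    rw [← Nat.card_eq_fintype_card, hV, two_mul, pow_add]
    push_cast
    ring
  have h2m : (2 : ℤ) ^ m = 2 * 2 ^ (m - 1) := by
    rw [← pow_succ', Nat.sub_add_cancel hm]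
  have h1m : 1 ≤ 2 ^ m := Nat.one_le_two_pow
  have hsum : (Nat.card {v // Q v = 0} : ℤ) + Nat.card {u // Q u + S.B v u = 0} = 2 ^ m * 2 ^ m := by
    have e3 : (∑ u, Sp2.sg (Q u + S.B v u)) = 2 * (Nat.card {u // Q u + S.B v u = 0} : ℤ) - Fintype.card V := e2
    rw [h2, e1, hVc] at e3
    linarith only [h2, e1, e2, hVc]
  rcases zeros S hQ hm hV with h | h
  · refine ⟨⟨Q, hQ, h⟩, ⟨fun u => Q u + S.B v u, hQ', ?_⟩⟩
    change Nat.card {u // Q u + S.B v u = 0} = _
    rw [h] at hsum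
    zify [h1m]
    push_cast at hsum
    nlinarith only [h2, e1, e2, hVc, h2m, h]
  · refine ⟨⟨fun u => Q u + S.B v u, hQ', ?_⟩, ⟨Q, hQ, h⟩⟩
    change Nat.card {u // Q u + S.B v u = 0} = _
    rw [h] at hsum
    zify [h1m] at hsum ⊢
    nlinarith only [h2m, hsum]

end Forms

/-! ### Nondegenerate planes -/

section Planes

open scoped Pointwise

/-- The nonzero vectors of the span of `u`, `v`. -/
def T (u v : V) : Set V := {u, v, u + v}

theorem smul_T (g : G) (u v : V) : g • T u v = T (g • u) (g • v) := by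
  rw [T, T, Set.smul_set_insert, Set.smul_set_insert, Set.smul_set_singleton, smul_add]

theorem mem_T {u v w : V} : w ∈ T u v ↔ w = u ∨ w = v ∨ w = u + v := Iff.rfl

/-- `u`, `v` is a hyperbolic basis of the plane `s`. -/
def Hy (s : Set V) (u v : V) : Prop := S.B u v = 1 ∧ s = T u v

theorem Hy.swap {s : Set V} {u v : V} (h : Hy S s u v) : Hy S s v u := by
  refine ⟨by rw [S.symm]; exact h.1, ?_⟩
  rw [h.2]
  ext w
  rw [mem_T, mem_T, add_comm v u]
  tauto

theorem Hy.add {s : Set V} {u v : V} (h : Hy S s u v) : Hy S s u (u + v) := by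
  refine ⟨by rw [S.add_right, S.self, zero_add]; exact h.1, ?_⟩
  rw [h.2]
  ext w
  rw [mem_T, mem_T, S.add_add_self]
  tauto

theorem Hy.add' {s : Set V} {u v : V} (h : Hy S s u v) : Hy S s (u + v) v := by
  rw [add_comm]
  exact (Hy.add S (Hy.swap S h)).swap

theorem Hy.of_mem {s : Set V} {u v : V} (h : Hy S s u v) {w : V} (hw : w ∈ s) : ∃ x, Hy S s w x := by
  rw [h.2, mem_T] at hw
  rcases hw with rfl | rfl | rfl
  · exact ⟨v, h⟩
  · exact ⟨u, Hy.swap S h⟩
  · exact ⟨v, Hy.add' S h⟩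

theorem Hy.ne_zero {s : Set V} {u v : V} (h : Hy S s u v) : u ≠ 0 := by
  rintro rfl
  have h1 := h.1
  rw [S.zero_left] at h1
  exact zero_ne_one h1

theorem Hy.ne {s : Set V} {u v : V} (h : Hy S s u v) : u ≠ v := by
  rintro rfl
  have h1 := h.1
  rw [S.self] at h1
  exact zero_ne_one h1

theorem Hy.mem_left {s : Set V} {u v : V} (h : Hy S s u v) : u ∈ s := by
  rw [h.2]; exact Or.inl rfl

theorem Hy.mem_right {s : Set V} {u v : V} (h : Hy S s u v) : v ∈ s := by
  rw [h.2]; exact Or.inr (Or.inl rfl)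

theorem Hy.of_ne {s : Set V} {u v : V} (h : Hy S s u v) {a b : V} (ha : a ∈ s) (hb : b ∈ s) (hab : a ≠ b) :
    Hy S s a b := by
  obtain ⟨x, hx⟩ := Hy.of_mem S h ha
  have hb' := hb
  rw [hx.2, mem_T] at hb'
  rcases hb' with rfl | rfl | rfl
  · exact absurd rfl hab
  · exact hx
  · exact Hy.add S hx

theorem Hy.smul {s : Set V} {u v : V} (h : Hy S s u v) (g : G) : Hy S (g • s) (g • u) (g • v) :=
  ⟨by rw [S.inv]; exact h.1, by rw [h.2, smul_T]⟩

/-- The nondegenerate planes. -/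
def Pl : SubMulAction G (Set V) where
  carrier := {s | ∃ u v, Hy S s u v}
  smul_mem' g s hs := by
    obtain ⟨u, v, h⟩ := hs
    exact ⟨g • u, g • v, Hy.smul S h g⟩

/-! #### Independence -/

theorem indep2 {u v : V} (h : S.B u v = 1) : LinearIndependent F ![u, v] := by
  rw [Fintype.linearIndependent_iff]
  intro g hg
  rw [Fin.sum_univ_two] at hg
  simp only [Matrix.cons_val_zero, Matrix.cons_val_one] at hg
  have h1 := congrArg (S.B u) hg
  have h2 := congrArg (S.B v) hg
  rw [S.zero_right, S.add_right, S.smul_right, S.smul_right, S.self, h, mul_zero, zero_add, mul_one] at h1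
  rw [S.zero_right, S.add_right, S.smul_right, S.smul_right, S.self, S.symm v u, h, mul_zero, add_zero, mul_one] at h2
  intro i
  fin_cases i
  · exact h2
  · exact h1

theorem indep3 {u v w : V} (h : S.B u v = 1) (h' : S.B u w = 1) (h0 : S.B v w = 0) (hne : v ≠ w) :
    LinearIndependent F ![u, v, w] := by
  rw [Fintype.linearIndependent_iff]
  intro g hg
  rw [Fin.sum_univ_three] at hg
  simp only [Matrix.cons_val_zero, Matrix.cons_val_one, Matrix.cons_val] at hg
  have h1 := congrArg (S.B u) hg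
  have h2 := congrArg (S.B v) hg
  rw [S.zero_right, S.add_right, S.add_right, S.smul_right, S.smul_right, S.smul_right, S.self, h, h', mul_zero, zero_add, mul_one,
    mul_one] at h1
  rw [S.zero_right, S.add_right, S.add_right, S.smul_right, S.smul_right, S.smul_right, S.self, S.symm v u, h, h0, mul_zero, mul_zero,
    add_zero, add_zero, mul_one] at h2
  rw [h2, zero_smul, zero_add] at hg
  rcases S.two (g 2) with h3 | h3
  · rw [h3, add_zero] at h1
    intro i
    fin_cases i
    · exact h2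
    · exact h1
    · exact h3
  · exfalso
    rw [h3] at h1
    have h4 : g 1 = 1 := by
      rcases S.two (g 1) with h4 | h4
      · rw [h4, zero_add] at h1
        exact absurd h1 one_ne_zero
      · exact h4
    rw [h3, h4, one_smul, one_smul, S.add_eq_zero] at hg
    exact hne hg

theorem comb_mem {s : Set V} {u v : V} (h : Hy S s u v) (a b : F) : a • u + b • v ∈ s ∨ (a = 0 ∧ b = 0) := by
  rw [h.2, mem_T]
  rcases S.two a with rfl | rfl <;> rcases S.two b with rfl | rfl <;> simp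

theorem indep4 {s s' : Set V} {u v u' v' : V} (h : Hy S s u v) (h' : Hy S s' u' v') (hd : ∀ w ∈ s, w ∉ s') :
    LinearIndependent F ![u, v, u', v'] := by
  rw [Fintype.linearIndependent_iff]
  intro g hg
  rw [Fin.sum_univ_four] at hg
  simp only [Matrix.cons_val_zero, Matrix.cons_val_one, Matrix.cons_val] at hg
  rw [add_assoc, S.add_eq_zero] at hg
  have key : (g 0 = 0 ∧ g 1 = 0) ∧ (g 2 = 0 ∧ g 3 = 0) := by
    rcases comb_mem S h (g 0) (g 1) with h1 | h1
    · rcases comb_mem S h' (g 2) (g 3) with h2 | h2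
      · exact absurd h2 (hd _ (hg ▸ h1))
      · exfalso
        rw [h2.1, h2.2, zero_smul, zero_smul, add_zero] at hg
        rw [hg] at h1
        obtain ⟨x, hx⟩ := Hy.of_mem S h h1
        exact Hy.ne_zero S hx rfl
    · refine ⟨h1, ?_⟩
      rcases comb_mem S h' (g 2) (g 3) with h2 | h2
      · exfalso
        rw [h1.1, h1.2, zero_smul, zero_smul, add_zero] at hg
        rw [← hg] at h2
        obtain ⟨x, hx⟩ := Hy.of_mem S h' h2
        exact Hy.ne_zero S hx rfl
      · exact h2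
  intro i
  fin_cases i
  · exact key.1.1
  · exact key.1.2
  · exact key.2.1
  · exact key.2.2

/-- Normal form of two planes. -/
theorem norm {s s' : Set V} {u v u' v' : V} (h : Hy S s u v) (h' : Hy S s' u' v') :
    ∃ a b a' b', Hy S s a b ∧ Hy S s' a' b' ∧ S.B a b' = 0 ∧ S.B b a' = 0 ∧
      ((S.B a a' = 0 ∧ S.B b b' = 0) ∨ (S.B a a' = 1 ∧ S.B b b' = 0) ∨ (S.B a a' = 1 ∧ S.B b b' = 1)) := by
  -- step 1
  obtain ⟨u', v', h', h1⟩ : ∃ u₁ v₁, Hy S s' u₁ v₁ ∧ S.B u v₁ = 0 := by
    rcases S.two (S.B u v') with hb | hb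
    · exact ⟨u', v', h', hb⟩
    · rcases S.two (S.B u u') with ha | ha
      · exact ⟨v', u', Hy.swap S h', ha⟩
      · exact ⟨u', u' + v', Hy.add S h', by rw [S.add_right, ha, hb, S.one_add_one]⟩
  -- step 2
  have hdiag : ∀ {u v u' v' : V}, Hy S s u v → Hy S s' u' v' → S.B u v' = 0 → S.B v u' = 0 →
      ∃ a b a' b', Hy S s a b ∧ Hy S s' a' b' ∧ S.B a b' = 0 ∧ S.B b a' = 0 ∧
      ((S.B a a' = 0 ∧ S.B b b' = 0) ∨ (S.B a a' = 1 ∧ S.B b b' = 0) ∨ (S.B a a' = 1 ∧ S.B b b' = 1)) := by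
    intro u v u' v' h h' h1 h2
    rcases S.two (S.B u u') with ha | ha <;> rcases S.two (S.B v v') with hd | hd
    · exact ⟨u, v, u', v', h, h', h1, h2, Or.inl ⟨ha, hd⟩⟩
    · exact ⟨v, u, v', u', Hy.swap S h, Hy.swap S h', h2, h1, Or.inr (Or.inl ⟨hd, ha⟩)⟩
    · exact ⟨u, v, u', v', h, h', h1, h2, Or.inr (Or.inl ⟨ha, hd⟩)⟩
    · exact ⟨u, v, u', v', h, h', h1, h2, Or.inr (Or.inr ⟨ha, hd⟩)⟩
  rcases S.two (S.B v u') with hc | hc
  · exact hdiag h h' h1 hc
  · rcases S.two (S.B u u') with ha | ha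
    · -- u ⟂ s'
      rcases S.two (S.B v v') with hd | hd
      · exact hdiag (Hy.swap S h) h' hd ha
      · -- replace v' by u' + v'
        refine hdiag (Hy.swap S h) (Hy.add S h') ?_ ha
        rw [S.add_right, hc, hd, S.one_add_one]
    · refine hdiag (Hy.add S h) h' h1 ?_
      rw [S.add_left, ha, hc, S.one_add_one]

/-! #### The types of pairs of planes -/

/-- Two equal planes. -/
def P0 (p : Pl S × Pl S) : Prop := ∃ u v, Hy S p.1 u v ∧ Hy S p.2 u v

/-- Two planes meeting in a line. -/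
def P1 (p : Pl S × Pl S) : Prop := ∃ u v w, Hy S p.1 u v ∧ Hy S p.2 u w ∧ S.B v w = 0 ∧ v ≠ w

/-- Two planes meeting trivially. -/
def P2 (a d : F) (p : Pl S × Pl S) : Prop := ∃ u v u' v', Hy S p.1 u v ∧ Hy S p.2 u' v' ∧
  LinearIndependent F ![u, v, u', v'] ∧ S.B u v' = 0 ∧ S.B v u' = 0 ∧ S.B u u' = a ∧ S.B v v' = d

/-- The five types. -/
def P (t : Fin 5) : Pl S × Pl S → Prop := ![P0 S, P1 S, P2 S 0 0, P2 S 1 0, P2 S 1 1] t

theorem exists_P (p : Pl S × Pl S) : ∃ t, P S t p := by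
  obtain ⟨⟨s, hs⟩, ⟨s', hs'⟩⟩ := p
  obtain ⟨u, v, h⟩ := hs
  obtain ⟨u', v', h'⟩ := hs'
  by_cases hss : s = s'
  · subst hss
    exact ⟨0, u, v, h, h⟩
  by_cases hd : ∀ w ∈ s, w ∉ s'
  · obtain ⟨a, b, a', b', e1, e2, e3, e4, e5⟩ := norm S h h'
    have h3 := indep4 S e1 e2 hd
    rcases e5 with ⟨e5, e6⟩ | ⟨e5, e6⟩ | ⟨e5, e6⟩
    · exact ⟨2, a, b, a', b', e1, e2, h3, e3, e4, e5, e6⟩
    · exact ⟨3, a, b, a', b', e1, e2, h3, e3, e4, e5, e6⟩
    · exact ⟨4, a, b, a', b', e1, e2, h3, e3, e4, e5, e6⟩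
  · push Not at hd
    obtain ⟨w, hw, hw'⟩ := hd
    obtain ⟨x, hx⟩ := Hy.of_mem S h hw
    obtain ⟨y, hy⟩ := Hy.of_mem S h' hw'
    obtain ⟨z, hz, hz0⟩ : ∃ z, Hy S s' w z ∧ S.B x z = 0 := by
      rcases S.two (S.B x y) with h0 | h0
      · exact ⟨y, hy, h0⟩
      · exact ⟨w + y, Hy.add S hy, by rw [S.add_right, S.symm x w, hx.1, h0, S.one_add_one]⟩
    refine ⟨1, w, x, z, hx, hz, hz0, ?_⟩
    rintro rfl
    exact hss (hx.2.trans hz.2.symm)

/-- `G` is the full isometry group. -/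
def Full : Prop := ∀ g : V ≃ₗ[F] V, (∀ u v, S.B (g u) (g v) = S.B u v) → ∃ g' : G, ∀ v, g' • v = g v

/-- The bilinear form. -/
def bil : LinearMap.BilinForm F V :=
  LinearMap.mk₂ F S.B S.add_left (fun a u v => by rw [S.smul_left, smul_eq_mul]) S.add_right
    (fun a u v => by rw [S.smul_right, smul_eq_mul])

variable {S}

/-- **Witt's theorem.** -/
theorem witt [Finite V] (hf : Full S) {ι : Type*} (x y : ι → V) (hx : LinearIndependent F x) (hy : LinearIndependent F y)
    (h : ∀ i j, S.B (x i) (x j) = S.B (y i) (y j)) : ∃ g : G, ∀ i, g • x i = y i := by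
  have : FiniteDimensional F V := Module.Finite.of_finite
  have hnd : (bil S).Nondegenerate := by
    constructor
    · intro v hv
      exact S.nd v hv
    · intro v hv
      exact S.nd v fun w => by rw [S.symm]; exact hv w
  obtain ⟨g, hg, hgx⟩ := Cfsg.Agent.H957.witt_family_alt (bil S) hnd (fun v => S.self v) x y hx hy h
  obtain ⟨g', hg'⟩ := hf g hg
  exact ⟨g', fun i => by rw [hg', hgx]⟩

theorem pl_trans [Finite V] (hf : Full S) : IsPretransitive G (Pl S) := by
  constructor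
  rintro ⟨s, u, v, h⟩ ⟨s', u', v', h'⟩
  obtain ⟨g, hg⟩ := witt hf ![u, v] ![u', v'] (indep2 S h.1) (indep2 S h'.1) (by
    intro i j
    fin_cases i <;> fin_cases j
    · exact (S.self u).trans (S.self u').symm
    · exact h.1.trans h'.1.symm
    · exact ((S.symm v u).trans h.1).trans ((S.symm v' u').trans h'.1).symm
    · exact (S.self v).trans (S.self v').symm)
  have g0 : g • u = u' := hg 0
  have g1 : g • v = v' := hg 1
  refine ⟨g, Subtype.ext ?_⟩
  change g • s = s'
  rw [h.2, smul_T, g0, g1, h'.2]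

theorem P_orbit [Finite V] (hf : Full S) (t : Fin 5) (p q : Pl S × Pl S) (hp : P S t p) (hq : P S t q) :
    ∃ g : G, g • p = q := by
  obtain ⟨⟨s, hs⟩, ⟨s', hs'⟩⟩ := p
  obtain ⟨⟨r, hr⟩, ⟨r', hr'⟩⟩ := q
  have fin : ∀ {u v u' v' a b a' b' : V}, Hy S s u v → Hy S s' u' v' → Hy S r a b → Hy S r' a' b' →
      ∀ g : G, g • u = a → g • v = b → g • u' = a' → g • v' = b' →
        g • ((⟨s, hs⟩, ⟨s', hs'⟩) : Pl S × Pl S) = (⟨r, hr⟩, ⟨r', hr'⟩) := by
    intro u v u' v' a b a' b' e1 e2 e3 e4 g g1 g2 g3 g4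
    refine Prod.ext (Subtype.ext ?_) (Subtype.ext ?_)
    · change g • s = r
      rw [e1.2, smul_T, g1, g2, e3.2]
    · change g • s' = r'
      rw [e2.2, smul_T, g3, g4, e4.2]
  have type2 : ∀ a d : F, P2 S a d (⟨s, hs⟩, ⟨s', hs'⟩) → P2 S a d (⟨r, hr⟩, ⟨r', hr'⟩) →
      ∃ g : G, g • ((⟨s, hs⟩, ⟨s', hs'⟩) : Pl S × Pl S) = (⟨r, hr⟩, ⟨r', hr'⟩) := by
    rintro a d ⟨u, v, u', v', h1, h2, hi, e1, e2, e3, e4⟩ ⟨x, y, x', y', k1, k2, ki, f1, f2, f3, f4⟩
    obtain ⟨g, hg⟩ := witt hf ![u, v, u', v'] ![x, y, x', y'] hi ki (by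
      intro i j
      fin_cases i <;> fin_cases j
      · exact (S.self _).trans (S.self _).symm
      · exact h1.1.trans k1.1.symm
      · exact e3.trans f3.symm
      · exact e1.trans f1.symm
      · exact ((S.symm _ _).trans h1.1).trans ((S.symm _ _).trans k1.1).symm
      · exact (S.self _).trans (S.self _).symm
      · exact e2.trans f2.symm
      · exact e4.trans f4.symm
      · exact ((S.symm _ _).trans e3).trans ((S.symm _ _).trans f3).symm
      · exact ((S.symm _ _).trans e2).trans ((S.symm _ _).trans f2).symm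
      · exact (S.self _).trans (S.self _).symm
      · exact h2.1.trans k2.1.symm
      · exact ((S.symm _ _).trans e1).trans ((S.symm _ _).trans f1).symm
      · exact ((S.symm _ _).trans e4).trans ((S.symm _ _).trans f4).symm
      · exact ((S.symm _ _).trans h2.1).trans ((S.symm _ _).trans k2.1).symm
      · exact (S.self _).trans (S.self _).symm)
    exact ⟨g, fin h1 h2 k1 k2 g (hg 0) (hg 1) (hg 2) (hg 3)⟩
  fin_cases t
  · obtain ⟨u, v, h1, h2⟩ := hp
    obtain ⟨x, y, k1, k2⟩ := hq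
    obtain ⟨g, hg⟩ := witt hf ![u, v] ![x, y] (indep2 S h1.1) (indep2 S k1.1) (by
      intro i j
      fin_cases i <;> fin_cases j
      · exact (S.self _).trans (S.self _).symm
      · exact h1.1.trans k1.1.symm
      · exact ((S.symm _ _).trans h1.1).trans ((S.symm _ _).trans k1.1).symm
      · exact (S.self _).trans (S.self _).symm)
    exact ⟨g, fin h1 h2 k1 k2 g (hg 0) (hg 1) (hg 0) (hg 1)⟩
  · obtain ⟨u, v, w, h1, h2, h3, h4⟩ := hp
    obtain ⟨x, y, z, k1, k2, k3, k4⟩ := hq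
    obtain ⟨g, hg⟩ := witt hf ![u, v, w] ![x, y, z] (indep3 S h1.1 h2.1 h3 h4) (indep3 S k1.1 k2.1 k3 k4) (by
      intro i j
      fin_cases i <;> fin_cases j
      · exact (S.self _).trans (S.self _).symm
      · exact h1.1.trans k1.1.symm
      · exact h2.1.trans k2.1.symm
      · exact ((S.symm _ _).trans h1.1).trans ((S.symm _ _).trans k1.1).symm
      · exact (S.self _).trans (S.self _).symm
      · exact h3.trans k3.symm
      · exact ((S.symm _ _).trans h2.1).trans ((S.symm _ _).trans k2.1).symm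
      · exact ((S.symm _ _).trans h3).trans ((S.symm _ _).trans k3).symm
      · exact (S.self _).trans (S.self _).symm)
    exact ⟨g, fin h1 h2 k1 k2 g (hg 0) (hg 1) (hg 0) (hg 2)⟩
  · exact type2 0 0 hp hq
  · exact type2 1 0 hp hq
  · exact type2 1 1 hp hq

theorem rank_pl [Finite V] (hf : Full S) : H894.rank G (Pl S) ≤ 4 + 1 := by
  have h := PermDeg.rank_le (G := G) (Ω := Pl S) (P S) (exists_P S) (P_orbit hf)
  simpa using h

end Planes

end Cfsg.Agent.H145.SpTwo
end

-- part: H145/SpTwoCount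
section
/-!
# The number of nondegenerate planes, five character degrees of `Sp_{2m}(2)`

(helper145, for S4898.)
-/

set_option autoImplicit false
set_option linter.unusedSectionVars false

namespace Cfsg.Agent.H145.SpTwo

open Cfsg Cfsg.Agent.H79.MinIdxSp2 MulAction
open scoped Pointwise

variable {F V G : Type*} [Field F] [AddCommGroup V] [Module F V] [Group G] [DistribMulAction G V] (S : Sp2 F V G)

theorem card_one [Finite V] {u : V} (hu : u ≠ 0) : 2 * Nat.card {v // S.B u v = 1} = Nat.card V := by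
  obtain ⟨f, hf⟩ := S.exists_hyp hu
  have e : {v // S.B u v = 1} ≃ {v // ¬ S.B u v = 1} := by
    refine ⟨fun v => ⟨v.1 + f, ?_⟩, fun v => ⟨v.1 + f, ?_⟩, ?_, ?_⟩
    · rw [S.add_right, v.2, hf, S.one_add_one]; exact zero_ne_one
    · rw [S.add_right, S.ne_one.1 v.2, hf, zero_add]
    · intro v
      exact Subtype.ext (by change v.1 + f + f = v.1; rw [add_assoc, S.add_self, add_zero])
    · intro v
      exact Subtype.ext (by change v.1 + f + f = v.1; rw [add_assoc, S.add_self, add_zero])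
  have h1 := Nat.card_congr e
  have h2 : Nat.card V = Nat.card {v // S.B u v = 1} + Nat.card {v // ¬ S.B u v = 1} := by
    classical
    rw [← Nat.card_sum]
    exact Nat.card_congr (Equiv.sumCompl _).symm
  omega

/-- The number of hyperbolic pairs. -/
theorem card_hp [Finite V] : 2 * Nat.card {p : V × V // S.B p.1 p.2 = 1} = (Nat.card V - 1) * Nat.card V := by
  classical
  have := Fintype.ofFinite V
  have e : {p : V × V // S.B p.1 p.2 = 1} ≃ Σ u : V, {v // S.B u v = 1} :=
    ⟨fun p => ⟨p.1.1, p.1.2, p.2⟩, fun p => ⟨(p.1, p.2.1), p.2.2⟩, fun _ => rfl, fun _ => rfl⟩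
  rw [Nat.card_congr e, Nat.card_sigma, Finset.mul_sum]
  rw [← Finset.add_sum_erase _ _ (Finset.mem_univ (0 : V))]
  have h0 : Nat.card {v // S.B 0 v = 1} = 0 := by
    rw [Nat.card_eq_zero]
    left
    exact ⟨fun v => zero_ne_one ((S.zero_left v.1).symm.trans v.2)⟩
  rw [h0, mul_zero, zero_add, Finset.sum_congr rfl (fun u hu => card_one S (Finset.ne_of_mem_erase hu)), Finset.sum_const,
    Finset.card_erase_of_mem (Finset.mem_univ _), Finset.card_univ, smul_eq_mul, Nat.card_eq_fintype_card]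

theorem card_fib {s : Set V} {u v : V} (h : Hy S s u v) : Nat.card {p : V × V // Hy S s p.1 p.2} = 6 := by
  classical
  have h1 : s = (({u, v, u + v} : Finset V) : Set V) := by
    rw [h.2, T]
    simp
  have hc : ({u, v, u + v} : Finset V).card = 3 := by
    rw [Finset.card_eq_three]
    refine ⟨u, v, u + v, Hy.ne S h, ?_, ?_, rfl⟩
    · exact Hy.ne S (Hy.add S h)
    · exact (Hy.ne S (Hy.add' S h)).symm
  have e : {p : V × V // Hy S s p.1 p.2} ≃ (({u, v, u + v} : Finset V).offDiag) := by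
    refine Equiv.subtypeEquivRight fun p => ?_
    rw [Finset.mem_offDiag]
    have hm : ∀ w, w ∈ ({u, v, u + v} : Finset V) ↔ w ∈ s := fun w => by rw [h1, Finset.mem_coe]
    rw [hm, hm]
    constructor
    · intro hp
      exact ⟨Hy.mem_left S hp, Hy.mem_right S hp, Hy.ne S hp⟩
    · rintro ⟨ha, hb, hab⟩
      exact Hy.of_ne S h ha hb hab
  rw [Nat.card_congr e, Nat.card_eq_fintype_card, Fintype.card_coe, Finset.offDiag_card, hc]

/-- **The number of nondegenerate planes.** -/
theorem card_pl [Finite V] : 12 * Nat.card (Pl S) = (Nat.card V - 1) * Nat.card V := by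
  classical
  have := Fintype.ofFinite (Pl S)
  have e : {p : V × V // S.B p.1 p.2 = 1} ≃ Σ s : Pl S, {p : V × V // Hy S (s : Set V) p.1 p.2} :=
    { toFun := fun p => ⟨⟨T p.1.1 p.1.2, p.1.1, p.1.2, p.2, rfl⟩, p.1, p.2, rfl⟩
      invFun := fun x => ⟨x.2.1, x.2.2.1⟩
      left_inv := fun p => rfl
      right_inv := by
        rintro ⟨⟨s, hs⟩, ⟨p, hp⟩⟩
        have h : s = T p.1 p.2 := hp.2
        subst h
        rfl }
  have h1 : Nat.card {p : V × V // S.B p.1 p.2 = 1} = Nat.card (Pl S) * 6 := by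
    rw [Nat.card_congr e, Nat.card_sigma, Finset.sum_congr rfl (fun s _ => ?_), Finset.sum_const, Finset.card_univ, smul_eq_mul,
      Nat.card_eq_fintype_card]
    obtain ⟨u, v, h⟩ := s.2
    exact card_fib S h
  rw [← card_hp S, h1]
  ring

/-- **Five character degrees.** -/
theorem five [Finite G] [Finite V] {m : ℕ} (hm : 3 ≤ m) (hV : Nat.card V = 2 ^ (2 * m)) (hf : Full S) {Q : V → F}
    (hQ : ∀ u v, Q (u + v) = Q u + Q v + S.B u v) {χ₀ : G → ℂ} (h0 : IsIrrCharacter G χ₀) {s : ℕ} (hs : χ₀ 1 = s)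
    (hsm : 2 ^ (m ^ 2) ≤ s) : 5 ≤ (charDegrees G).ncard := by
  classical
  have h1m : 1 ≤ 2 ^ m := Nat.one_le_two_pow
  set x := 2 ^ (m - 1) with hx
  have h2x : 2 ^ m = 2 * x := by rw [hx, ← pow_succ', Nat.sub_add_cancel (by omega)]
  have hx4 : 4 ≤ x := by
    calc 4 = 2 ^ 2 := by norm_num
      _ ≤ 2 ^ (m - 1) := Nat.pow_le_pow_right (by norm_num) (by omega)
  have hV2 : Nat.card V = (2 * x) * (2 * x) := by rw [hV, two_mul, pow_add, h2x]
  obtain ⟨⟨Q1, hQ1, hc1⟩, ⟨Q2, hQ2, hc2⟩⟩ := exists_forms S hQ (m := m) (by omega) hV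
  have hc1' : Nat.card (orbit G (Sp2.Fn.mk Q1)) = x * (2 * x + 1) := by rw [card_orbit S hQ1, hc1, h2x]
  have hc2' : Nat.card (orbit G (Sp2.Fn.mk Q2)) = x * (2 * x - 1) := by rw [card_orbit S hQ2, hc2, h2x]
  have hb1 : 36 ≤ x * (2 * x + 1) := by nlinarith only [hx4]
  have hb2 : 28 ≤ x * (2 * x - 1) := by
    calc 28 = 4 * 7 := by norm_num
      _ ≤ x * (2 * x - 1) := Nat.mul_le_mul hx4 (by omega)
  have hlt : x * (2 * x - 1) < x * (2 * x + 1) := Nat.mul_lt_mul_of_pos_left (by omega) (by omega)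
  have : Finite (orbit G (Sp2.Fn.mk Q1)) := Nat.finite_of_card_ne_zero (by omega)
  have : Finite (orbit G (Sp2.Fn.mk Q2)) := Nat.finite_of_card_ne_zero (by omega)
  obtain ⟨χ1, h1, hd1⟩ := PermDeg.exists_deg_two (two_trans S hQ1) (by omega)
  obtain ⟨χ2, h2, hd2⟩ := PermDeg.exists_deg_two (two_trans S hQ2) (by omega)
  rw [hc1'] at hd1
  rw [hc2'] at hd2
  have hN := card_pl S
  rw [hV2] at hN
  have hxx : 16 ≤ x * x := Nat.mul_le_mul hx4 hx4
  have hbig : 4 * (x * (2 * x + 1) - 1) + 1 < Nat.card (Pl S) := by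
    have h3 : x * (2 * x + 1) = 2 * (x * x) + x := by ring
    have h4 : (2 * x) * (2 * x) = 4 * (x * x) := by ring
    rw [h4] at hN
    rw [h3]
    have h5 : x ≤ x * x := Nat.le_mul_of_pos_left _ (by omega)
    have h6 : 63 * (4 * (x * x)) ≤ (4 * (x * x) - 1) * (4 * (x * x)) := Nat.mul_le_mul_right _ (by omega)
    have h7 : 4 * x ≤ x * x := Nat.mul_le_mul hx4 (le_refl x)
    (clear * - hN hxx h6 h7; omega)
  have hsmall : Nat.card (Pl S) < 2 ^ (m ^ 2) := by
    have h3 : (2 * x) * (2 * x) = 2 ^ (2 * m) := by rw [← h2x, ← pow_add, two_mul]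
    rw [h3] at hN
    have h4 : 12 * Nat.card (Pl S) ≤ 2 ^ (2 * m) * 2 ^ (2 * m) := by
      rw [hN]
      exact Nat.mul_le_mul_right _ (Nat.sub_le _ _)
    have h5 : 2 ^ (2 * m) * 2 ^ (2 * m) = 8 * 2 ^ (4 * m - 3) := by
      rw [← pow_add, show (8 : ℕ) = 2 ^ 3 by norm_num, ← pow_add]
      congr 1
      omega
    have h6 : 4 * m - 3 ≤ m ^ 2 := by
      obtain ⟨k, rfl⟩ : ∃ k, m = k + 3 := ⟨m - 3, by omega⟩
      have : (k + 3) ^ 2 = k ^ 2 + 6 * k + 9 := by ring
      rw [this]
      have : 0 ≤ k ^ 2 := Nat.zero_le _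
      omega
    have h7 : 2 ^ (4 * m - 3) ≤ 2 ^ (m ^ 2) := Nat.pow_le_pow_right (by norm_num) h6
    have h8 : 0 < 2 ^ (m ^ 2) := by positivity
    omega
  have : Nonempty (Pl S) := by
    by_contra hcon
    rw [not_nonempty_iff] at hcon
    have h3 : Nat.card (Pl S) = 0 := Nat.card_eq_zero.2 (Or.inl hcon)
    omega
  have : Finite (Pl S) := Nat.finite_of_card_ne_zero (by omega)
  obtain ⟨χ3, d, h3, hd3, hd3a, hd3b⟩ := PermDeg.exists_deg (pl_trans hf) (R := 4) (rank_pl hf) hbig
  have hmem : ∀ {χ : G → ℂ} (_ : IsIrrCharacter G χ) {n : ℕ} (_ : χ 1 = n), n ∈ charDegrees G := by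
    intro χ hχ n hn
    refine ⟨⟨χ, hχ⟩, ?_⟩
    change charDegree χ = n
    rw [charDegree, hn]
    simp
  have hfin : (charDegrees G).Finite := by
    have := Cfsg.Agent.Characters.Core.finite_irr (G := G)
    have h : charDegrees G = Set.range (fun χ : IrrCharacter G => charDegree (χ : G → ℂ)) := by
      ext d
      simp only [charDegrees, _root_.Subtype.exists, _root_.exists_prop, _root_.Set.mem_ofPred_eq, _root_.Set.mem_range]
    rw [h]
    exact Set.finite_range _
  have m0 : 1 ∈ charDegrees G := hmem Cfsg.Agent.Characters.Core.isIrr_one (by simp)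
  have m1 := hmem h1 hd1
  have m2 := hmem h2 hd2
  have m3 := hmem h3 hd3
  have m4 := hmem h0 hs
  have hsub : (({1, x * (2 * x - 1) - 1, x * (2 * x + 1) - 1, d, s} : Finset ℕ) : Set ℕ) ⊆ charDegrees G := by
    intro n hn
    simp only [Finset.coe_insert, Finset.coe_singleton, Set.mem_insert_iff, Set.mem_singleton_iff] at hn
    rcases hn with rfl | rfl | rfl | rfl | rfl <;> assumption
  have hcard : ({1, x * (2 * x - 1) - 1, x * (2 * x + 1) - 1, d, s} : Finset ℕ).card = 5 := by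
    rw [Finset.card_insert_of_notMem, Finset.card_insert_of_notMem, Finset.card_insert_of_notMem, Finset.card_insert_of_notMem,
      Finset.card_singleton]
    · simp only [Finset.mem_singleton]; omega
    · simp only [Finset.mem_insert, Finset.mem_singleton]; omega
    · simp only [Finset.mem_insert, Finset.mem_singleton]; omega
    · simp only [Finset.mem_insert, Finset.mem_singleton]; omega
  rw [← hcard, ← Set.ncard_coe_finset]
  exact Set.ncard_le_ncard hsub hfin

end Cfsg.Agent.H145.SpTwo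
end

-- part: H145/FiveSp2
section
/-!
# Five character degrees: almost simple groups with socle `Sp_{2m}(2)`, `m ≥ 3`

Task 550 (helper145, for S4898). `Aut(Sp_{2m}(2))` is inner; the degrees are `1`, the two nontrivial constituents of
the 2-transitive actions on quadratic forms, the Steinberg degree, and a constituent of the permutation character on
the nondegenerate planes (rank 5).
-/

set_option autoImplicit false

namespace Cfsg.Agent.H145.FiveSp2

open Cfsg Cfsg.Agent.H79.MinIdxSp2 Cfsg.Agent.H145.SpTwo Matrix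
open Cfsg.Agent.ClassicalGeometry.SympBasic

universe u

variable {F : Type} [Field F] {m : ℕ}

theorem zero_or_one [Fintype F] (hF : Fintype.card F = 2) (a : F) : a = 0 ∨ a = 1 := by
  classical
  by_cases h0 : a = 0
  · exact Or.inl h0
  · right
    exact Cfsg.Agent.OddHalf.Table.OutSpSix.eq_one_of_card (by rw [Nat.card_eq_fintype_card, hF]) a h0

theorem full (h01 : ∀ a : F, a = 0 ∨ a = 1) : Full (spData (m := m) h01) := by
  intro g hg
  refine ⟨⟨LinearMap.toMatrix' g.toLinearMap, ?_⟩, fun v => ?_⟩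
  · rw [mem_symplecticGroup_iff]
    intro u v
    rw [LinearMap.toMatrix'_mulVec, LinearMap.toMatrix'_mulVec]
    exact hg u v
  · rw [sp_smul_def]
    change LinearMap.toMatrix' g.toLinearMap *ᵥ v = g v
    rw [LinearMap.toMatrix'_mulVec]
    rfl

omit [Field F] in
theorem card_vec [Fintype F] (hF : Fintype.card F = 2) : Nat.card (Fin m ⊕ Fin m → F) = 2 ^ (2 * m) := by
  rw [Nat.card_fun, Nat.card_eq_fintype_card (α := F), hF, Nat.card_eq_fintype_card, Fintype.card_sum, Fintype.card_fin, two_mul]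

/-- `Sp_{2m}(2) ≅ PSp_{2m}(2)`. -/
theorem exists_equiv (h01 : ∀ a : F, a = 0 ∨ a = 1) : Nonempty (Matrix.symplecticGroup (Fin m) F ≃* PSp m F) := by
  refine ⟨MulEquiv.ofBijective (QuotientGroup.mk' _) ⟨?_, QuotientGroup.mk'_surjective _⟩⟩
  rw [← MonoidHom.ker_eq_bot_iff, QuotientGroup.ker_mk']
  exact center_eq_bot h01

theorem five_psp [Fintype F] (hF : Fintype.card F = 2) (hm : 3 ≤ m) : 5 ≤ (charDegrees (PSp m F)).ncard := by
  classical
  have h01 := zero_or_one hF
  obtain ⟨e⟩ := exists_equiv (m := m) h01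
  have : Fact (Nat.Prime 2) := ⟨Nat.prime_two⟩
  have hchar : CharP F 2 := by
    obtain ⟨p, hp⟩ := CharP.exists F
    obtain ⟨n, hp', hn⟩ := FiniteField.card F p
    rw [hF] at hn
    have h1 : p ∣ 2 := by rw [hn]; exact dvd_pow_self p n.2.ne'
    rw [(Nat.prime_dvd_prime_iff_eq hp' Nat.prime_two).1 h1] at hp
    exact hp
  have : Finite (PSp m F) := Quotient.finite _
  have hsimple : IsSimpleGroup (PSp m F) := S0270.result m (by omega) (by omega)
  obtain ⟨χ, hχ, h1, -⟩ := Cfsg.Agent.H167.StChar.hasSt_of_lie Nat.prime_two (T := PSp m F)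
    (Or.inr (Or.inl ⟨F, inferInstance, inferInstance, hchar, m, by omega, by omega, ⟨MulEquiv.refl _⟩⟩))
  have hcard : Nat.card (PSp m F) = 2 ^ (m ^ 2) * ∏ i ∈ Finset.range m, (2 ^ (2 * (i + 1)) - 1) := by
    rw [← Nat.card_congr e.toEquiv]
    exact S0245.result hF m
  have hne : Nat.card (PSp m F) ≠ 0 := Nat.card_pos.ne'
  have hle : 2 ^ (m ^ 2) ≤ 2 ^ (Nat.card (PSp m F)).factorization 2 := by
    refine Nat.pow_le_pow_right (by norm_num) ?_
    refine (Nat.Prime.pow_dvd_iff_le_factorization Nat.prime_two hne).1 ?_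
    rw [hcard]
    exact dvd_mul_right _ _
  have h2 := five (spData (m := m) h01) hm (card_vec hF) (full h01) (quadFormPlus_add h01)
    (Cfsg.Agent.Characters.Core.isIrr_comp e.toMonoidHom e.surjective hχ) (s := 2 ^ (Nat.card (PSp m F)).factorization 2)
    (by rw [Function.comp_apply, map_one, h1]) hle
  refine h2.trans (Set.ncard_le_ncard ?_ ?_)
  · rintro d ⟨χ, rfl⟩
    refine ⟨⟨(χ : _ → ℂ) ∘ e.symm, Cfsg.Agent.Characters.Core.isIrr_comp e.symm.toMonoidHom e.symm.surjective χ.2⟩, ?_⟩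
    show charDegree ((χ : _ → ℂ) ∘ e.symm) = _
    unfold charDegree
    rw [Function.comp_apply, map_one]
  · have := Cfsg.Agent.Characters.Core.finite_irr (G := PSp m F)
    have h : charDegrees (PSp m F) = Set.range (fun χ : IrrCharacter (PSp m F) => charDegree (χ : PSp m F → ℂ)) := by
      ext d
      simp only [charDegrees, _root_.Subtype.exists, _root_.exists_prop, _root_.Set.mem_ofPred_eq, _root_.Set.mem_range]
    rw [h]
    exact Set.finite_range _

/-- The centralizer condition and inner automorphisms. -/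
theorem eq_top {G : Type u} [Group G] (M : Subgroup G) (hM : M.Normal) (hc : Subgroup.centralizer (M : Set G) = ⊥)
    (hin : ∀ α : MulAut M, ∃ x : M, α = MulAut.conj x) : M = ⊤ := by
  rw [eq_top_iff]
  intro g _
  obtain ⟨x, hx⟩ := hin (MulAut.conjNormal g)
  have h1 : (x : G)⁻¹ * g ∈ Subgroup.centralizer (M : Set G) := by
    rw [Subgroup.mem_centralizer_iff]
    intro y hy
    have h2 := congrArg (fun α : MulAut M => ((α ⟨y, hy⟩ : M) : G)) hx
    simp only [MulAut.conjNormal_apply, MulAut.conj_apply, Subgroup.coe_mul, Subgroup.coe_inv] at h2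
    calc y * ((x : G)⁻¹ * g) = (x : G)⁻¹ * ((x : G) * y * (x : G)⁻¹) * g := by group
      _ = (x : G)⁻¹ * (g * y * g⁻¹) * g := by rw [h2]
      _ = (x : G)⁻¹ * g * y := by group
  rw [hc, Subgroup.mem_bot, inv_mul_eq_one] at h1
  rw [← h1]
  exact x.2

/-- **Task 550.** -/
theorem five_sp2 {G : Type u} [Group G] [Finite G] (M : Subgroup G) (hM : M.Normal) (hc : Subgroup.centralizer (M : Set G) = ⊥)
    (F : Type) [Field F] [Fintype F] (hF : Fintype.card F = 2) (m : ℕ) (hm : 3 ≤ m) (e : Nonempty (M ≃* Cfsg.PSp m F)) :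
    5 ≤ (Cfsg.charDegrees G).ncard := by
  classical
  obtain ⟨e⟩ := e
  have htop : M = ⊤ := by
    refine eq_top M hM hc fun α => ?_
    obtain ⟨x, hx⟩ := Cfsg.Agent.OddHalf.Table.OutSpSix.inner hm (F := F) (by rw [Nat.card_eq_fintype_card, hF])
      ((e.symm.trans α).trans e)
    refine ⟨e.symm x, ?_⟩
    ext1 y
    have h1 := congrArg (fun β : MulAut (PSp m F) => e.symm (β (e y))) hx
    simpa only [_root_.MulAut.conj_apply, _root_.MulEquiv.trans_apply, _root_.MulEquiv.symm_apply_apply, _root_.map_mul, _root_.map_inv] using h1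
  subst htop
  have e' : G ≃* PSp m F := Subgroup.topEquiv.symm.trans e
  refine (five_psp hF hm).trans (Set.ncard_le_ncard ?_ ?_)
  · rintro d ⟨χ, rfl⟩
    refine ⟨⟨(χ : _ → ℂ) ∘ e', Cfsg.Agent.Characters.Core.isIrr_comp e'.toMonoidHom e'.surjective χ.2⟩, ?_⟩
    show charDegree ((χ : _ → ℂ) ∘ e') = _
    unfold charDegree
    rw [Function.comp_apply, map_one]
  · have := Cfsg.Agent.Characters.Core.finite_irr (G := G)
    have h : charDegrees G = Set.range (fun χ : IrrCharacter G => charDegree (χ : G → ℂ)) := by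
      ext d
      simp only [charDegrees, _root_.Subtype.exists, _root_.exists_prop, _root_.Set.mem_ofPred_eq, _root_.Set.mem_range]
    rw [h]
    exact Set.finite_range _

end Cfsg.Agent.H145.FiveSp2
end

-- part: H590/Five/HeWords
section
/-!
# An elementary abelian subgroup of order 25 of the Held group, all of whose elements are conjugate (helper590)

* `x_pow`, `y_pow`, `comm_xy` : `x`, `y` of exponent 5 commute;
* `isConj` : `x ^ i * y ^ j` is conjugate to `x` for `(i, j) ≠ (0, 0)`.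
-/

set_option autoImplicit false

namespace Cfsg.Agent.H590.Five.HeWords

open Cfsg.Spor Cfsg.Spor.He Cfsg.Agent.SporadicB.HePerm
open Cfsg.Agent.FixBN.HeStab Cfsg.Agent.KFacts.He.Lv Cfsg.Agent.CpAutHe.Cnt

/-- the word of `x` -/
def X : List Gen := [.c, .d, .c, .d]

/-- the conjugating word of `y` -/
def U : List Gen := [.f, .d, .g, .b, .c, .d, .f, .e, .d, .g, .e, .c, .d, .f, .b]

/-- the conjugate of the word `v` by the word `w` -/
def cj (w v : List Gen) : List Gen := w ++ (v ++ w.reverse)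

/-- the word of `y` -/
def Y : List Gen := cj U X

/-- `x ↦ x ^ 2` -/
def V : List Gen := [.e, .d, .c, .d, .c, .b, .a, .b]
/-- `x ↦ x y` -/
def W1 : List Gen := [.b, .f, .d, .c, .d, .f, .g, .d, .b, .c, .d, .f, .g, .d, .f, .e, .a, .b]
/-- `x ↦ x ^ 2 y` -/
def W2 : List Gen := [.e, .d, .c, .b, .d, .e, .g, .d, .c, .d, .b, .c, .d, .f, .g, .d, .c, .d, .f, .g, .a, .b]
/-- `x ↦ x ^ 3 y` -/
def W3 : List Gen := [.g, .d, .c, .d, .e, .g, .d, .c, .d, .b, .c, .d, .g, .f, .d, .c, .d, .f, .e, .d, .g, .b]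
/-- `x ↦ x ^ 4 y` -/
def W4 : List Gen := [.b, .f, .d, .e, .c, .d, .b, .c, .d, .g, .f, .d, .c, .d, .g, .f, .b]

theorem chk5 : chkB (pw X 5) [] = true := by decide +kernel
theorem chkC : chkB (X ++ Y) (Y ++ X) = true := by decide +kernel
theorem chkV : chkB (cj V X) (pw X 2) = true := by decide +kernel
theorem chk1 : chkB (cj W1 X) (X ++ Y) = true := by decide +kernel
theorem chk2 : chkB (cj W2 X) (pw X 2 ++ Y) = true := by decide +kernel
theorem chk3 : chkB (cj W3 X) (pw X 3 ++ Y) = true := by decide +kernel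
theorem chk4 : chkB (cj W4 X) (pw X 4 ++ Y) = true := by decide +kernel
theorem chkU : chkB (U ++ U.reverse) [] = true := by decide +kernel
theorem chkVr : chkB (V ++ V.reverse) [] = true := by decide +kernel
theorem chk1r : chkB (W1 ++ W1.reverse) [] = true := by decide +kernel
theorem chk2r : chkB (W2 ++ W2.reverse) [] = true := by decide +kernel
theorem chk3r : chkB (W3 ++ W3.reverse) [] = true := by decide +kernel
theorem chk4r : chkB (W4 ++ W4.reverse) [] = true := by decide +kernel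

theorem wd_rev {w : List Gen} (h : chkB (w ++ w.reverse) [] = true) : wd w.reverse = (wd w)⁻¹ := by
  have h1 := eq_of_chkB h
  rw [wd_append, wd_nil] at h1
  exact eq_inv_of_mul_eq_one_right h1

theorem isConj_cj {w v : List Gen} (h : chkB (w ++ w.reverse) [] = true) : IsConj (wd v) (wd (cj w v)) := by
  refine isConj_iff.2 ⟨wd w, ?_⟩
  rw [cj, wd_append, wd_append, wd_rev h, mul_assoc]

/-- the first generator -/
noncomputable def x : Cfsg.Spor.He := wd X

/-- the second generator -/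
noncomputable def y : Cfsg.Spor.He := wd Y

theorem x_pow : x ^ 5 = 1 := by
  have h := eq_of_chkB chk5
  rwa [wd_pw, wd_nil] at h

theorem comm_xy : Commute x y := by
  have h := eq_of_chkB chkC
  rwa [wd_append, wd_append] at h

theorem conj_y : IsConj x y := isConj_cj chkU

theorem y_pow : y ^ 5 = 1 := by
  have h := conj_y.pow 5
  rw [x_pow, isConj_comm, isConj_one_left] at h
  exact h

theorem ne_one_of_act {w : List Gen} (i : Fin 2058) (h : Nat.beq (act w i) i = false) : wd w ≠ 1 := by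
  intro he
  rw [act_eq, he, map_one] at h
  have h2 : Nat.beq (i : ℕ) (i : ℕ) = true := Nat.beq_refl _
  have h3 : Nat.beq (i : ℕ) (i : ℕ) = false := h
  rw [h2] at h3
  exact absurd h3 (by decide)

theorem x_ne : x ≠ 1 := ne_one_of_act 5 (by decide +kernel)

theorem conj_two : IsConj x (x ^ 2) := by
  have h := isConj_cj (v := X) chkVr
  rwa [eq_of_chkB chkV, wd_pw] at h

theorem conj_pow {j : ℕ} (hj : j = 1 ∨ j = 2 ∨ j = 3 ∨ j = 4) : IsConj x (x ^ j) := by
  have h4 : IsConj x (x ^ 4) := by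
    have h := conj_two.pow 2
    rw [← pow_mul] at h
    exact conj_two.trans h
  rcases hj with rfl | rfl | rfl | rfl
  · rw [pow_one]
  · exact conj_two
  · have h := conj_two.pow 4
    rw [← pow_mul] at h
    have h5 : x ^ (2 * 4) = x ^ 3 := by
      rw [show 2 * 4 = 5 + 3 from rfl, pow_add, x_pow, one_mul]
    rw [h5] at h
    exact h4.trans h
  · exact h4

theorem conj_mul {k : ℕ} (hk : k < 5) : IsConj x (x ^ k * y) := by
  interval_cases k
  · rw [pow_zero, one_mul]
    exact conj_y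
  · have h := isConj_cj (v := X) chk1r
    rw [eq_of_chkB chk1, wd_append] at h
    rw [pow_one]
    exact h
  · have h := isConj_cj (v := X) chk2r
    rw [eq_of_chkB chk2, wd_append, wd_pw] at h
    exact h
  · have h := isConj_cj (v := X) chk3r
    rw [eq_of_chkB chk3, wd_append, wd_pw] at h
    exact h
  · have h := isConj_cj (v := X) chk4r
    rw [eq_of_chkB chk4, wd_append, wd_pw] at h
    exact h

/-- **All elements `≠ 1` of `⟨x, y⟩` are conjugate to `x`.** -/
theorem isConj {i j : ZMod 5} (h : i ≠ 0 ∨ j ≠ 0) : IsConj x (x ^ i.val * y ^ j.val) := by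
  have key : ∀ j : ZMod 5, j ≠ 0 → (j.val = 1 ∨ j.val = 2 ∨ j.val = 3 ∨ j.val = 4) := by decide
  by_cases hj : j = 0
  · subst hj
    have hi : i ≠ 0 := h.resolve_right fun h => h rfl
    rw [ZMod.val_zero, pow_zero, mul_one]
    exact conj_pow (key i hi)
  · have key2 : ∀ i j : ZMod 5, j ≠ 0 → ∃ k < 5, (k * j.val) % 5 = i.val := by decide
    obtain ⟨k, hk, hkj⟩ := key2 i j hj
    have h1 : (x ^ k * y) ^ j.val = x ^ i.val * y ^ j.val := by
      rw [(comm_xy.pow_left k).mul_pow, ← pow_mul]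
      congr 1
      rw [← hkj]
      exact pow_eq_pow_mod _ x_pow
    rw [← h1]
    exact (conj_pow (key j hj)).trans ((conj_mul hk).pow j.val)

end Cfsg.Agent.H590.Five.HeWords
end

-- part: H590/Five/DegPair
section
/-!
# Degrees of characters and elementary abelian subgroups of rank two (helper590)

`sq_sub_one_le` : `x`, `y` commute, `x ^ p = y ^ p = 1`, all `x ^ i * y ^ j`, `(i, j) ≠ (0, 0)`, are conjugate to `x`:
a character `χ` with `χ x ≠ χ 1` has degree at least `p ^ 2 - 1`.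
-/

set_option autoImplicit false

namespace Cfsg.Agent.H590.Five.DegPair

open Cfsg Cfsg.Agent.Characters.Core Cfsg.Agent.Characters.Linear Cfsg.Agent.H713.Count
open scoped ComplexConjugate

variable {G : Type*} [Group G] {p : ℕ} [hp : Fact p.Prime]

theorem sum_const_ite {ι : Type*} [Fintype ι] [DecidableEq ι] (i₀ : ι) (t d : ℂ) (g : ι → ℂ) :
    ∑ i : ι, (if i = i₀ then d else t) * g i = t * ∑ i, g i + (d - t) * g i₀ := by
  have h : ∀ i : ι, (if i = i₀ then d else t) * g i = t * g i + (if i = i₀ then (d - t) * g i else 0) := by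
    intro i
    split_ifs with h <;> ring
  rw [Finset.sum_congr rfl fun i _ => h i, Finset.sum_add_distrib, ← Finset.mul_sum, Finset.sum_ite_eq']
  simp only [_root_.Finset.mem_univ, ↓ _root_.reduceIte]

/-- the homomorphism of the elementary abelian group of rank two -/
noncomputable def homPair {x y : G} (hx : x ^ p = 1) (hy : y ^ p = 1) (hxy : Commute x y) :
    Multiplicative (ZMod p) × Multiplicative (ZMod p) →* G :=
  MonoidHom.noncommCoprod (hom x hx) (hom y hy) fun a b => (hxy.pow_left a.toAdd.val).pow_right b.toAdd.val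

theorem homPair_apply {x y : G} (hx : x ^ p = 1) (hy : y ^ p = 1) (hxy : Commute x y) (i j : ZMod p) :
    homPair hx hy hxy (Multiplicative.ofAdd i, Multiplicative.ofAdd j) = x ^ i.val * y ^ j.val := rfl

/-- **The degree is at least `p ^ 2 - 1`.** -/
theorem sq_sub_one_le [Finite G] {x y : G} (hx : x ^ p = 1) (hy : y ^ p = 1) (hxy : Commute x y)
    (hconj : ∀ i j : ZMod p, i ≠ 0 ∨ j ≠ 0 → IsConj x (x ^ i.val * y ^ j.val)) {χ : G → ℂ}
    (hχ : IsCharacter G χ) (hne : χ x ≠ χ 1) {d : ℕ} (hd : χ 1 = d) : p ^ 2 - 1 ≤ d := by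
  classical
  have hcf := isCharacter_isClassFunction hχ
  have hp0 : (p : ℂ) ≠ 0 := by exact_mod_cast hp.out.ne_zero
  have hval : ∀ i j : ZMod p, χ (x ^ i.val * y ^ j.val) = if (i, j) = (0, 0) then (d : ℂ) else χ x := by
    intro i j
    split_ifs with h
    · rw [Prod.mk.injEq] at h
      rw [h.1, h.2, ZMod.val_zero, pow_zero, pow_zero, mul_one, hd]
    · rw [Prod.mk.injEq, not_and_or] at h
      exact (classFunction_apply_eq hcf (hconj i j h)).symm
  -- the multiplicity of a nontrivial linear character of `⟨x⟩`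
  obtain ⟨m, hm⟩ := mlt_isNat hx hχ (1 : ZMod p)
  have hm1 : (p : ℂ) * m = d - χ x := by
    rw [← hm, mlt, mul_inv_cancel_left₀ hp0]
    have h1 : ∀ i : ZMod p, χ (x ^ i.val) * conj (ZMod.stdAddChar ((1 : ZMod p) * i) : ℂ) =
        (if i = 0 then (d : ℂ) else χ x) * ZMod.stdAddChar ((-1 : ZMod p) * i) := by
      intro i
      have h2 := hval i 0
      rw [ZMod.val_zero, pow_zero, mul_one] at h2
      rw [h2, conj_stdAddChar, one_mul, neg_one_mul]
      simp only [_root_.Prod.mk.injEq, _root_.and_true, _root_.ite_mul]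
    rw [Finset.sum_congr rfl fun i _ => h1 i, sum_const_ite, sum_stdAddChar, if_neg (neg_ne_zero.2 one_ne_zero),
      mul_zero, zero_add, mul_zero, AddChar.map_zero_eq_one, mul_one]
  -- the multiplicity of the trivial character of `⟨x, y⟩`
  obtain ⟨n, hn⟩ := classInner_isNat (isCharacter_comp (homPair hx hy hxy) hχ)
    (isCharacter_one (G := Multiplicative (ZMod p) × Multiplicative (ZMod p)))
  have hn1 : (p : ℂ) ^ 2 * n = d + (p ^ 2 - 1) * χ x := by
    have h1 : (Nat.card (Multiplicative (ZMod p) × Multiplicative (ZMod p)) : ℂ) = (p : ℂ) ^ 2 := by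
      rw [Nat.card_prod, Nat.card_eq_fintype_card, Fintype.card_multiplicative, ZMod.card]
      push_cast
      ring
    rw [← hn, classInner_def, h1, mul_inv_cancel_left₀ (pow_ne_zero 2 hp0)]
    have h2 : ∑ g : Multiplicative (ZMod p) × Multiplicative (ZMod p),
        (χ ∘ homPair hx hy hxy) g * conj ((1 : Multiplicative (ZMod p) × Multiplicative (ZMod p) → ℂ) g) =
        ∑ g : ZMod p × ZMod p, (if g = (0, 0) then (d : ℂ) else χ x) * (fun _ => (1 : ℂ)) g := by
      refine (Fintype.sum_equiv (Equiv.prodCongr Multiplicative.ofAdd Multiplicative.ofAdd) _ _ fun g => ?_).symm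
      obtain ⟨i, j⟩ := g
      rw [← hval i j]
      simp [homPair_apply, Function.comp]
    rw [h2, sum_const_ite]
    simp only [Finset.sum_const, Finset.card_univ, Fintype.card_prod, ZMod.card, nsmul_eq_mul, mul_one]
    push_cast
    ring
  -- arithmetic
  have h3 : (p : ℂ) * n + (p ^ 2 - 1) * m = p * d := by
    have h4 : χ x = d - p * m := by rw [hm1]; ring
    rw [h4] at hn1
    apply mul_left_cancel₀ hp0
    linear_combination hn1
  have h5 : (p : ℤ) * n + (p ^ 2 - 1) * m = p * d := by exact_mod_cast h3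
  have h6 : (p : ℤ) ∣ m := by
    refine ⟨n + p * m - d, ?_⟩
    linear_combination -h5
  obtain ⟨k, hk⟩ : p ∣ m := by exact_mod_cast h6
  have hk0 : k ≠ 0 := by
    rintro rfl
    rw [mul_zero] at hk
    rw [hk, Nat.cast_zero, mul_zero] at hm1
    exact hne (by rw [hd]; exact (sub_eq_zero.1 hm1.symm).symm)
  have h7 : (d : ℤ) = n + (p ^ 2 - 1) * k := by
    have hpz : (p : ℤ) ≠ 0 := by exact_mod_cast hp.out.ne_zero
    apply mul_left_cancel₀ hpz
    rw [hk] at h5
    push_cast at h5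
    linear_combination -h5
  have h8 : (1 : ℤ) ≤ k := by exact_mod_cast Nat.one_le_iff_ne_zero.2 hk0
  have h9 : (0 : ℤ) ≤ (p : ℤ) ^ 2 - 1 := by
    have : (1 : ℤ) ≤ (p : ℤ) ^ 2 := by exact_mod_cast Nat.one_le_pow _ _ hp.out.pos
    linarith only [this]
  have h10 : (p : ℤ) ^ 2 - 1 ≤ d := by nlinarith only [h7, h8]
  have h11 : p ^ 2 ≤ d + 1 := by
    have : (p : ℤ) ^ 2 ≤ d + 1 := by linarith only [h10]
    exact_mod_cast this
  omega

end Cfsg.Agent.H590.Five.DegPair
end

-- part: H590/Five/He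
section
/-!
# Five character degrees: almost simple groups with socle the Held group (helper590, for S4898)
-/

set_option autoImplicit false

namespace Cfsg.Agent.H590.Five.HeRow

open Cfsg Cfsg.Spor Cfsg.Spor.He Cfsg.Agent.SporadicB.HePerm
open Cfsg.Agent.FixBN.HeStab Cfsg.Agent.KFacts.He.Lv Cfsg.Agent.CpAutHe.Cnt
open Cfsg.Agent.H604.FD.Inner (chkD chkD_spec)

universe u

theorem card_fix (w : List Gen) : Nat.card {i : Fin 2058 // phi (wd w) i = i} =
    cnt 2058 (fun y => Nat.beq (act w y) y) := by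
  classical
  rw [← card_filter, Nat.card_eq_fintype_card, Fintype.card_subtype]
  refine Finset.card_bij (fun i _ => (i : ℕ)) ?_ ?_ ?_
  · intro i hi
    rw [Finset.mem_filter] at hi ⊢
    refine ⟨Finset.mem_range.2 i.2, ?_⟩
    rw [act_eq, hi.2]
    exact Nat.beq_refl _
  · intro i _ j _ h
    exact Fin.ext h
  · intro y hy
    rw [Finset.mem_filter, Finset.mem_range] at hy
    refine ⟨⟨y, hy.1⟩, ?_, rfl⟩
    rw [Finset.mem_filter]
    refine ⟨Finset.mem_univ _, Fin.ext ?_⟩
    rw [← act_eq]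
    exact Nat.eq_of_beq_eq_true hy.2

theorem cntA : cnt 2058 (fun y => Nat.beq (act [.a] y) y) = 154 := by decide +kernel
theorem cntD : cnt 2058 (fun y => Nat.beq (act [.d] y) y) = 42 := by decide +kernel

theorem not_isConj : ¬ IsConj (wd [.a]) (wd [.d]) := by
  intro h
  obtain ⟨k, hk⟩ := isConj_iff.1 h
  have h1 : Nat.card {i : Fin 2058 // phi (wd [.a]) i = i} = Nat.card {i : Fin 2058 // phi (wd [.d]) i = i} := by
    refine Nat.card_congr (Equiv.subtypeEquiv (phi k) fun i => ?_)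
    rw [← hk, map_mul, map_mul, map_inv, Equiv.Perm.mul_apply, Equiv.Perm.mul_apply, inv_app]
    exact ((phi k).injective.eq_iff).symm
  rw [card_fix, card_fix, cntA, cntD] at h1
  exact absurd h1 (by norm_num)

theorem orderOf_wd (m : Gen) (i : Fin 2058) (h : Nat.beq (act [m] i) i = false) : orderOf (wd [m]) = 2 := by
  have : Fact (Nat.Prime 2) := ⟨Nat.prime_two⟩
  refine orderOf_eq_prime ?_ (HeWords.ne_one_of_act i h)
  rw [pow_two, wd_one]
  exact Cfsg.Agent.KFacts.He.TwoACent.gn_mul_self m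

/-- some degree is divisible by 17 -/
theorem exists_dvd : ∃ d ∈ charDegrees Cfsg.Spor.He, 17 ∣ d := by
  have : Finite Cfsg.Spor.He := finite_he
  have h1 : orderOf (wd [.a]) = 2 := orderOf_wd .a 8 (by decide +kernel)
  have h2 : orderOf (wd [.d]) = 2 := orderOf_wd .d 2 (by decide +kernel)
  refine Cfsg.Agent.H604.FD.Inner.exists_dvd_of_two (p := 17) (by norm_num) (by norm_num) (by rw [card_he]; norm_num)
    (by rw [card_he]; norm_num) ?_ h1 h2 not_isConj
  intro x hx
  exact Cfsg.Agent.H547.SelfCent.HeRow.he ⟨MulEquiv.refl _⟩ card_he hx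

/-- the check -/
theorem chk : chkD (chkForm (2 * 4030387200) 17 [8] [1, 2] true (fun u v => Nat.blt u 24 || Nat.blt v 24))
    [(2, 11), (3, 3), (5, 2), (7, 3)] 1 = true := by decide +kernel

theorem five_He {G : Type u} [Group G] [Finite G] (M : Subgroup G) (hM : M.Normal)
    (hc : Subgroup.centralizer (M : Set G) = ⊥) (h : Cfsg.Spor.IsoHe M) : 5 ≤ (Cfsg.charDegrees G).ncard := by
  obtain ⟨e⟩ := h
  have f17 : Fact (Nat.Prime 17) := ⟨by norm_num⟩
  have : Finite Cfsg.Spor.He := finite_he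
  have hs : IsSimpleGroup Cfsg.Spor.He := Cfsg.Agent.S1695.result.1
  have c : Setup.Ctx M := Setup.Ctx.of_iso hs e hM hc Cfsg.Agent.S2075.result (by rw [card_he]; norm_num)
  have hMc : Nat.card M = 4030387200 := by rw [Nat.card_congr e.toEquiv, card_he]
  have hi := c.idx_le
  have hi0 : M.index ≠ 0 := Subgroup.index_ne_zero_of_finite
  have hG : Nat.card G = 4030387200 * M.index := by rw [← M.card_mul_index, hMc]
  have hGd : Nat.card G ∣ 2 * 4030387200 := by
    rw [hG, mul_comm 2]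
    exact Nat.mul_dvd_mul_left _ c.idx
  have hidx : M.index = 1 ∨ M.index = 2 := by omega
  -- the element of order 17
  have hx0 : orderOf (wd Cfsg.Agent.H547.SelfCent.HeRow.X) = 17 := Cfsg.Agent.H547.SelfCent.HeRow.orderOf_x
  let y : M := e.symm (wd Cfsg.Agent.H547.SelfCent.HeRow.X)
  have hy : orderOf y = 17 := by rw [MulEquiv.orderOf_eq]; exact hx0
  have hyG : orderOf (y : G) = 17 := by rw [Subgroup.orderOf_coe, hy]
  have hsqG : ¬ 17 ^ 2 ∣ Nat.card G := by
    intro hd
    have := hd.trans hGd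
    norm_num at this
  obtain ⟨P, hP⟩ := exists_sylow hyG hsqG
  have hPc : Nat.card (P : Subgroup G) = 17 := by rw [hP, Nat.card_zpowers, hyG]
  -- `e = 8` or `e = 16`
  have hfM : (Cfsg.Agent.H713.Count.fus (p := 17) y).card = 8 := by
    rw [card_fus_eq hy (by rw [hMc]; norm_num) (Cfsg.Agent.H547.SelfCent.HeRow.he ⟨e⟩ hMc hy), hMc]
  have hfle := card_fus_mono (p := 17) y
  rw [hfM] at hfle
  have hfd := card_fus_dvd' (p := 17) hyG
  have he : (Subgroup.centralizer ((P : Subgroup G) : Set G)).relIndex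
      (Subgroup.normalizer ((P : Subgroup G) : Set G)) = (Cfsg.Agent.H713.Count.fus (p := 17) (y : G)).card := by
    rw [hP]
    exact relIndex_fus hyG
  by_contra hcon
  rw [not_le] at hcon
  obtain ⟨-, a, b, d, -, -, -, ha, hb, -, ha1, hb1, -, -, hF⟩ := main c (p := 17) (by norm_num) hG
    (by rcases hidx with h | h <;> rw [h] <;> norm_num) hcon (c.exists_dvd e exists_dvd) P hPc he
  have haG := (Cfsg.Agent.H424.DegTools.dvd_card ha).trans hGd
  have hbG := (Cfsg.Agent.H424.DegTools.dvd_card hb).trans hGd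
  have hQ := form_spec (N := 2 * 4030387200) (p := 17) (idx := M.index) (by norm_num) (by norm_num)
    (by decide) (by norm_num) chk (by
      intro n h1 h2
      have : n = 1 ∨ n = 2 := by omega
      rcases this with rfl | rfl <;> simp) (e := (Cfsg.Agent.H713.Count.fus (p := 17) (y : G)).card) (by
      set t := (Cfsg.Agent.H713.Count.fus (p := 17) (y : G)).card with ht
      have ht16 : t ∣ 16 := hfd
      have ht3 : t = 8 ∨ t = 16 := by
        have hle : t ≤ 16 := Nat.le_of_dvd (by norm_num) ht16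
        interval_cases t <;> revert ht16 <;> decide
      rcases ht3 with h | h
      · right
        rw [h]
        exact ⟨by norm_num, by simp⟩
      · left
        exact ⟨h, rfl⟩) haG hbG hF
  -- the degrees are at least 24
  have key : ∀ t ∈ charDegrees G, t ≠ 1 → 24 ≤ t := by
    rintro t ⟨χ, rfl⟩ ht
    have f5 : Fact (Nat.Prime 5) := ⟨by norm_num⟩
    let x' : M := e.symm HeWords.x
    let y' : M := e.symm HeWords.y
    have hx' : ((x' : M) : G) ^ 5 = 1 := by
      rw [← Subgroup.coe_pow, ← map_pow, HeWords.x_pow, map_one, Subgroup.coe_one]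
    have hy' : ((y' : M) : G) ^ 5 = 1 := by
      rw [← Subgroup.coe_pow, ← map_pow, HeWords.y_pow, map_one, Subgroup.coe_one]
    have hxy : Commute ((x' : M) : G) (y' : G) := by
      have h1 : x' * y' = y' * x' := by
        show e.symm _ * e.symm _ = e.symm _ * e.symm _
        rw [← map_mul, ← map_mul, HeWords.comm_xy.eq]
      exact congrArg Subtype.val h1
    have hx1 : x' ≠ 1 := by
      intro h
      apply HeWords.x_ne
      have := congrArg e h
      rwa [e.apply_symm_apply, map_one] at this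
    refine DegPair.sq_sub_one_le (p := 5) hx' hy' hxy ?_ (Cfsg.Agent.Characters.Core.isIrr_isCharacter χ.2)
      (c.apply_ne χ.2 ht hx1) (Cfsg.Agent.Blocks.Basic.irr_one_eq_charDegree χ.2)
    intro i j hij
    obtain ⟨g, hg⟩ := isConj_iff.1 (HeWords.isConj hij)
    refine isConj_iff.2 ⟨((e.symm g : M) : G), ?_⟩
    have h2 := congrArg (fun z => ((e.symm z : M) : G)) hg
    simpa only [_root_.map_mul, _root_.map_inv, _root_.Subgroup.coe_mul, _root_.InvMemClass.coe_inv, _root_.map_pow, _root_.SubmonoidClass.coe_pow] using h2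
  have ha24 := key a ha ha1
  have hb24 := key b hb hb1
  rw [Bool.or_eq_true] at hQ
  rcases hQ with h | h
  · have : a < 24 := Nat.le_of_ble_eq_true h
    omega
  · have : b < 24 := Nat.le_of_ble_eq_true h
    omega

end Cfsg.Agent.H590.Five.HeRow
end

-- part: H604/FD/Rows
section
/-!
# Five character degrees: `Co1`, `Co2`, `Co3`, `Ru`, `J4`, `Fi23` (helper604, for S4898)
-/

set_option autoImplicit false

namespace Cfsg.Agent.H604.FD.Rows

open Subgroup Cfsg Cfsg.Agent.H604.FD.Inner Cfsg.Agent.H604.FD.Degs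
open scoped commutatorElement

universe u v

/-- A simple group with a self-centralizing Sylow subgroup of order `p`. -/
theorem five_simple {K : Type u} [Group K] [Finite K] [IsSimpleGroup K] {N p : ℕ} (e : ℕ) (hp : p.Prime)
    (hN : Nat.card K = N) (hself : ∀ x : K, orderOf x = p → Nat.card (centralizer ({x} : Set K)) = p)
    (hsq : ¬ p ^ 2 ∣ N) (he : (N / p) % p = e) (he1 : 1 < e) (hep : e < p - 1) (hd : ∃ d ∈ charDegrees K, p ∣ d)
    (L : List (ℕ × ℕ)) (hL : ∀ x ∈ L, x.1.Prime) (hprod : N = p * (L.map fun x => x.1 ^ x.2).prod)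
    (hchk : chkD (chkU N p e) L 1 = true) : 5 ≤ (charDegrees K).ncard := by
  have : Fact p.Prime := ⟨hp⟩
  have hdiv : p ∣ Nat.card K := by rw [hN, hprod]; exact dvd_mul_right _ _
  have hna : ¬ (Nat.card K).Prime := by
    intro h
    have h1 := (Nat.prime_dvd_prime_iff_eq hp h).1 hdiv
    have h2 : N / p = 1 := by
      rw [← hN, ← h1, Nat.div_self hp.pos]
    rw [h2, Nat.mod_eq_of_lt hp.one_lt] at he
    omega
  have hperf : _root_.commutator K = ⊤ := by
    rcases (inferInstance : (_root_.commutator K).Normal).eq_bot_or_eq_top with h | h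
    · exfalso
      have h1 : IsMulCommutative K := ⟨⟨fun a b => by
        have h2 : ⁅a, b⁆ ∈ _root_.commutator K := commutator_mem_commutator (mem_top a) (mem_top b)
        rw [h, mem_bot, commutatorElement_eq_one_iff_mul_comm] at h2
        exact h2⟩⟩
      exact Cop.Conway.not_comm_of_card hna h1
    · exact h
  obtain ⟨x, hx⟩ := exists_prime_orderOf_dvd_card' p hdiv
  obtain ⟨P, hP⟩ := (IsPGroup.of_card (G := zpowers x) (p := p) (n := 1)
    (by rw [pow_one, Nat.card_zpowers, hx])).exists_le_sylow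
  have hPx : (P : Subgroup K) = zpowers x := by
    refine (eq_of_le_of_card_ge hP ?_).symm
    obtain ⟨n, hn⟩ := IsPGroup.iff_card.1 P.2
    have h1 : p ^ n ∣ Nat.card K := hn ▸ card_subgroup_dvd_card _
    have hn1 : n ≤ 1 := by
      by_contra hc
      exact hsq (hN ▸ dvd_trans (pow_dvd_pow p (by omega)) h1)
    rw [Nat.card_zpowers, hx, hn]
    calc p ^ n ≤ p ^ 1 := Nat.pow_le_pow_right hp.pos hn1
      _ = p := pow_one p
  have hPc : Nat.card (P : Subgroup K) = p := by rw [hPx, Nat.card_zpowers, hx]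
  have hCP : Nat.card (centralizer ((P : Subgroup K) : Set K)) = p := by
    rw [hPx, H729.PairBase.centralizer_zpowers_eq]
    exact hself x hx
  have hrel := relIndex_eq P hPc hCP
  rw [hN, he] at hrel
  refine five_of_degs hp he1 hep hd (degs P hPc hrel he1 hep hperf) ?_
  rw [hN]
  intro u hu hu1
  by_cases hpu : p ∣ u
  · have h1 := Nat.mod_eq_zero_of_dvd hpu
    rw [h1]
    exact ⟨fun h => by omega, fun h => by omega⟩
  · have h1 : u ∣ (L.map fun x => x.1 ^ x.2).prod := by
      rw [hprod] at hu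
      exact ((Nat.Prime.coprime_iff_not_dvd hp).2 hpu).symm.dvd_of_dvd_mul_left hu
    have h2 := chkD_spec hchk hL u h1
    rw [one_mul] at h2
    exact chkU_spec h2 hu1

/-- the subgroups of order `p` -/
theorem relIndex_sub {K : Type u} [Group K] [Finite K] {p : ℕ} (hp : p.Prime) (hsq : ¬ p ^ 2 ∣ Nat.card K)
    (hself : ∀ x : K, orderOf x = p → Nat.card (centralizer ({x} : Set K)) = p) {P : Subgroup K}
    (hP : Nat.card P = p) :
    (centralizer (P : Set K)).relIndex (normalizer (P : Set K)) = (Nat.card K / p) % p := by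
  have : Fact p.Prime := ⟨hp⟩
  obtain ⟨Q, hQ⟩ := (IsPGroup.of_card (G := P) (p := p) (n := 1) (by rw [pow_one, hP])).exists_le_sylow
  have hQP : (Q : Subgroup K) = P := by
    refine (eq_of_le_of_card_ge hQ ?_).symm
    obtain ⟨n, hn⟩ := IsPGroup.iff_card.1 Q.2
    have h1 : p ^ n ∣ Nat.card K := hn ▸ card_subgroup_dvd_card _
    have hn1 : n ≤ 1 := by
      by_contra hc
      exact hsq (dvd_trans (pow_dvd_pow p (by omega)) h1)
    rw [hP, hn]
    calc p ^ n ≤ p ^ 1 := Nat.pow_le_pow_right hp.pos hn1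
      _ = p := pow_one p
  have hcyc : IsCyclic P := isCyclic_of_prime_card hP
  obtain ⟨x, hx⟩ := hcyc.exists_generator
  have hPx : P = zpowers (x : K) := by
    apply le_antisymm
    · intro y hy
      obtain ⟨i, hi⟩ := mem_zpowers_iff.1 (hx ⟨y, hy⟩)
      exact mem_zpowers_iff.2 ⟨i, congrArg Subtype.val hi⟩
    · rw [zpowers_le]
      exact x.2
  have hxo : orderOf (x : K) = p := by
    rw [← Nat.card_zpowers, ← hPx, hP]
  have hCP : Nat.card (centralizer (P : Set K)) = p := by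
    rw [hPx, H729.PairBase.centralizer_zpowers_eq]
    exact hself x hxo
  rw [← hQP] at hP hCP ⊢
  exact relIndex_eq Q hP hCP

/-- one self-centralizing element of order `p` is enough -/
theorem self_of_one {K : Type u} [Group K] [Finite K] {p : ℕ} (hp : p.Prime) (hsq : ¬ p ^ 2 ∣ Nat.card K) {x₀ : K}
    (hx₀ : orderOf x₀ = p) (h : Nat.card (centralizer ({x₀} : Set K)) = p) (x : K) (hx : orderOf x = p) :
    Nat.card (centralizer ({x} : Set K)) = p := by
  obtain ⟨g, -, hg⟩ := CpAutBig.Small.conj_of_sylow hp (⊤ : Subgroup K) (by rwa [card_top]) hx hx₀ (mem_top _)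
    (mem_top _)
  rw [CpAutBig.CoZero.card_centralizer_of_conj hp hx hx₀ hg, h]

/-- `e` odd -/
theorem five_odd {K : Type u} [Group K] [Finite K] [IsSimpleGroup K] {N p : ℕ} (e : ℕ) (hp : p.Prime)
    (hN : Nat.card K = N) (hself : ∀ x : K, orderOf x = p → Nat.card (centralizer ({x} : Set K)) = p)
    (hsq : ¬ p ^ 2 ∣ N) (he : (N / p) % p = e) (he1 : 1 < e) (hep : e < p - 1) (hodd : Odd e) (h2 : 2 ∣ N)
    (L : List (ℕ × ℕ)) (hL : ∀ x ∈ L, x.1.Prime) (hprod : N = p * (L.map fun x => x.1 ^ x.2).prod)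
    (hchk : chkD (chkU N p e) L 1 = true) : 5 ≤ (charDegrees K).ncard := by
  refine five_simple e hp hN hself hsq he he1 hep ?_ L hL hprod hchk
  refine exists_dvd_of_odd hp (by omega) (by rw [hN, hprod]; exact dvd_mul_right _ _) (by rwa [hN]) hself (by rwa [hN]) ?_
  intro P hP
  rw [relIndex_sub hp (by rwa [hN]) hself hP, hN, he]
  exact hodd

/-- two classes of involutions -/
theorem five_two {K : Type u} [Group K] [Finite K] [IsSimpleGroup K] {N p : ℕ} (e : ℕ) (hp : p.Prime)
    (hN : Nat.card K = N) (hself : ∀ x : K, orderOf x = p → Nat.card (centralizer ({x} : Set K)) = p)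
    (hsq : ¬ p ^ 2 ∣ N) (he : (N / p) % p = e) (he1 : 1 < e) (hep : e < p - 1) {s t : K} (hs : orderOf s = 2)
    (ht : orderOf t = 2) (hst : ¬ IsConj s t)
    (L : List (ℕ × ℕ)) (hL : ∀ x ∈ L, x.1.Prime) (hprod : N = p * (L.map fun x => x.1 ^ x.2).prod)
    (hchk : chkD (chkU N p e) L 1 = true) : 5 ≤ (charDegrees K).ncard := by
  refine five_simple e hp hN hself hsq he he1 hep ?_ L hL hprod hchk
  exact exists_dvd_of_two hp (by omega) (by rw [hN, hprod]; exact dvd_mul_right _ _) (by rwa [hN]) hself hs ht hst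

/-- `G = M` if `M` has no outer automorphisms. -/
theorem five_of_out {G : Type u} [Group G] [Finite G] (M : Subgroup G) (hM : M.Normal)
    (hc : centralizer (M : Set G) = ⊥) {K : Type v} [Group K] [Finite K] (e : M ≃* K)
    (hout : Nat.card (Out K) = 1) (h5 : 5 ≤ (charDegrees K).ncard) : 5 ≤ (charDegrees G).ncard := by
  have h1 : Nat.card (Out M) = 1 := by rw [H548.Crit.card_out_congr e]; exact hout
  have htop : M = ⊤ := by
    rw [eq_top_iff]
    intro g _
    have h2 : (MulAut.conjNormal g : MulAut M) ∈ Inn M := by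
      rw [← QuotientGroup.eq_one_iff]
      exact ((Nat.card_eq_one_iff_unique.1 h1).1).elim _ _
    obtain ⟨m, hm⟩ := h2
    have h3 : g⁻¹ * (m : G) ∈ centralizer (M : Set G) := by
      rw [mem_centralizer_iff]
      intro x hx
      have h4 := congrArg (fun f : MulAut M => ((f ⟨x, hx⟩ : M) : G)) hm
      have h5 : (m : G) * x * (m : G)⁻¹ = g * x * g⁻¹ := by
        simpa only [MulAut.conj_apply, MulAut.conjNormal_apply, _root_.Subgroup.coe_mul, _root_.InvMemClass.coe_inv] using h4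
      calc x * (g⁻¹ * m) = g⁻¹ * (g * x * g⁻¹) * m := by group
        _ = g⁻¹ * m * x := by rw [← h5]; group
    rw [hc, mem_bot] at h3
    have h6 : g = m := by
      rw [← inv_mul_eq_one.1 h3]
    rw [h6]
    exact m.2
  have f : G ≃* K := (topEquiv.symm.trans (MulEquiv.subgroupCongr htop.symm)).trans e
  rw [H424.DegTools.charDegrees_congr f]
  exact h5

private noncomputable def loopF (g : ℕ → Bool) (q k : ℕ) : ℕ → Bool :=
  Nat.rec (motive := fun _ => ℕ → Bool) g (fun _ r a => Bool.rec false (r (Nat.mul a q)) (g a)) k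

private theorem loopF_eq (g : ℕ → Bool) (q k : ℕ) : loopF g q k = loop g q k := by
  induction k with
  | zero => rfl
  | succ k ih =>
    funext a
    show Bool.rec false (loopF g q k (Nat.mul a q)) (g a) = (g a && loop g q k (Nat.mul a q))
    rw [ih]
    cases g a <;> rfl

private noncomputable def chkUF (N p e1 p1 u : ℕ) : Bool :=
  Bool.rec
    (Bool.rec true (Bool.rec true (Nat.beq u 1) (Nat.beq (Nat.mod N (Nat.sub (Nat.mul e1 u) 1)) 0)) (Nat.beq (Nat.mod u p) p1))
    (Bool.rec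
      (Bool.rec
        (Bool.rec true (Bool.rec true false (Nat.beq (Nat.mod N (Nat.sub (Nat.mul e1 u) 1)) 0)) (Nat.beq (Nat.mod u p) p1))
        false (Nat.beq (Nat.mod N (Nat.add (Nat.mul e1 u) 1)) 0))
      true (Nat.beq u 1))
    (Nat.beq (Nat.mod u p) 1)

private noncomputable def chkDF (f : ℕ → Bool) (L : List (ℕ × ℕ)) : ℕ → Bool :=
  List.rec (motive := fun _ => ℕ → Bool) f (fun x _ r => loopF r x.1 x.2) L

private theorem chkDF_eq (f : ℕ → Bool) (L : List (ℕ × ℕ)) : chkDF f L = chkD f L := by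
  induction L with
  | nil => rfl
  | cons x L ih =>
    show loopF (chkDF f L) x.1 x.2 = loop (chkD f L) x.1 x.2
    rw [ih, loopF_eq]

private theorem chk_of {N p e : ℕ} {L : List (ℕ × ℕ)}
    (h : chkDF (chkUF N p (Nat.sub e 1) (Nat.sub p 1)) L 1 = true) : chkD (chkU N p e) L 1 = true := by
  have h1 : chkUF N p (Nat.sub e 1) (Nat.sub p 1) = chkU N p e := by
    funext u
    unfold chkUF chkU
    generalize Nat.beq u 1 = b1
    generalize Nat.beq (Nat.mod u p) 1 = b2
    generalize Nat.beq (Nat.mod u p) (Nat.sub p 1) = b3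
    generalize Nat.beq (Nat.mod N (Nat.add (Nat.mul (Nat.sub e 1) u) 1)) 0 = b4
    generalize Nat.beq (Nat.mod N (Nat.sub (Nat.mul (Nat.sub e 1) u) 1)) 0 = b5
    cases b1 <;> cases b2 <;> cases b3 <;> cases b4 <;> cases b5 <;> rfl
  rw [← h1, ← chkDF_eq]
  exact h

/-! ### The Conway groups -/

theorem five_Co1 {G : Type u} [Group G] [Finite G] (M : Subgroup G) (hM : M.Normal)
    (hc : Subgroup.centralizer (M : Set G) = ⊥) (h : Cfsg.Spor.IsoCo1 M) : 5 ≤ (Cfsg.charDegrees G).ncard := by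
  obtain ⟨e⟩ := h
  have hf := BpSpor.MBigCo.finite_co1
  have hs : IsSimpleGroup Spor.Co1 := Cfsg.Agent.S0399.result.1
  refine five_of_out M hM hc e Cfsg.Agent.S2069.result ?_
  have hself := self_of_one (K := Spor.Co1) (p := 23) (by norm_num) (by rw [BpSpor.MBigCo.card_co1]; norm_num)
    Cop.Conway.orderOf_s23 ((Cop.Conway.card_eq Cop.Conway.orderOf_s23 Cop.Conway.card_cent_s23).trans Cop.Conway.orderOf_s23)
  exact five_odd (N := 4157776806543360000) (p := 23) 11 (by norm_num) BpSpor.MBigCo.card_co1 hself (by norm_num)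
    (by norm_num) (by norm_num) (by norm_num) (by decide) (by norm_num)
    [(13, 1), (11, 1), (7, 2), (5, 4), (3, 9), (2, 21)] (by decide) (by norm_num) (chk_of (by decide +kernel))

theorem five_Co2 {G : Type u} [Group G] [Finite G] (M : Subgroup G) (hM : M.Normal)
    (hc : Subgroup.centralizer (M : Set G) = ⊥) (h : Cfsg.Spor.IsoCo2 M) : 5 ≤ (Cfsg.charDegrees G).ncard := by
  obtain ⟨e⟩ := h
  have hf := H49.CoStab.finite_co2
  have hs := H49.CoStab.simple_co2
  refine five_of_out M hM hc e Cfsg.Agent.S2070.result ?_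
  exact five_odd (N := 42305421312000) (p := 23) 11 (by norm_num) H49.CoStab.card_co2 Cop.Conway.self_co2 (by norm_num)
    (by norm_num) (by norm_num) (by norm_num) (by decide) (by norm_num)
    [(11, 1), (7, 1), (5, 3), (3, 6), (2, 18)] (by decide) (by norm_num) (chk_of (by decide +kernel))

theorem five_Co3 {G : Type u} [Group G] [Finite G] (M : Subgroup G) (hM : M.Normal)
    (hc : Subgroup.centralizer (M : Set G) = ⊥) (h : Cfsg.Spor.IsoCo3 M) : 5 ≤ (Cfsg.charDegrees G).ncard := by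
  obtain ⟨e⟩ := h
  have hf := H49.CoStab.finite_co3
  have hs := H49.CoStab.simple_co3
  refine five_of_out M hM hc e Cfsg.Agent.S2071.result ?_
  exact five_odd (N := 495766656000) (p := 23) 11 (by norm_num) H49.CoStab.card_co3 Cop.Conway.self_co3 (by norm_num)
    (by norm_num) (by norm_num) (by norm_num) (by decide) (by norm_num)
    [(11, 1), (7, 1), (5, 3), (3, 7), (2, 10)] (by decide) (by norm_num) (chk_of (by decide +kernel))

/-! ### `Fi23` -/

theorem five_Fi23 {G : Type u} [Group G] [Finite G] (M : Subgroup G) (hM : M.Normal)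
    (hc : Subgroup.centralizer (M : Set G) = ⊥) (h : Cfsg.Spor.IsoFi23 M) : 5 ≤ (Cfsg.charDegrees G).ncard := by
  have hcard : Nat.card Spor.Fi23 = 4089470473293004800 := NotCT.Orders.fi23 (K := Spor.Fi23) ⟨MulEquiv.refl _⟩
  obtain ⟨e⟩ := h
  have hf : Finite Spor.Fi23 := Nat.finite_of_card_ne_zero (by rw [hcard]; norm_num)
  have hs : IsSimpleGroup Spor.Fi23 := Cfsg.Agent.S1697.result.1
  refine five_of_out M hM hc e Cfsg.Agent.S2080.result ?_
  refine five_odd (N := 4089470473293004800) (p := 23) 11 (by norm_num) hcard (fun x hx => ?_) (by norm_num)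
    (by norm_num) (by norm_num) (by norm_num) (by decide) (by norm_num)
    [(17, 1), (13, 1), (11, 1), (7, 1), (5, 2), (3, 13), (2, 18)] (by decide) (by norm_num) (chk_of (by decide +kernel))
  obtain ⟨-, h2⟩ := H839.Fi23.twentythree_main (zpowers x) (by rw [Nat.card_zpowers, hx])
  rw [H729.PairBase.centralizer_zpowers_eq] at h2
  rw [h2, Nat.card_zpowers, hx]

/-! ### `J4` -/

theorem five_J4 {G : Type u} [Group G] [Finite G] (M : Subgroup G) (hM : M.Normal)
    (hc : Subgroup.centralizer (M : Set G) = ⊥) (h : Cfsg.Spor.IsoJ4 M) : 5 ≤ (Cfsg.charDegrees G).ncard := by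
  obtain ⟨e⟩ := h
  have hcard := H370.JElem.card_J4
  have hf := H370.JElem.finite_J4
  have hs := H370.JElem.simple_J4
  refine five_of_out M hM hc e Cfsg.Agent.S2068.result ?_
  obtain ⟨-, s, t, hs2, ht2, hst, -⟩ := Cfsg.Agent.J4Type.Final.isJ4_and_classes H370.JElem.isJ4
    (f := MonoidHom.id Spor.J4) Function.bijective_id
  refine five_two (N := 86775571046077562880) (p := 31) 10 (by norm_num) hcard (fun x hx => ?_) (by norm_num)
    (by norm_num) (by norm_num) (by norm_num) hs2 ht2 hst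
    [(43, 1), (37, 1), (29, 1), (23, 1), (11, 3), (7, 1), (5, 1), (3, 3), (2, 21)] (by decide) (by norm_num)
    (chk_of (by decide +kernel))
  have h1 := (H859.BigNum.data31 (P := zpowers x) (by rw [Nat.card_zpowers, hx])).1
  rwa [H729.PairBase.centralizer_zpowers_eq] at h1

/-! ### `Ru` -/

theorem five_Ru {G : Type u} [Group G] [Finite G] (M : Subgroup G) (hM : M.Normal)
    (hc : Subgroup.centralizer (M : Set G) = ⊥) (h : Cfsg.Spor.IsoRu M) : 5 ≤ (Cfsg.charDegrees G).ncard := by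
  obtain ⟨e⟩ := h
  let e' := Cfsg.Agent.RuLat.Main.equiv
  have hiso : Spor.IsoRu SporadicB.RuOrder.H := ⟨e'.symm⟩
  have hcard : Nat.card SporadicB.RuOrder.H = 145926144000 := NotCT.Orders.ru hiso
  have hf : Finite SporadicB.RuOrder.H := Nat.finite_of_card_ne_zero (by rw [hcard]; norm_num)
  have hs : IsSimpleGroup SporadicB.RuOrder.H := RuC.Trans.isSimple_of_isoRu hiso
  refine five_of_out M hM hc (e.trans e') (by rw [← H548.Crit.card_out_congr e']; exact Cfsg.Agent.S2077.result) ?_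
  obtain ⟨C, -⟩ := KFacts.Ru.exists_core hiso
  have hz : orderOf (C.z 1) = 2 := HoltZ.Crit.two_orderOf (C.z_sq _) (fun h => one_ne_zero (C.z_eq_one h))
  have ht : orderOf (OddHalf.Table.OutRu.f ^ 7) = 2 := by
    rw [orderOf_pow, OddHalf.Table.OutRu.orderOf_f]; rfl
  have ht7 : orderOf (OddHalf.Table.OutRu.f ^ 2) = 7 := by
    rw [orderOf_pow, OddHalf.Table.OutRu.orderOf_f]; rfl
  have hst : ¬ IsConj (C.z 1) (OddHalf.Table.OutRu.f ^ 7) := by
    intro hconj
    have h1 := SmallSimple.ClassDvd.card_centralizer_conj hconj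
    have h2 : OddHalf.Table.OutRu.f ^ 2 ∈ centralizer ({OddHalf.Table.OutRu.f ^ 7} : Set SporadicB.RuOrder.H) :=
      Inner.mem_cent.2 (by rw [← pow_add, ← pow_add])
    have h3 := Subgroup.orderOf_dvd_natCard _ h2
    rw [ht7] at h3
    rw [← h1, Ru127.Sg.card_cent C] at h3
    norm_num at h3
  have hx := OddHalf.Table.OutRu.orderOf_x
  have hself := self_of_one (K := SporadicB.RuOrder.H) (p := 29) (by norm_num) (by rw [hcard]; norm_num) hx (by
    have h1 : centralizer ({OddHalf.Table.OutRu.x} : Set SporadicB.RuOrder.H) = zpowers OddHalf.Table.OutRu.x := by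
      apply le_antisymm
      · intro c hc
        obtain ⟨i, rfl⟩ := OddHalf.Table.OutRu.cent_x' c (Inner.mem_cent.1 hc)
        exact pow_mem (mem_zpowers _) i
      · rw [zpowers_le]
        exact Inner.mem_cent.2 rfl
    rw [h1, Nat.card_zpowers, hx])
  exact five_two (N := 145926144000) (p := 29) 14 (by norm_num) hcard hself (by norm_num)
    (by norm_num) (by norm_num) (by norm_num) hz ht hst
    [(13, 1), (7, 1), (5, 3), (3, 3), (2, 14)] (by decide) (by norm_num) (chk_of (by decide +kernel))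

end Cfsg.Agent.H604.FD.Rows
end

private theorem dce_36d240a4d4ad : _root_.True := by
  try have : _root_.True := by simp only [_root_.Cfsg.charDegrees.eq_1]
  try have : _root_.True := by simp only [_root_.Cfsg.Agent.H145.U3Geo.Sit.HH.eq_1]
  try have : _root_.True := by simp only [_root_.Cfsg.Agent.H145.AlmostR1.avg.eq_1]
  try have : _root_.True := by simp only [_root_.Cfsg.Agent.H590.Five.HeWords.cj.eq_1]
  try have : _root_.True := by simp only [_root_.Cfsg.Agent.H145.SpTwo.T.eq_1]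
  try have : _root_.True := by simp only [_root_.Cfsg.Agent.H145.AlmostR1.avg.congr_simp]
  try have : _root_.True := by simp only [_root_.Cfsg.Agent.H590.Five.DegPair.homPair.congr_simp]
  exact _root_.True.intro
end

-- part: H590/Five/HN_mg
section
prune_inst 0xc0204051080002000004050200002085490001000020000070040804000633204000a1004480180018282200000000000000007000000000000004000001002080a850042300010404000f803083510000000000000000000000000000041004004010000
set_option linter.all false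
open scoped Cfsg.Agent.FastGrp

-- part: H590/Five/RelTools
section
/-!
# Consequences of the degree relation with few degrees congruent to `±1` (helper590)

* `Rel.not_none` : one of the degrees is congruent to `±1`;
* `Rel.le_of_one` : if only `d` is, then `d ≤ max(3, a + 2, b + 2)`;
* `memL`, `memL_spec` : membership in a list of pairs, for the checks.
-/

set_option autoImplicit false

namespace Cfsg.Agent.H590.Five

/-- membership in a list of pairs -/
def memL (L : List (ℕ × ℕ)) (u v : ℕ) : Bool := L.any fun x => Nat.beq x.1 u && Nat.beq x.2 v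

theorem memL_spec {L : List (ℕ × ℕ)} {u v : ℕ} (h : memL L u v = true) : (u, v) ∈ L := by
  unfold memL at h
  rw [List.any_eq_true] at h
  obtain ⟨x, hx, h⟩ := h
  rw [Bool.and_eq_true] at h
  have h1 := Nat.eq_of_beq_eq_true h.1
  have h2 := Nat.eq_of_beq_eq_true h.2
  rw [← h1, ← h2]
  exact hx

theorem mult_zero {p a n : ℕ} {s : ℤ} (hp : 2 < p) (hs : s = 1 ∨ s = -1) (h : n ≠ 0 → (p : ℤ) ∣ s * a - 1)
    (h1 : a % p ≠ 1) (h2 : a % p ≠ p - 1) : n = 0 := by
  by_contra h0
  have h3 := h h0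
  rcases hs with rfl | rfl
  · rw [one_mul] at h3
    exact h1 (mod_of_sub hp h3)
  · have h4 : (p : ℤ) ∣ (a : ℤ) + 1 := by
      have := dvd_neg.2 h3
      rwa [show -(-1 * (a : ℤ) - 1) = a + 1 by ring] at this
    exact h2 (mod_of_add hp h4)

theorem Rel.not_none {q e idx a b d : ℕ} (hq : 2 < q) (he : 2 ≤ e) (hidx : idx ≤ 2) (ha : a ≠ 2)
    (hb : b ≠ 2) (hd : d ≠ 2) (h : Rel q e idx a b d) (h1 : a % q ≠ 1) (h2 : a % q ≠ q - 1)
    (h3 : b % q ≠ 1) (h4 : b % q ≠ q - 1) (h5 : d % q ≠ 1) (h6 : d % q ≠ q - 1) : False := by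
  obtain ⟨n₁, na, nb, nc, sa, h88⟩ := h
  revert h88; rintro ⟨sb, sc, s, f, g1, h88⟩
  revert h88; rintro ⟨g2, -, g4, hsa, hsb, h88⟩
  revert h88; rintro ⟨hsc, hs, hna, hnb, hnc, h88⟩
  revert h88; rintro ⟨hf, hfe, heq⟩
  have k1 := mult_zero hq hsa hna h1 h2
  have k2 := mult_zero hq hsb hnb h3 h4
  have k3 := mult_zero hq hsc hnc h5 h6
  clear hsa hsb hsc hna hnb hnc hfe
  rw [k1, k2, k3] at heq g4
  have hn : n₁ = 2 := by
    clear heq hf
    omega
  rw [hn] at heq
  have h7 : (2 : ℤ) + s * f = 0 := by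
    push_cast at heq
    linarith only [heq]
  have h8 : f = 2 := by rcases hs with hs | hs <;> rw [hs] at h7 <;> omega
  rcases hf with hf | hf | hf | hf <;> (clear * - h8 hf ha hb hd; omega)

/-- Only `d` is congruent to `±1`. -/
theorem Rel.le_of_one {q e idx a b d : ℕ} (hq : 2 < q) (he : 2 ≤ e) (hidx : idx ≤ 2) (ha : a ≠ 2)
    (hb : b ≠ 2) (hd : 3 ≤ d) (h : Rel q e idx a b d)
    (h1 : a % q ≠ 1) (h2 : a % q ≠ q - 1) (h3 : b % q ≠ 1) (h4 : b % q ≠ q - 1) :
    d ≤ 3 ∨ d ≤ a + 2 ∨ d ≤ b + 2 := by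
  obtain ⟨n₁, na, nb, nc, sa, h88⟩ := h
  revert h88; rintro ⟨sb, sc, s, f, g1, h88⟩
  revert h88; rintro ⟨g2, -, g4, hsa, hsb, h88⟩
  revert h88; rintro ⟨hsc, hs, hna, hnb, hnc, h88⟩
  revert h88; rintro ⟨hf, hfe, heq⟩
  have k1 := mult_zero hq hsa hna h1 h2
  have k2 := mult_zero hq hsb hnb h3 h4
  clear hsa hsb hna hnb hnc hfe h1 h2 h3 h4 hq
  rw [k1, k2] at heq g4
  have h5 : (n₁ : ℤ) + sc * nc * d + s * f = 0 := by
    push_cast at heq
    linarith only [heq]
  clear heq k1 k2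
  have hn1 : n₁ ≤ 2 := g2.trans hidx
  by_cases h0 : nc = 0
  · rw [h0] at h5 g4
    have hn : n₁ = 2 := by
      clear h5 hf
      omega
    rw [hn] at h5
    have h7 : (2 : ℤ) + s * f = 0 := by
      push_cast at h5
      linarith only [h5]
    have h8 : f = 2 := by rcases hs with hs | hs <;> rw [hs] at h7 <;> omega
    rcases hf with hf | hf | hf | hf <;> omega
  obtain ⟨k, rfl⟩ : ∃ k, nc = k + 1 := ⟨nc - 1, by omega⟩
  have h6 : ((k + 1 : ℕ) : ℤ) * d = k * d + d := by push_cast; ring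
  have h7 : (0 : ℤ) ≤ k * d := by (clear * - hd; positivity)
  have h9 : (n₁ : ℤ) + sc * (k * d + d) + s * f = 0 := by
    rw [← h6, ← mul_assoc]
    exact h5
  have h10 : (k : ℤ) * d = 0 ∨ (d : ℤ) ≤ k * d := by
    rcases k with _ | k
    · left; simp
    · right
      have h11 : (1 : ℤ) ≤ ((k + 1 : ℕ) : ℤ) := by push_cast; omega
      have h12 : (0 : ℤ) ≤ d := by positivity
      nlinarith only [h11]
  obtain ⟨w, hw⟩ : ∃ w : ℤ, w = k * d := ⟨_, rfl⟩
  rw [← hw] at h7 h9 h10
  clear hw h5 h6 g4 h0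
  rcases hf with hf | hf | hf | hf
  · left
    rw [hf] at h9
    rcases hsc with hsc | hsc <;> rcases hs with hs | hs <;> rw [hsc, hs] at h9 <;> (clear * - g1 hn1 h9 h7; omega)
  · right; left
    rw [hf] at h9
    rcases hsc with hsc | hsc <;> rcases hs with hs | hs <;> rw [hsc, hs] at h9 <;> (clear * - hd g1 hn1 h9 h7 hf; omega)
  · right; right
    rw [hf] at h9
    rcases hsc with hsc | hsc <;> rcases hs with hs | hs <;> rw [hsc, hs] at h9 <;> omega
  · exfalso
    rw [hf] at h9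
    rcases hsc with hsc | hsc <;> rcases hs with hs | hs <;> rw [hsc, hs] at h9 <;> (clear * - hd g1 hn1 h9 h7 hf h10; omega)

end Cfsg.Agent.H590.Five
end

-- part: H590/Five/Tools
section
/-!
# Common tools for the rows (helper590)

* `card_dvd`, `card_eq` : the order of `G`;
* `exists_sylow_card` : a Sylow subgroup of prime order;
* `pairs` : the pairs of degrees prime to `p`;
* `relq` : the relation for another prime `q`.
-/

set_option autoImplicit false

namespace Cfsg.Agent.H590.Five.Tools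

open Cfsg Cfsg.Agent.H590.Five Cfsg.Agent.H590.Five.Setup
open Cfsg.Agent.H665.NoPQ
open Cfsg.Agent.H604.FD.Inner (chkD chkD_spec)

universe u v

theorem exists_dvd_of_hasDZ {K : Type v} [Group K] [Finite K] {p : ℕ} (hp : p.Prime) (h : HasDZ p K)
    (hd : p ∣ Nat.card K) : ∃ d ∈ charDegrees K, p ∣ d := by
  obtain ⟨χ, hχ⟩ := h
  refine ⟨_, ⟨χ, rfl⟩, ?_⟩
  refine Nat.dvd_of_factorization_pos ?_
  rw [hχ]
  have := (hp.dvd_iff_one_le_factorization Nat.card_pos.ne').1 hd
  omega

variable {G : Type u} [Group G] [Finite G] {M : Subgroup G}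

omit [Finite G] in
theorem card_eq {n₀ : ℕ} (hM : Nat.card M = n₀) : Nat.card G = n₀ * M.index := by
  rw [← M.card_mul_index, hM]

omit [Finite G] in
theorem card_dvd (c : Ctx M) {n₀ : ℕ} (hM : Nat.card M = n₀) : Nat.card G ∣ 2 * n₀ := by
  rw [card_eq hM, mul_comm 2]
  exact Nat.mul_dvd_mul_left _ c.idx

theorem exists_sylow_card (c : Ctx M) {n₀ p : ℕ} [hp : Fact p.Prime] (hM : Nat.card M = n₀) (hd : p ∣ n₀)
    (hsq : ¬ p ^ 2 ∣ 2 * n₀) : ∃ P : Sylow p G, Nat.card (P : Subgroup G) = p := by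
  have h1 : p ∣ Nat.card G := by
    rw [card_eq hM]
    exact Dvd.dvd.mul_right hd _
  obtain ⟨x, hx⟩ := exists_prime_orderOf_dvd_card' (G := G) p h1
  obtain ⟨P, hP⟩ := exists_sylow hx fun h => hsq (h.trans (card_dvd c hM))
  exact ⟨P, by rw [hP, Nat.card_zpowers, hx]⟩

/-- The pairs of degrees prime to `p`. -/
theorem pairs (c : Ctx M) {K : Type v} [Group K] [Finite K] (e : M ≃* K) {n₀ p : ℕ} (hK : Nat.card K = n₀)
    (hp : p.Prime) (hp5 : 5 ≤ p) (hpd : p ∣ n₀) (hsq : ¬ p ^ 2 ∣ 2 * n₀) (hlt : p < n₀)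
    (h5 : (charDegrees G).ncard < 5) (hdz : ∃ d ∈ charDegrees K, p ∣ d) (es : List ℕ)
    (hes : ((Nat.divisors (p - 1)).filter fun e => 2 ≤ e ∧ e < p - 1) ⊆ es.toFinset)
    {Q : ℕ → ℕ → Bool} {L : List (ℕ × ℕ)} (hL : ∀ x ∈ L, x.1.Prime)
    (hprod : 2 * n₀ = p * (L.map fun x => x.1 ^ x.2).prod)
    (hchk : chkD (chkForm (2 * n₀) p es [1, 2] true Q) L 1 = true) :
    ∃ a b d : ℕ, charDegrees G ⊆ {1, a, b, d} ∧ a ≠ b ∧ p ∣ d ∧ a ∈ charDegrees G ∧ b ∈ charDegrees G ∧
      d ∈ charDegrees G ∧ a ≠ 1 ∧ b ≠ 1 ∧ a ≠ 2 ∧ b ≠ 2 ∧ ¬ p ∣ a ∧ ¬ p ∣ b ∧ Q a b = true := by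
  have : Fact p.Prime := ⟨hp⟩
  have hMc : Nat.card M = n₀ := by rw [Nat.card_congr e.toEquiv, hK]
  obtain ⟨P, hP⟩ := exists_sylow_card c hMc hpd hsq
  have hi0 : M.index ≠ 0 := Subgroup.index_ne_zero_of_finite
  obtain ⟨hep, a, b, d, h1, h2, h3, h4, h5', h6, h7, h8, h9, h10, hF⟩ := main c hp5 (card_eq hMc)
    (lt_of_lt_of_le hlt (Nat.le_mul_of_pos_right _ (Nat.pos_of_ne_zero hi0))) h5 (c.exists_dvd e hdz) P hP rfl
  have hG := card_dvd c hMc
  have hQ := form_spec (N := 2 * n₀) (p := p) (idx := M.index) hp (by omega) hL hprod hchk (by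
      intro n hn1 hn2
      have := c.idx_le
      have : n = 1 ∨ n = 2 := by omega
      rcases this with rfl | rfl <;> simp) (e := _) (by
      rcases hF with ⟨g1, g2, -⟩ | ⟨g1, -⟩
      · right
        refine ⟨g2, List.mem_toFinset.1 (hes ?_)⟩
        rw [Finset.mem_filter, Nat.mem_divisors]
        exact ⟨⟨hep, by omega⟩, g1, g2⟩
      · exact Or.inl ⟨g1, rfl⟩) ((Cfsg.Agent.H424.DegTools.dvd_card h4).trans hG)
      ((Cfsg.Agent.H424.DegTools.dvd_card h5').trans hG) hF
  have hab : ¬ p ∣ a ∧ ¬ p ∣ b := by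
    rcases hF with ⟨g1, g2, n, -, -, g3, hs⟩ | ⟨-, n, x, y, -, -, -, -, -, g1, g2, -⟩
    · exact ⟨hs.not_dvd_left (by omega), hs.not_dvd_right (by omega) g2 g3⟩
    · refine ⟨fun h => ?_, fun h => ?_⟩
      · have := Nat.mod_eq_zero_of_dvd h
        omega
      · have := Nat.mod_eq_zero_of_dvd h
        omega
  exact ⟨a, b, d, h1, h2, h3, h4, h5', h6, h7, h8, h9, h10, hab.1, hab.2, hQ⟩

/-- The relation for another prime. -/
theorem relq (c : Ctx M) {n₀ q : ℕ} (hM : Nat.card M = n₀) (hq : q.Prime) (hq2 : q ≠ 2) (hd : q ∣ n₀)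
    (hsq : ¬ q ^ 2 ∣ 2 * n₀) (hlt : q < n₀) : ∃ e, 2 ≤ e ∧ e ∣ q - 1 ∧ ∀ a b d : ℕ,
      charDegrees G ⊆ {1, a, b, d} → a ≠ 1 → b ≠ 1 → d ≠ 1 → a ≠ b → a ≠ d → b ≠ d → Rel q e M.index a b d := by
  have : Fact q.Prime := ⟨hq⟩
  obtain ⟨P, hP⟩ := exists_sylow_card c hM hd hsq
  have hi0 : M.index ≠ 0 := Subgroup.index_ne_zero_of_finite
  have hcard : ¬ Nat.card G ∣ q := fun h => by
    have h1 := Nat.le_of_dvd hq.pos h
    rw [card_eq hM] at h1
    have h2 : n₀ ≤ n₀ * M.index := Nat.le_mul_of_pos_right _ (Nat.pos_of_ne_zero hi0)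
    omega
  exact ⟨_, c.rel hq2 P hP hcard rfl⟩

end Cfsg.Agent.H590.Five.Tools
end

-- part: H590/Five/Cand
section
/-!
# The third degree from the relation for another prime (helper590)

`chkR_spec` : if `chkR q a b es ns P = true` (a finite computation) then `Rel q e idx a b d` implies `P d = true`.
-/

set_option autoImplicit false

namespace Cfsg.Agent.H590.Five.Cand

open Cfsg.Agent.H590.Five

/-- the absolute value of the difference -/
def ad (x y : ℕ) : ℕ := (x - y) + (y - x)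

/-- `k * d = |pos - neg|` -/
def tst (P : ℕ → Bool) (k pos neg : ℕ) : Bool :=
  cond (Nat.beq k 0) (!(Nat.beq pos neg))
    (cond (Nat.beq (Nat.mod (ad pos neg) k) 0) (P (Nat.div (ad pos neg) k)) true)

theorem tst_spec {P : ℕ → Bool} {k pos neg d : ℕ} {t : ℤ} (h : tst P k pos neg = true) (ht : t = 1 ∨ t = -1)
    (he : (pos : ℤ) - neg = t * (k * d)) : P d = true := by
  unfold tst at h
  rcases Nat.eq_zero_or_pos k with rfl | hk
  · exfalso
    have h1 : pos = neg := by
      have : (pos : ℤ) - neg = 0 := by rw [he]; simp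
      omega
    rw [h1, show Nat.beq 0 0 = true from rfl, Nat.beq_refl] at h
    exact Bool.noConfusion h
  · obtain ⟨w, hw⟩ : ∃ w : ℕ, w = k * d := ⟨_, rfl⟩
    have h2 : ad pos neg = k * d := by
      have h3 : (pos : ℤ) - neg = t * w := by
        rw [he, hw]
        push_cast
        ring
      rw [← hw]
      unfold ad
      rcases ht with rfl | rfl <;> omega
    rw [h2, beq_false hk.ne', show Nat.beq (Nat.mod (k * d) k) 0 = true from beq_of (Nat.mul_mod_right k d),
      show Nat.div (k * d) k = d from Nat.mul_div_cancel_left d hk] at h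
    exact h

/-- the test for the exceptional degree `f` -/
def tf (P : ℕ → Bool) (q e nd pos neg f : ℕ) : Bool :=
  (cond (Nat.beq (Nat.mod (Nat.add f e) q) 0) (tst P nd (Nat.add pos f) neg) true) &&
    (cond (Nat.beq (Nat.mod f q) (Nat.mod e q)) (tst P nd pos (Nat.add neg f)) true)

/-- all tests for given multiplicities -/
def inner (P : ℕ → Bool) (q e a b nd pos neg : ℕ) : Bool :=
  tst P (nd + 1) pos neg && cond (Nat.beq nd 0) true (tst P (nd - 1) pos neg) &&
    (tf P q e nd pos neg 1 && tf P q e nd pos neg a && tf P q e nd pos neg b)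

/-- adding `± na * a` -/
def addT (q a na pos neg : ℕ) (k : ℕ → ℕ → Bool) : Bool :=
  cond (Nat.beq na 0) (k pos neg) (cond (Nat.beq (Nat.mod a q) 1) (k (pos + na * a) neg)
    (cond (Nat.beq (Nat.mod a q) (Nat.sub q 1)) (k pos (neg + na * a)) true))

theorem tf_spec {P : ℕ → Bool} {q e nd pos neg f d : ℕ} {s sd : ℤ} (h : tf P q e nd pos neg f = true)
    (hs : s = 1 ∨ s = -1) (hsd : sd = 1 ∨ sd = -1) (hfe : (q : ℤ) ∣ f + e * s)
    (he : (pos : ℤ) - neg + sd * nd * d + s * f = 0) : P d = true := by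
  unfold tf at h
  rw [Bool.and_eq_true] at h
  rcases hs with rfl | rfl
  · have h1 : q ∣ f + e := by
      rw [mul_one] at hfe
      exact_mod_cast hfe
    have h2 := h.1
    rw [show Nat.beq (Nat.mod (Nat.add f e) q) 0 = true from beq_of (Nat.mod_eq_zero_of_dvd h1)] at h2
    rcases hsd with rfl | rfl
    · refine tst_spec h2 (t := -1) (Or.inr rfl) ?_
      show ((pos + f : ℕ) : ℤ) - neg = _
      push_cast
      linarith
    · refine tst_spec h2 (t := 1) (Or.inl rfl) ?_
      show ((pos + f : ℕ) : ℤ) - neg = _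
      push_cast
      linarith
  · have h1 : f % q = e % q := by
      rw [mul_neg, mul_one, ← sub_eq_add_neg] at hfe
      exact ((Int.natCast_modEq_iff).1 ((Int.modEq_iff_dvd).2 hfe)).symm
    have h2 := h.2
    rw [show Nat.beq (Nat.mod f q) (Nat.mod e q) = true from beq_of h1] at h2
    rcases hsd with rfl | rfl
    · refine tst_spec h2 (t := -1) (Or.inr rfl) ?_
      show (pos : ℤ) - ((neg + f : ℕ) : ℤ) = _
      push_cast
      linarith only [he]
    · refine tst_spec h2 (t := 1) (Or.inl rfl) ?_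
      show (pos : ℤ) - ((neg + f : ℕ) : ℤ) = _
      push_cast
      linarith only [he]

theorem inner_spec {P : ℕ → Bool} {q e a b nd pos neg f d : ℕ} {s sd : ℤ} (h : inner P q e a b nd pos neg = true)
    (hs : s = 1 ∨ s = -1) (hsd : sd = 1 ∨ sd = -1) (hfe : (q : ℤ) ∣ f + e * s)
    (hf : f = 1 ∨ f = a ∨ f = b ∨ f = d)
    (he : (pos : ℤ) - neg + sd * nd * d + s * f = 0) : P d = true := by
  unfold inner at h
  simp only [Bool.and_eq_true] at h
  obtain ⟨⟨h1, h2⟩, ⟨h3, h4⟩, h5⟩ := h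
  rcases hf with rfl | rfl | rfl | rfl
  · exact tf_spec h3 hs hsd hfe he
  · exact tf_spec h4 hs hsd hfe he
  · exact tf_spec h5 hs hsd hfe he
  · -- `f = d`
    by_cases hss : s = sd
    · subst hss
      refine tst_spec h1 (t := -s) (by rcases hs with rfl | rfl <;> simp) ?_
      push_cast
      linear_combination he
    · have hsd' : sd = -s := by
        rcases hs with rfl | rfl <;> rcases hsd with rfl | rfl <;> first | rfl | exact absurd rfl hss
      subst hsd'
      by_cases h0 : nd = 0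
      · subst h0
        refine tst_spec h1 (t := -s) (by rcases hs with rfl | rfl <;> simp) ?_
        push_cast
        push_cast at he
        linear_combination he
      · rw [beq_false h0] at h2
        obtain ⟨k, rfl⟩ : ∃ k, nd = k + 1 := ⟨nd - 1, by omega⟩
        refine tst_spec h2 (t := s) hs ?_
        rw [Nat.add_sub_cancel]
        push_cast at he
        linear_combination he

theorem addT_spec {q a na pos neg : ℕ} {k : ℕ → ℕ → Bool} {sa : ℤ} (hq : 2 < q) (h : addT q a na pos neg k = true)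
    (hsa : sa = 1 ∨ sa = -1) (ha : na ≠ 0 → (q : ℤ) ∣ sa * a - 1) :
    ∃ pos' neg' : ℕ, k pos' neg' = true ∧ (pos' : ℤ) - neg' = pos - neg + sa * na * a := by
  unfold addT at h
  by_cases h0 : na = 0
  · subst h0
    exact ⟨pos, neg, h, by push_cast; ring⟩
  rw [beq_false h0] at h
  have h1 := ha h0
  rcases hsa with rfl | rfl
  · rw [one_mul] at h1
    have h2 := mod_of_sub hq h1
    rw [show Nat.beq (Nat.mod a q) 1 = true from beq_of h2] at h
    exact ⟨_, _, h, by push_cast; ring⟩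
  · have h2 : (q : ℤ) ∣ (a : ℤ) + 1 := by
      have := dvd_neg.2 h1
      rwa [show -(-1 * (a : ℤ) - 1) = a + 1 by ring] at this
    have h3 := mod_of_add hq h2
    rw [show Nat.beq (Nat.mod a q) 1 = false from beq_false (show a % q ≠ 1 by omega),
      show Nat.beq (Nat.mod a q) (Nat.sub q 1) = true from beq_of h3] at h
    exact ⟨_, _, h, by push_cast; ring⟩

/-- the check -/
def chkR (q a b : ℕ) (es ns : List ℕ) (P : ℕ → Bool) : Bool :=
  es.all fun e => ns.all fun n₁ => (List.range (e + 1)).all fun na => (List.range (e + 1)).all fun nb =>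
    cond (Nat.ble (n₁ + na + nb) e)
      (addT q a na n₁ 0 fun pos neg => addT q b nb pos neg fun pos neg =>
        inner P q e a b (e - (n₁ + na + nb)) pos neg) true

theorem chkR_spec {q e idx a b d : ℕ} {es ns : List ℕ} {P : ℕ → Bool} (hq : 2 < q) (h : chkR q a b es ns P = true)
    (he : e ∈ es) (hns : ∀ n, 1 ≤ n → n ≤ idx → n ∈ ns) (hR : Rel q e idx a b d) : P d = true := by
  obtain ⟨n₁, na, nb, nc, sa, h88⟩ := hR
  revert h88; rintro ⟨sb, sc, s, f, g1, h88⟩
  revert h88; rintro ⟨g2, -, g4, hsa, hsb, h88⟩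
  revert h88; rintro ⟨hsc, hs, hna, hnb, hnc, h88⟩
  revert h88; rintro ⟨hf, hfe, heq⟩
  unfold chkR at h
  have h1 := List.all_eq_true.1 (List.all_eq_true.1 (List.all_eq_true.1 (List.all_eq_true.1 h e he) n₁ (hns _ g1 g2)) na
    (List.mem_range.2 (by omega))) nb (List.mem_range.2 (by omega))
  rw [show Nat.ble (n₁ + na + nb) e = true from Nat.ble_eq_true_of_le (by omega), cond_true] at h1
  obtain ⟨p1, q1, h2, h3⟩ := addT_spec hq h1 hsa hna
  obtain ⟨p2, q2, h4, h5⟩ := addT_spec hq h2 hsb hnb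
  have h6 : e - (n₁ + na + nb) = nc := by omega
  rw [h6] at h4
  refine inner_spec h4 hs hsc hfe hf ?_
  rw [h5, h3]
  push_cast
  linear_combination heq

end Cfsg.Agent.H590.Five.Cand
end

-- part: H590/Five/ClassBound
section
/-!
# A bound for the class number and for the largest degree (helper590)

* `card_conjClasses_le` : `k(G) ≤ |G|_{2'} + |C(s)| + |C(t)|` if every involution is conjugate to `s` or `t`;
* `card_le_of_degrees` : `|G| ≤ B² k(G)` if all degrees are at most `B`.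
-/

set_option autoImplicit false

namespace Cfsg.Agent.H590.Five.ClassBound

open Cfsg Cfsg.Agent.Characters.Core

variable {G : Type*} [Group G] [Finite G]

theorem even_class {s t : G} (h : ∀ u : G, orderOf u = 2 → IsConj u s ∨ IsConj u t) {g : G} (hg : 2 ∣ orderOf g) :
    (∃ x ∈ Subgroup.centralizer ({s} : Set G), ConjClasses.mk x = ConjClasses.mk g) ∨
      (∃ x ∈ Subgroup.centralizer ({t} : Set G), ConjClasses.mk x = ConjClasses.mk g) := by
  obtain ⟨k, hk⟩ := hg
  have h0 : orderOf g ≠ 0 := (orderOf_pos g).ne'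
  have hk0 : k ≠ 0 := by rintro rfl; exact h0 (by rw [hk, mul_zero])
  have hu : orderOf (g ^ k) = 2 := by
    rw [orderOf_pow_of_dvd hk0 ⟨2, by rw [hk, mul_comm]⟩, hk, Nat.mul_div_cancel _ (Nat.pos_of_ne_zero hk0)]
  have key : ∀ r : G, IsConj (g ^ k) r → ∃ x ∈ Subgroup.centralizer ({r} : Set G),
      ConjClasses.mk x = ConjClasses.mk g := by
    intro r hr
    obtain ⟨c, hc⟩ := isConj_iff.1 hr
    refine ⟨c * g * c⁻¹, ?_, ?_⟩
    · rw [Subgroup.mem_centralizer_singleton_iff, ← hc]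
      have : c * g ^ k * c⁻¹ = (c * g * c⁻¹) ^ k := (conj_pow).symm
      rw [this]
      exact ((Commute.refl (c * g * c⁻¹)).pow_right k).eq
    · exact ConjClasses.mk_eq_mk_iff_isConj.2 (isConj_iff.2 ⟨c⁻¹, by group⟩)
  rcases h _ hu with h1 | h1
  · exact Or.inl (key s h1)
  · exact Or.inr (key t h1)

theorem card_conjClasses_le {s t : G} (h : ∀ u : G, orderOf u = 2 → IsConj u s ∨ IsConj u t) {n m : ℕ}
    (hG : Nat.card G = 2 ^ n * m) (hm : ¬ 2 ∣ m) :
    Nat.card (ConjClasses G) ≤ m + Nat.card (Subgroup.centralizer ({s} : Set G)) +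
      Nat.card (Subgroup.centralizer ({t} : Set G)) := by
  classical
  let A := {C : ConjClasses G // ∀ q : ℕ, q.Prime → (∃ g : G, ConjClasses.mk g = C ∧ q ∣ orderOf g) →
    q ∈ {q : ℕ | q.Prime ∧ q ≠ 2}}
  have hA : Nat.card A ≤ m := by
    refine Cfsg.Agent.S4106.result {q : ℕ | q.Prime ∧ q ≠ 2} (fun q hq => hq.1) m (hG ▸ dvd_mul_left m _) ?_ ?_
    · intro q hq hqm
      refine ⟨hq, ?_⟩
      rintro rfl
      exact hm hqm
    · rintro q ⟨hq, hq2⟩ hd
      have hm0 : 0 < m := Nat.pos_of_ne_zero (by rintro rfl; exact hm (dvd_zero 2))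
      rw [hG, Nat.mul_div_cancel _ hm0] at hd
      exact hq2 ((Nat.prime_dvd_prime_iff_eq hq Nat.prime_two).1 (hq.dvd_of_dvd_pow hd))
  let f : A ⊕ (Subgroup.centralizer ({s} : Set G) ⊕ Subgroup.centralizer ({t} : Set G)) → ConjClasses G :=
    Sum.elim (fun a => a.1) (Sum.elim (fun x => ConjClasses.mk (x : G)) (fun x => ConjClasses.mk (x : G)))
  have hf : Function.Surjective f := by
    intro C
    by_cases hC : ∀ q : ℕ, q.Prime → (∃ g : G, ConjClasses.mk g = C ∧ q ∣ orderOf g) →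
      q ∈ {q : ℕ | q.Prime ∧ q ≠ 2}
    · exact ⟨Sum.inl ⟨C, hC⟩, rfl⟩
    · push Not at hC
      obtain ⟨q, hq, ⟨g, rfl, hg⟩, hq2⟩ := hC
      have hq2' : q = 2 := by
        by_contra hne
        exact hq2 ⟨hq, hne⟩
      subst hq2'
      rcases even_class h hg with ⟨x, hx, he⟩ | ⟨x, hx, he⟩
      · exact ⟨Sum.inr (Sum.inl ⟨x, hx⟩), he⟩
      · exact ⟨Sum.inr (Sum.inr ⟨x, hx⟩), he⟩
  have h1 := Nat.card_le_card_of_surjective f hf
  rw [Nat.card_sum, Nat.card_sum] at h1
  omega

theorem card_le_of_degrees {B : ℕ} (h : ∀ d ∈ charDegrees G, d ≤ B) :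
    Nat.card G ≤ B ^ 2 * Nat.card (ConjClasses G) := by
  classical
  have := finite_irr (G := G)
  have := Fintype.ofFinite (IrrCharacter G)
  rw [← Cfsg.Agent.H686.CharKit.sum_deg_sq, ← card_irr, Nat.card_eq_fintype_card, mul_comm, ← smul_eq_mul,
    ← Finset.card_univ, ← Finset.sum_const]
  exact Finset.sum_le_sum fun χ _ => Nat.pow_le_pow_left (h _ ⟨χ, rfl⟩) 2

end Cfsg.Agent.H590.Five.ClassBound
end

-- part: H590/Five/HN
section
/-!
# Five character degrees: almost simple groups with socle the Harada-Norton group (helper590, for S4898)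

The degrees prime to 19 and the relations for 11 and 7 leave the degrees `20`, `21`, `d ≤ 57`, which are too small for
the class number.
-/

set_option autoImplicit false

namespace Cfsg.Agent.H590.Five.HNRow

open Cfsg Cfsg.Agent.H590.Five Cfsg.Agent.H590.Five.Tools Cfsg.Agent.H590.Five.Cand
open Cfsg.Agent.H604.FD.Inner (chkD chkD_spec)

universe u

def L19 : List (ℕ × ℕ) := [(1, 2), (1, 3), (1, 6), (1, 9), (1, 18), (18, 16), (18, 35), (18, 70), (20, 18), (20, 21),
  (20, 22), (56, 54), (56, 55), (77, 360), (1008, 550)]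

theorem chk19 : chkD (chkForm (2 * 273030912000000) 19 [2, 3, 6, 9] [1, 2] true (memL L19))
    [(2, 15), (3, 6), (5, 6), (7, 1), (11, 1)] 1 = true := by decide +kernel

/-- the degrees `20`, `21`, `d ≤ 57` survive -/
def P (a b d : ℕ) : Bool :=
  cond (Nat.beq (Nat.mod d 19) 0) (cond (Nat.beq (Nat.mod (2 * 273030912000000) d) 0)
    (Nat.beq a 20 && Nat.beq b 21 && Nat.ble d 57) true) true

theorem chk : (L19.all fun x => Nat.beq x.1 1 || (chkR 11 x.1 x.2 [2, 5, 10] [1, 2] (P x.1 x.2) ||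
    chkR 7 x.1 x.2 [2, 3, 6] [1, 2] (P x.1 x.2))) = true := by decide +kernel

theorem P_spec {a b d : ℕ} (h : P a b d = true) (h1 : 19 ∣ d) (h2 : d ∣ 2 * 273030912000000) :
    a = 20 ∧ b = 21 ∧ d ≤ 57 := by
  unfold P at h
  rw [show Nat.beq (Nat.mod d 19) 0 = true from beq_of (Nat.mod_eq_zero_of_dvd h1),
    show Nat.beq (Nat.mod (2 * 273030912000000) d) 0 = true from beq_of (Nat.mod_eq_zero_of_dvd h2)] at h
  simp only [cond_true, Bool.and_eq_true, Nat.ble_eq] at h
  exact ⟨Nat.eq_of_beq_eq_true h.1.1, Nat.eq_of_beq_eq_true h.1.2, h.2⟩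

theorem mem10 : ∀ e ∈ Nat.divisors 10, 2 ≤ e → e ∈ [2, 5, 10] := by decide +kernel

theorem mem6 : ∀ e ∈ Nat.divisors 6, 2 ≤ e → e ∈ [2, 3, 6] := by decide +kernel

theorem five_HN {G : Type u} [Group G] [Finite G] (M : Subgroup G) (hM : M.Normal)
    (hc : Subgroup.centralizer (M : Set G) = ⊥) (h : Cfsg.Spor.IsoHN M) : 5 ≤ (Cfsg.charDegrees G).ncard := by
  obtain ⟨e⟩ := h
  have hK : Nat.card Cfsg.Spor.HN = 273030912000000 := Cfsg.Agent.H710.Spor.HN.card_hn
  have : Finite Cfsg.Spor.HN := Cfsg.Agent.H710.Spor.HN.finite_hn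
  have hs : IsSimpleGroup Cfsg.Spor.HN := Cfsg.Agent.H710.Spor.HN.isSimple_hn
  have c : Setup.Ctx M := Setup.Ctx.of_iso hs e hM hc Cfsg.Agent.S2082.result (by rw [hK]; norm_num)
  have hMc : Nat.card M = 273030912000000 := by rw [Nat.card_congr e.toEquiv, hK]
  by_contra hcon
  rw [not_le] at hcon
  obtain ⟨a, b, d, hcd, hab, hpd, ha, hb, hd, ha1, hb1, ha2, hb2, hpa, hpb, hQ⟩ := pairs c e hK (p := 19)
    (by norm_num) (by norm_num) (by norm_num) (by norm_num) (by norm_num) hcon
    (exists_dvd_of_hasDZ (by norm_num) Cfsg.Agent.H710.Spor.HN.hasDZ_19 (by rw [hK]; norm_num)) [2, 3, 6, 9]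
    (by decide +kernel) (by decide) (by norm_num) chk19
  have hx := memL_spec hQ
  have hd1 : d ≠ 1 := by rintro rfl; norm_num at hpd
  have had : a ≠ d := by rintro rfl; exact hpa hpd
  have hbd : b ≠ d := by rintro rfl; exact hpb hpd
  have hdG := (Cfsg.Agent.H424.DegTools.dvd_card hd).trans (card_dvd c hMc)
  have hidx := c.idx_le
  have hns : ∀ n, 1 ≤ n → n ≤ M.index → n ∈ [1, 2] := by
    intro n h1 h2
    have : n = 1 ∨ n = 2 := by omega
    rcases this with rfl | rfl <;> simp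
  obtain ⟨e7, he7, he7', hR7⟩ := relq c hMc (q := 7) (by norm_num) (by norm_num) (by norm_num) (by norm_num)
    (by norm_num)
  obtain ⟨e11, he11, he11', hR11⟩ := relq c hMc (q := 11) (by norm_num) (by norm_num) (by norm_num) (by norm_num)
    (by norm_num)
  have hR7 := hR7 a b d hcd ha1 hb1 hd1 hab had hbd
  have hR11 := hR11 a b d hcd ha1 hb1 hd1 hab had hbd
  have h1 := List.all_eq_true.1 chk _ hx
  simp only [Bool.or_eq_true] at h1
  have hP : P a b d = true := by
    rcases h1 with h1 | h1 | h1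
    · exact absurd (Nat.eq_of_beq_eq_true h1) ha1
    · exact chkR_spec (by norm_num) h1 (mem10 _ (Nat.mem_divisors.2 ⟨he11', by norm_num⟩) he11) hns hR11
    · exact chkR_spec (by norm_num) h1 (mem6 _ (Nat.mem_divisors.2 ⟨he7', by norm_num⟩) he7) hns hR7
  obtain ⟨rfl, rfl, hd57⟩ := P_spec hP hpd hdG
  -- all degrees of `M` are at most `57`
  have hle : ∀ t ∈ charDegrees G, t ≤ 57 := by
    intro t ht
    have := hcd ht
    simp only [Set.mem_insert_iff, Set.mem_singleton_iff] at this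
    omega
  have hleK : ∀ t ∈ charDegrees Cfsg.Spor.HN, t ≤ 57 := by
    intro t ht
    rw [← Cfsg.Agent.H424.DegTools.charDegrees_congr e] at ht
    rcases c.exists_deg ht with h2 | h2
    · exact hle _ h2
    · have := hle _ h2
      omega
  have h2 := ClassBound.card_le_of_degrees hleK
  have h3 := ClassBound.card_conjClasses_le (G := Cfsg.Spor.HN) (fun u hu =>
    (Cfsg.Agent.SigZeroHN.card_centralizer_cases hu).imp And.left And.left) (n := 14) (m := 16664484375)
    (by rw [hK]; norm_num) (by norm_num)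
  rw [Cfsg.Agent.KFacts.HN.Classes.card_centralizer_τ, Cfsg.Agent.KFacts.HN.PCard.card_centralizer] at h3
  rw [hK] at h2
  omega

end Cfsg.Agent.H590.Five.HNRow
end

-- part: H69/OctGeo
section
/-!
# The action on the cosets of a maximal parabolic subgroup (helper69)

`T ⊴ G` acts on a building `Δ` (`FixBN.Sys Δ T r`, `HAct Δ T`), `J` an invariant type, `X = Stb J hJ c`.
-/

set_option autoImplicit false
set_option linter.unusedSectionVars false

namespace Cfsg.Agent.H69.OctGeo

open Cfsg Cfsg.Agent.Tits.Core Cfsg.Agent.Tits.Core.Bldg Cfsg.Agent.Tits.Exchange Cfsg.Agent.Tits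
open Cfsg.Agent.FixBN Cfsg.Agent.Tits.OfBN Cfsg.Agent.Schreier.BNSch
open Cfsg.Agent.Omega.ML.LieRow Cfsg.Agent.UGT.U2.FOne
open MulAction

variable {I : Type*} {M : CoxeterMatrix I} {W : Type*} [Group W] {cs : CoxeterSystem M W} {C : Type*}
  {Δ : Bldg cs C} {G : Type*} [Group G] {T : Subgroup G} [MulAction T C] {r : ℕ} (S : Sys Δ T r)
  [F : OppRes.Cox cs] (A : HAct Δ T)

/-- the action of `G` on the chambers -/
@[reducible] def act : MulAction G C where
  smul := A.θ
  one_smul := A.θ_one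
  mul_smul g h x := A.θ_mul g h x

include S

theorem exists_θ (hth : Δ.Thick) (c y : C) : ∃ t : T, A.θ t c = y := by
  obtain ⟨t, ht⟩ := exists_smul_top S hth c y
  exact ⟨t, by rw [A.θ_K, ht]⟩

/-- the index of the stabiliser of a residue -/
theorem index_mul [Finite G] [Finite C] (hth : Δ.Thick) {J : Set I} (hJ : A.Inv J) (c : C) :
    (HAct.Stb J hJ c).index * Nat.card (Δ.Res J c) = Nat.card C := by
  let _ := act A
  set X := HAct.Stb J hJ c with hX
  have h1 : stabilizer G c ≤ X := by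
    intro g hg
    rw [hX, HAct.mem_Stb]
    have h2 : A.θ g c = c := hg
    rw [h2, Δ.δ_self]
    exact one_mem _
  have h2 : orbit X c = Δ.Res J c := by
    ext y
    constructor
    · rintro ⟨⟨g, hg⟩, rfl⟩
      exact hg
    · intro hy
      obtain ⟨t, ht⟩ := exists_θ S A hth c y
      refine ⟨⟨t, ?_⟩, ht⟩
      rw [hX, HAct.mem_Stb, ht]
      exact hy
  have h3 : orbit G c = Set.univ := by
    rw [Set.eq_univ_iff_forall]
    intro y
    obtain ⟨t, ht⟩ := exists_θ S A hth c y
    exact ⟨t, ht⟩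
  have h4 : stabilizer X c = (stabilizer G c).subgroupOf X := by
    ext x
    rfl
  have h5 := index_stabilizer (G := G) c
  have h6 := index_stabilizer (G := X) c
  rw [h3, Set.ncard_univ] at h5
  rw [h2, h4, ← Nat.card_coe_set_eq] at h6
  have h7 := Subgroup.relIndex_mul_index h1
  rw [Subgroup.relIndex, h6, h5] at h7
  rw [mul_comm]
  exact h7

/-- `T` is transitive -/
theorem transT (hth : Δ.Thick) {J : Set I} (hJ : A.Inv J) (c : C) :
    IsPretransitive T (G ⧸ HAct.Stb J hJ c) := by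
  have key : ∀ x : G ⧸ HAct.Stb J hJ c, ∃ t : T, t • ((1 : G) : G ⧸ HAct.Stb J hJ c) = x := by
    intro x
    induction x using QuotientGroup.induction_on with
    | H g =>
      obtain ⟨t, ht⟩ := exists_θ S A hth c (A.θ g c)
      refine ⟨t, ?_⟩
      show (((t : G) * 1 : G) : G ⧸ HAct.Stb J hJ c) = g
      rw [mul_one, QuotientGroup.eq, HAct.mem_Stb, A.θ_mul, ← ht, A.θ_inv_θ, Δ.δ_self]
      exact one_mem _
  refine ⟨fun x y => ?_⟩
  obtain ⟨t, rfl⟩ := key x
  obtain ⟨t', rfl⟩ := key y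
  exact ⟨t' * t⁻¹, by rw [mul_smul, inv_smul_smul]⟩

/-- two cosets in the same orbit of the stabiliser -/
theorem same_orbit (hth : Δ.Thick) {J : Set I} (hJ : A.Inv J) (c : C) {g h : G}
    (hgh : Δ.δ c (A.θ g c) = Δ.δ c (A.θ h c)) :
    ∃ u ∈ HAct.Stb J hJ c, ((u * g : G) : G ⧸ HAct.Stb J hJ c) = h := by
  obtain ⟨u, hu, hux⟩ := S.exists_move hgh
  rw [← A.θ_K] at hux
  refine ⟨u, ?_, ?_⟩
  · rw [HAct.mem_Stb, A.θ_K, S.fix c u hu, Δ.δ_self]
    exact one_mem _
  · rw [QuotientGroup.eq, HAct.mem_Stb, A.θ_mul, ← hux, ← A.θ_mul (u : G) g c, A.θ_inv_θ, Δ.δ_self]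
    exact one_mem _

/-- the rank is at most `|W : W_J|` -/
theorem rank_le [Finite W] (hth : Δ.Thick) {J : Set I} (hJ : A.Inv J) (c : C) :
    Nat.card (orbitRel.Quotient (stabilizer G ((1 : G) : G ⧸ HAct.Stb J hJ c)) (G ⧸ HAct.Stb J hJ c)) ≤
      (WJ cs J).index := by
  set X := HAct.Stb J hJ c with hX
  have hst : ∀ u ∈ X, u ∈ stabilizer G ((1 : G) : G ⧸ X) := by
    intro u hu
    rw [mem_stabilizer_iff]
    show ((u * 1 : G) : G ⧸ X) = (1 : G)
    rw [mul_one, QuotientGroup.eq, mul_one]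
    exact inv_mem hu
  -- representatives
  have hrep : ∀ w : W, ∃ g : G, Δ.δ c (A.θ g c) = w := by
    intro w
    obtain ⟨y, hy⟩ := Δ.exists_δ c w
    obtain ⟨t, ht⟩ := exists_θ S A hth c y
    exact ⟨t, by rw [ht, hy]⟩
  choose rp hrp using hrep
  let q : G → orbitRel.Quotient (stabilizer G ((1 : G) : G ⧸ X)) (G ⧸ X) := fun g => Quotient.mk _ ((g : G) : G ⧸ X)
  have hq : ∀ g h : G, Δ.δ c (A.θ g c) = Δ.δ c (A.θ h c) → q g = q h := by
    intro g h hgh
    obtain ⟨u, hu, hux⟩ := same_orbit S A hth hJ c hgh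
    apply Quotient.sound
    refine ⟨⟨u, hst u hu⟩⁻¹, ?_⟩
    show u⁻¹ • ((h : G) : G ⧸ X) = g
    rw [inv_smul_eq_iff, ← hux]
    rfl
  have hcos : ∀ (g : G) (v : W), v ∈ WJ cs J → q g = q (rp (Δ.δ c (A.θ g c) * v)) := by
    intro g v hv
    obtain ⟨z, hz1, hz2⟩ := Opp.exists_mul Δ c (A.θ g c) v
    -- `z = θ (g k) c`
    obtain ⟨t, ht⟩ := exists_θ S A hth c z
    have h1 : ((t : G) : G ⧸ X) = (g : G) := by
      rw [eq_comm, QuotientGroup.eq, hX, HAct.mem_Stb, A.θ_mul, ht]
      have h2 : Δ.δ (A.θ g⁻¹ (A.θ g c)) (A.θ g⁻¹ z) ∈ WJ cs J := by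
        rw [A.δ_θ, hz1]
        exact hJ.φ_mem g⁻¹ hv
      rwa [A.θ_inv_θ] at h2
    have h3 : q g = q t := by
      show Quotient.mk _ _ = Quotient.mk _ _
      rw [h1]
    rw [h3]
    apply hq
    rw [hrp, ht, hz2]
  let f : W ⧸ WJ cs J → orbitRel.Quotient (stabilizer G ((1 : G) : G ⧸ X)) (G ⧸ X) :=
    Quotient.lift (fun w => q (rp w)) (by
      intro w w' hww
      have h1 : w⁻¹ * w' ∈ WJ cs J := QuotientGroup.leftRel_apply.1 hww
      show q (rp w) = q (rp w')
      rw [hcos (rp w) _ h1, hrp]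
      congr 2
      group)
  have hf : Function.Surjective f := by
    intro x
    induction x using Quotient.inductionOn with
    | _ x =>
      induction x using QuotientGroup.induction_on with
      | H g =>
        refine ⟨((Δ.δ c (A.θ g c) : W) : W ⧸ WJ cs J), ?_⟩
        show q (rp _) = q g
        apply hq
        rw [hrp]
  exact Nat.card_le_card_of_surjective f hf

/-- the index of a parabolic subgroup of rank one -/
theorem index_WJ [Finite W] (j : I) : (WJ cs {j}).index * 2 = Nat.card W := by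
  have h1 : Nat.card (WJ cs {j}) = 2 := by
    have hne : cs.simple j ≠ 1 := by
      intro h
      have := cs.length_simple j
      rw [h, cs.length_one] at this
      exact absurd this (by decide)
    have h2 : ((WJ cs {j} : Subgroup W) : Set W) = {1, cs.simple j} := by
      ext w
      constructor
      · exact fun hw => H410.BldgAS.mem_WJ_singleton hw
      · rintro (rfl | rfl)
        · exact one_mem _
        · exact simple_mem_WJ cs (Set.mem_singleton j)
    have h3 : Nat.card (WJ cs {j}) = ((WJ cs {j} : Subgroup W) : Set W).ncard := rfl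
    rw [h3, h2, Set.ncard_pair hne.symm]
  have h2 := (WJ cs {j}).card_mul_index
  rw [h1] at h2
  omega

/-- a large suborbit -/
theorem card_U_le [Finite G] [Finite C] [Finite W] (hth : Δ.Thick) {i : I} (hJ : A.Inv {i}) (c : C) {q : ℕ}
    (hq : ∀ x, Nat.card (Δ.Pan i x) = q + 1) :
    ∃ b : G ⧸ HAct.Stb {i} hJ c, Nat.card (S.U c) ≤
      Nat.card (orbit (stabilizer G ((1 : G) : G ⧸ HAct.Stb {i} hJ c)) b) * q := by
  obtain ⟨d, hd⟩ := Opp.exists_opp Δ c
  obtain ⟨t, ht⟩ := exists_θ S A hth c d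
  set X := HAct.Stb {i} hJ c with hX
  refine ⟨((t : G) : G ⧸ X), ?_⟩
  obtain ⟨e, he, hce, -⟩ := Opp.exists_nonopp Δ hd i
  set b : G ⧸ X := ((t : G) : G ⧸ X) with hb
  have h1 := (stabilizer (S.U c) b).card_mul_index
  rw [index_stabilizer] at h1
  have h2 : orbit (S.U c) b ⊆ orbit (stabilizer G ((1 : G) : G ⧸ X)) b := by
    rintro _ ⟨u, rfl⟩
    refine ⟨⟨((u : T) : G), ?_⟩, rfl⟩
    rw [mem_stabilizer_iff]
    show ((((u : T) : G) * 1 : G) : G ⧸ X) = (1 : G)
    rw [mul_one, eq_comm, QuotientGroup.eq, inv_one, one_mul, hX, HAct.mem_Stb, A.θ_K, S.fix c _ u.2, Δ.δ_self]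
    exact one_mem _
  have h3 : (orbit (S.U c) b).ncard ≤ Nat.card (orbit (stabilizer G ((1 : G) : G ⧸ X)) b) := by
    rw [Nat.card_coe_set_eq]
    exact Set.ncard_le_ncard h2 (Set.toFinite _)
  have h4 : Nat.card (stabilizer (S.U c) b) ≤ q := by
    -- `u ↦ u d` is injective with values in the panel of `d`, without `e`
    have hmem : ∀ u : stabilizer (S.U c) b, ((u : S.U c) : T) • d ∈ Δ.Pan i d \ {e} := by
      rintro ⟨u, hu⟩
      have h6 : ((((u : T) : G) * (t : G) : G) : G ⧸ X) = ((t : G) : G ⧸ X) := hu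
      rw [eq_comm, QuotientGroup.eq, hX, HAct.mem_Stb, A.θ_mul, A.θ_mul, ht, A.θ_K] at h6
      have h7 : Δ.δ (A.θ t c) (A.θ t (A.θ (t : G)⁻¹ ((u : T) • d))) ∈ WJ cs {i} := by
        rw [A.δ_θ]
        exact hJ.φ_mem t h6
      rw [A.θ_θ_inv, ht] at h7
      refine ⟨?_, ?_⟩
      · rcases H410.BldgAS.mem_WJ_singleton h7 with h8 | h8
        · exact Or.inl ((Δ.eq_one _ _).1 h8).symm
        · exact Or.inr h8
      · intro h8
        have h9 : (u : T) • d = e := h8
        have h10 := S.iso (u : T) c d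
        rw [h9, S.fix c _ u.2, hce, hd, eq_comm] at h10
        have h11 : cs.simple i = 1 := by
          have := h10.symm
          rwa [mul_eq_left] at this
        have := cs.length_simple i
        rw [h11, cs.length_one] at this
        exact absurd this (by decide)
    have hinj : Function.Injective fun u : stabilizer (S.U c) b => (⟨((u : S.U c) : T) • d, hmem u⟩ :
        ↥(Δ.Pan i d \ {e})) := by
      intro u v huv
      have h5 : ((u : S.U c) : T) • d = ((v : S.U c) : T) • d := congrArg Subtype.val huv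
      have h6 : (((v : S.U c) : T)⁻¹ * ((u : S.U c) : T)) • d = d := by
        rw [mul_smul, h5, inv_smul_smul]
      have h7 := S.free c d hd _ (mul_mem (inv_mem (v : S.U c).2) (u : S.U c).2) h6
      have h8 : ((v : S.U c) : T) = ((u : S.U c) : T) := inv_mul_eq_one.1 h7
      exact Subtype.ext (Subtype.ext h8.symm)
    have h5 := Nat.card_le_card_of_injective _ hinj
    have h6 : e ∈ Δ.Pan i d := Or.inr he
    rw [Nat.card_coe_set_eq, Set.ncard_sdiff_singleton_of_mem h6, ← Nat.card_coe_set_eq, hq d] at h5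
    exact h5
  rw [← h1, mul_comm]
  exact Nat.mul_le_mul h3 h4

end Cfsg.Agent.H69.OctGeo
end

-- part: H69/OctFive
section
/-!
# Five degrees for a group with a normal subgroup acting on a generalized octagon (helper69)
-/

set_option autoImplicit false
set_option linter.unusedSectionVars false

namespace Cfsg.Agent.H69.OctFive

open Cfsg Cfsg.Agent.Tits.Core Cfsg.Agent.Tits.Core.Bldg Cfsg.Agent.Tits.Exchange Cfsg.Agent.Tits
open Cfsg.Agent.FixBN Cfsg.Agent.Tits.OfBN Cfsg.Agent.Schreier.BNSch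
open Cfsg.Agent.Omega.ML.LieRow Cfsg.Agent.UGT.U2.FOne
open MulAction

universe u

variable {I : Type*} {M : CoxeterMatrix I} {W : Type*} [Group W] {cs : CoxeterSystem M W} {C : Type*}
  {Δ : Bldg cs C} {G : Type u} [Group G] {T : Subgroup G} [MulAction T C] {r : ℕ} (S : Sys Δ T r)
  [F : OppRes.Cox cs] (A : HAct Δ T)

include S

/-- the types are fixed if the panels have different sizes -/
theorem σ_eq [Finite G] [Finite C] (hth : Δ.Thick) {i j : I} (hI : ∀ k, k = i ∨ k = j) {qi qj : ℕ}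
    (hqi : ∀ x, Nat.card (Δ.Pan i x) = qi + 1) (hqj : ∀ x, Nat.card (Δ.Pan j x) = qj + 1) (hne : qi ≠ qj)
    (c : C) (g : G) (k : I) : A.σ g k = k := by
  have key : ∀ l : I, Nat.card (Δ.Pan (A.σ g l) (A.θ g c)) = Nat.card (Δ.Pan l c) := by
    intro l
    have f1 : ∀ x ∈ Δ.Pan l c, A.θ g x ∈ Δ.Pan (A.σ g l) (A.θ g c) := by
      rintro x (h | h)
      · exact Or.inl (by rw [h])
      · right
        rw [A.δ_θ, h, A.φ_simple]
    have f2 : ∀ x ∈ Δ.Pan (A.σ g l) (A.θ g c), A.θ g⁻¹ x ∈ Δ.Pan l c := by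
      rintro x (h | h)
      · exact Or.inl (by rw [h, A.θ_inv_θ])
      · right
        apply (A.φ g).injective
        rw [← A.δ_θ, A.θ_θ_inv, h, A.φ_simple]
    exact (Nat.card_congr
      { toFun := fun x : ↥(Δ.Pan l c) => (⟨A.θ g x, f1 x x.2⟩ : ↥(Δ.Pan (A.σ g l) (A.θ g c)))
        invFun := fun x : ↥(Δ.Pan (A.σ g l) (A.θ g c)) => (⟨A.θ g⁻¹ x, f2 x x.2⟩ : ↥(Δ.Pan l c))
        left_inv := fun x => Subtype.ext (A.θ_inv_θ g x)
        right_inv := fun x => Subtype.ext (A.θ_θ_inv g x) }).symm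
  have h1 := key i
  have h2 := key j
  rw [hqi] at h1
  rw [hqj] at h2
  rcases hI k with rfl | rfl
  · rcases hI (A.σ g k) with h | h
    · exact h
    · rw [h, hqj] at h1
      omega
  · rcases hI (A.σ g k) with h | h
    · rw [h, hqi] at h2
      omega
    · exact h

omit S [MulAction ↥T C] F in
theorem num {q : ℕ} (hq : 8 ≤ q) : (1 + q) * ((1 + q ^ 3) * (1 + q ^ 6)) ≤ 2 * q ^ 10 ∧
    7 * ((1 + q) * ((1 + q ^ 3) * (1 + q ^ 6))) < (1 + q ^ 2) * ((1 + q ^ 3) * (1 + q ^ 6)) ∧
    (1 + q ^ 2) * ((1 + q ^ 3) * (1 + q ^ 6)) ≤ q ^ 12 := by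
  obtain ⟨a, rfl⟩ := Nat.exists_eq_add_of_le hq
  have h2 := Nat.zero_le (a ^ 2)
  have h3 := Nat.zero_le (a ^ 3)
  have h4 := Nat.zero_le (a ^ 4)
  have h5 := Nat.zero_le (a ^ 5)
  have h6 := Nat.zero_le (a ^ 6)
  have h7 := Nat.zero_le (a ^ 7)
  have h8 := Nat.zero_le (a ^ 8)
  have h9 := Nat.zero_le (a ^ 9)
  have h10 := Nat.zero_le (a ^ 10)
  have h11 := Nat.zero_le (a ^ 11)
  have h12 := Nat.zero_le (a ^ 12)
  refine ⟨?_, ?_, ?_⟩ <;> ring_nf <;> linarith

include A

/-- **Five degrees**, panels of size `q² + 1` and `q + 1`. -/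
theorem five [T.Normal] [IsSimpleGroup T] [Finite G] [Finite C] [Finite W] [Fact r.Prime] (hth : Δ.Thick)
    (hna : ¬ IsMulCommutative T) {i j : I} (hI : ∀ k, k = i ∨ k = j) {q : ℕ} (hq : 8 ≤ q)
    (hqi : ∀ x, Nat.card (Δ.Pan i x) = q ^ 2 + 1) (hqj : ∀ x, Nat.card (Δ.Pan j x) = q + 1)
    (hW : Nat.card W = 16) (hC : Nat.card C = (1 + q) * (1 + q ^ 2) * ((1 + q ^ 3) * (1 + q ^ 6)))
    (c : C) (hU : Nat.card (S.U c) = q ^ 12) (hQ : q ^ 12 ∈ charDegrees G) : 5 ≤ (charDegrees G).ncard := by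
  classical
  have hne : q ^ 2 ≠ q := by nlinarith only [hq]
  have hσ := fun g k => σ_eq S A hth hI hqi hqj hne c g k
  have hJ : ∀ l : I, A.Inv {l} := by
    intro l g k hk
    rw [hσ]
    exact hk
  set N := (1 + q ^ 3) * (1 + q ^ 6) with hN
  obtain ⟨n1, n2, n3⟩ := num hq
  rw [← hN] at n1 n2 n3
  have hres : ∀ (l : I) (x : C), Δ.Res {l} x = Δ.Pan l x := by
    intro l x
    ext y
    constructor
    · intro hy
      rcases H410.BldgAS.mem_WJ_singleton hy with h | h
      · exact Or.inl ((Δ.eq_one _ _).1 h).symm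
      · exact Or.inr h
    · rintro (rfl | h)
      · show Δ.δ y y ∈ WJ cs {l}
        rw [Δ.δ_self]; exact one_mem _
      · show Δ.δ x y ∈ WJ cs {l}
        rw [h]; exact simple_mem_WJ cs (Set.mem_singleton l)
  -- the degrees
  have c1 : Nat.card (G ⧸ HAct.Stb {i} (hJ i) c) = (1 + q) * N := by
    have h1 := OctGeo.index_mul S A hth (hJ i) c
    rw [hres, hqi, hC] at h1
    apply Nat.eq_of_mul_eq_mul_right (show 0 < q ^ 2 + 1 by positivity)
    rw [← Subgroup.index_eq_card, h1]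
    ring
  have c2 : Nat.card (G ⧸ HAct.Stb {j} (hJ j) c) = (1 + q ^ 2) * N := by
    have h1 := OctGeo.index_mul S A hth (hJ j) c
    rw [hres, hqj, hC] at h1
    apply Nat.eq_of_mul_eq_mul_right (show 0 < q + 1 by positivity)
    rw [← Subgroup.index_eq_card, h1]
    ring
  have hTc : T ≤ commutator G := by
    have h1 : commutator T = ⊤ := H235.ExtOut.commutator_eq_top hna
    have h2 : (commutator T).map T.subtype ≤ commutator G := by
      rw [commutator_def, Subgroup.map_commutator]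
      exact Subgroup.commutator_mono le_top le_top
    rw [h1, ← MonoidHom.range_eq_map, Subgroup.range_subtype] at h2
    exact h2
  set X := HAct.Stb {i} (hJ i) c with hX
  set Y := HAct.Stb {j} (hJ j) c with hY
  have hT1 : IsPretransitive T (G ⧸ X) := OctGeo.transT S A hth (hJ i) c
  refine OctChar.five T hTc (Ω₁ := G ⧸ X) (Ω₂ := G ⧸ Y) hT1 inferInstance ((1 : G) : G ⧸ X) ((1 : G) : G ⧸ Y)
    (r := 7) (Q := q ^ 12) ?_ ?_ ?_ ?_ hQ
  · have h2 := OctGeo.index_WJ (cs := cs) S j
    refine le_trans (OctGeo.rank_le S A hth (hJ j) c) ?_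
    omega
  · -- the subdegrees are not equal
    by_contra hcon
    push Not at hcon
    obtain ⟨f, hf⟩ := hcon
    set α : G ⧸ X := ((1 : G) : G ⧸ X) with hα
    obtain ⟨b, hb⟩ : ∃ b : G ⧸ X, Nat.card (S.U c) ≤ Nat.card (orbit (stabilizer G α) b) * q ^ 2 :=
      OctGeo.card_U_le S A hth (hJ i) c hqi
    rw [hU] at hb
    have hbα : b ≠ α := by
      intro hbα
      have h1 : Nat.card (orbit (stabilizer G α) α) = 1 := by
        rw [Nat.card_eq_one_iff_unique]
        refine ⟨⟨fun x y => ?_⟩, ⟨⟨α, mem_orbit_self α⟩⟩⟩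
        obtain ⟨x, g, rfl⟩ := x
        obtain ⟨y, h, rfl⟩ := y
        exact Subtype.ext ((g.2 : (g : G) • α = α).trans (h.2 : (h : G) • α = α).symm)
      have h3 : q ^ 12 ≤ 1 * q ^ 2 := by
        rw [← h1]
        rw [hbα] at hb
        exact hb
      have h2 : q ^ 2 < q ^ 12 := Nat.pow_lt_pow_right (by omega) (by norm_num)
      omega
    have hfq : q ^ 10 ≤ f := by
      have hb : q ^ 12 ≤ f * q ^ 2 := by
        rw [← hf b hbα]
        exact hb
      have h1 : q ^ 12 = q ^ 10 * q ^ 2 := by ring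
      rw [h1] at hb
      exact Nat.le_of_mul_le_mul_right hb (by positivity)
    have hone : ∀ x : G ⧸ X, x ≠ α → x ∈ orbit (stabilizer G α) b := by
      intro x hx
      by_contra hxb
      have hd : Disjoint (orbit (stabilizer G α) b) (orbit (stabilizer G α) x) := by
        rw [Set.disjoint_iff_inter_eq_empty, Set.eq_empty_iff_forall_notMem]
        rintro y ⟨h1, h2⟩
        apply hxb
        rw [← orbit_eq_iff] at h1 h2 ⊢
        rw [← h2, h1]
      have hα' : ∀ y, y ≠ α → α ∉ orbit (stabilizer G α) y := by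
        rintro y hy ⟨g, hg⟩
        apply hy
        have h1 : (g : G) • y = α := hg
        have h2 : (g : G) • α = α := g.2
        exact smul_left_cancel (g : G) (h1.trans h2.symm)
      have h1 : (insert α (orbit (stabilizer G α) b ∪ orbit (stabilizer G α) x)).ncard ≤ Nat.card (G ⧸ X) := by
        rw [← Set.ncard_univ]
        exact Set.ncard_le_ncard (Set.subset_univ _) (Set.toFinite _)
      rw [Set.ncard_insert_of_notMem (by
        rintro (h | h)
        · exact hα' b hbα h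
        · exact hα' x hx h) (Set.toFinite _), Set.ncard_union_eq hd (Set.toFinite _) (Set.toFinite _),
        ← Nat.card_coe_set_eq, ← Nat.card_coe_set_eq, c1] at h1
      have h2 : f + f + 1 ≤ (1 + q) * N := by
        have e1 : Nat.card (orbit (stabilizer G α) b) = f := hf b hbα
        have e2 : Nat.card (orbit (stabilizer G α) x) = f := hf x hx
        calc f + f + 1 = Nat.card (orbit (stabilizer G α) b) + Nat.card (orbit (stabilizer G α) x) + 1 := by
              rw [e1, e2]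
          _ ≤ (1 + q) * N := h1
      omega
    have h2t : IsMultiplyPretransitive G (G ⧸ X) 2 := by
      rw [is_two_pretransitive_iff]
      intro x y z w hxy hzw
      -- move `x`, `z` to `α`
      obtain ⟨g, hg⟩ := exists_smul_eq G x α
      obtain ⟨h, hh⟩ := exists_smul_eq G z α
      have hgy : g • y ≠ α := fun e => hxy (smul_left_cancel g (hg.trans e.symm))
      have hhw : h • w ≠ α := fun e => hzw (smul_left_cancel h (hh.trans e.symm))
      have h1 := hone _ hgy
      have h2 := hone _ hhw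
      rw [← orbit_eq_iff] at h1
      rw [← h1] at h2
      obtain ⟨k, hk⟩ := h2
      have hk' : (k : G) • g • y = h • w := hk
      have hkα : (k : G) • α = α := k.2
      refine ⟨h⁻¹ * (k : G) * g, ?_, ?_⟩
      · rw [mul_smul, mul_smul, hg, hkα, inv_smul_eq_iff, hh]
      · rw [mul_smul, mul_smul, hk', inv_smul_smul]
    have hUle : S.U c ≤ stabilizer ↥T α := by
      intro u hu
      rw [mem_stabilizer_iff]
      show (((u : G) * 1 : G) : G ⧸ X) = (1 : G)
      rw [mul_one, eq_comm, QuotientGroup.eq, inv_one, one_mul, hX, HAct.mem_Stb, A.θ_K, S.fix c _ hu, Δ.δ_self]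
      exact one_mem _
    have hne_top : stabilizer ↥T α ≠ ⊤ := by
      intro h1
      obtain ⟨t, ht⟩ := hT1.exists_smul_eq α b
      have h2 : t ∈ stabilizer ↥T α := by rw [h1]; exact Subgroup.mem_top t
      exact hbα (ht.symm.trans h2)
    have : Nonempty I := ⟨i⟩
    have h10 := H410.BldgAS.card_le_ten S A hth h2t hUle hne_top hI
    omega
  · rw [c1, c2]
    omega
  · rw [c2]
    exact n3

end Cfsg.Agent.H69.OctFive
end

-- part: H69/OctMain
section
/-!
# Groups with socle `²F₄(q)` have at least five character degrees (helper69, task 556 of helper638)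
-/

set_option autoImplicit false
set_option linter.unusedSectionVars false

namespace Cfsg.Agent.H69.OctMain

open Cfsg Cfsg.Agent.Tits.Core Cfsg.Agent.Tits.Core.Bldg Cfsg.Agent.Tits.Exchange Cfsg.Agent.Tits
open Cfsg.Agent.FixBN Cfsg.Agent.Tits.OfBN Cfsg.Agent.Schreier.BNSch
open MulAction

universe u

/-- transport of a node -/
theorem node_map {K L : Type*} [Group K] [Group L] (e : K ≃* L) {P : Cfsg.BNPair K} {U V : Subgroup K} {s : K}
    (hV : Node P U s V) : Node (Transport.mapBN e P) (U.map e.toMonoidHom) (e s) (V.map e.toMonoidHom) := by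
  refine ⟨Subgroup.map_mono hV.le, ?_, ?_, ?_, ?_⟩
  · obtain ⟨u, hu, huV⟩ := hV.ne
    refine ⟨e u, ⟨u, hu, rfl⟩, ?_⟩
    rw [Subgroup.mem_map_equiv]
    simpa using huV
  · intro b hb v hv
    change b ∈ P.B.map e.toMonoidHom at hb
    rw [Subgroup.mem_map_equiv] at hb hv ⊢
    have := hV.conj_B _ hb _ hv
    simpa only [_root_.map_mul, _root_.map_inv] using this
  · intro v hv
    rw [Subgroup.mem_map_equiv] at hv ⊢
    have := hV.conj_s _ hv
    simpa only [_root_.map_mul, _root_.map_inv, _root_.MulEquiv.symm_apply_apply] using this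
  · intro u hu h
    change (e s)⁻¹ * u * e s ∈ P.B.map e.toMonoidHom at h
    rw [Subgroup.mem_map_equiv] at hu h ⊢
    exact hV.stab _ hu (by simpa only [_root_.map_mul, _root_.map_inv, _root_.MulEquiv.symm_apply_apply] using h)

section panel

variable {K : Type*} [Group K] {P : Cfsg.BNPair K} {p : ℕ} {U : Subgroup K}
variable [hN : ((P.B ⊓ P.N).subgroupOf P.N).Normal]
variable {I : Type*} {M : CoxeterMatrix I} (e : I ≃ P.S) (cs : CoxeterSystem M (WP P))
  (hcs : ∀ i, cs.simple i = QuotientGroup.mk (⟨(e i : K), P.subset (e i).2⟩ : P.N))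

/-- the size of a panel -/
theorem card_pan [Finite K] [Fact p.Prime] (S : Split P p U) {i : I} {V : Subgroup K} (hV : Node P U (e i) V)
    (x : K ⧸ P.B) : Nat.card ((bldg P e cs hcs).Pan i x) = V.relIndex U + 1 := by
  have hfI : Finite I := FixBN.OfBN.finite_I e
  set Δ := bldg P e cs hcs with hΔ
  set Sy := FixBN.OfBN.sys e cs hcs S with hSy
  set c : K ⧸ P.B := QuotientGroup.mk 1 with hc
  have h0 : Nat.card (Δ.Pan i x) = Nat.card (Δ.Pan i c) := by
    obtain ⟨g, rfl⟩ : ∃ g : K, g • c = x := by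
      induction x using QuotientGroup.induction_on with
      | H g => exact ⟨g, by rw [hc, FixBN.OfBN.smul_mk, mul_one]⟩
    have f1 : ∀ y ∈ Δ.Pan i (g • c), g⁻¹ • y ∈ Δ.Pan i c := by
      rintro y (h | h)
      · exact Or.inl (by rw [h, inv_smul_smul])
      · right
        rw [← Sy.iso g c, smul_inv_smul, h]
    have f2 : ∀ y ∈ Δ.Pan i c, g • y ∈ Δ.Pan i (g • c) := by
      rintro y (h | h)
      · exact Or.inl (by rw [h])
      · right
        rw [Sy.iso g c, h]
    exact Nat.card_congr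
      { toFun := fun y : ↥(Δ.Pan i (g • c)) => (⟨g⁻¹ • y, f1 y y.2⟩ : ↥(Δ.Pan i c))
        invFun := fun y : ↥(Δ.Pan i c) => (⟨g • y, f2 y y.2⟩ : ↥(Δ.Pan i (g • c)))
        left_inv := fun y => Subtype.ext (smul_inv_smul g (y : K ⧸ P.B))
        right_inv := fun y => Subtype.ext (inv_smul_smul g (y : K ⧸ P.B)) }
  rw [h0]
  set y₀ : K ⧸ P.B := QuotientGroup.mk (e i : K) with hy₀
  have hδ : Δ.δ c y₀ = cs.simple i := by
    rw [hΔ, hc, hy₀, bldg_δ_mk, inv_one, one_mul, hcs i]
    apply wt_of_mem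
    exact DoubleCoset.mem_doubleCoset_self _ _ _
  have horb : {y | Δ.δ c y = cs.simple i} = orbit U y₀ := by
    ext y
    constructor
    · intro hy
      obtain ⟨u, hu, huy⟩ := Sy.exists_move (hδ.trans (Eq.symm hy))
      have h1 : u ∈ FixBN.OfBN.UU P U (QuotientGroup.mk 1) := hu
      rw [FixBN.OfBN.mem_UU S, inv_one, one_mul, mul_one] at h1
      exact ⟨⟨u, h1⟩, huy⟩
    · rintro ⟨u, rfl⟩
      show Δ.δ c ((u : K) • y₀) = cs.simple i
      have h1 : (u : K) • c = c := by
        rw [hc, FixBN.OfBN.smul_mk_eq, inv_one, one_mul, mul_one]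
        exact S.le u.2
      rw [← hδ, ← Sy.iso (u : K) c y₀, h1]
  have hst : stabilizer U y₀ = V.subgroupOf U := by
    ext u
    rw [mem_stabilizer_iff, Subgroup.mem_subgroupOf]
    show (u : K) • y₀ = y₀ ↔ _
    rw [hy₀, FixBN.OfBN.smul_mk_eq]
    exact ⟨fun h => hV.stab u u.2 h, fun h => S.le (hV.le (hV.conj_s u h))⟩
  have h1 := index_stabilizer (G := U) y₀
  rw [hst, ← horb] at h1
  have h2 : Δ.Pan i c = insert c {y | Δ.δ c y = cs.simple i} := rfl
  have h3 : c ∉ {y | Δ.δ c y = cs.simple i} := by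
    intro h5
    have h6 : Δ.δ c c = cs.simple i := h5
    rw [(Δ.eq_one c c).2 rfl] at h6
    have := cs.length_simple i
    rw [← h6, cs.length_one] at this
    exact absurd this (by decide)
  rw [h2, Nat.card_coe_set_eq, Set.ncard_insert_of_notMem h3 (Set.toFinite _), ← h1]
  rfl

end panel

/-- **Groups with socle `²F₄(q)`.** -/
theorem five_2F4 {G : Type u} [Group G] [Finite G] (M : Subgroup G) (hM : M.Normal)
    (_hc : Subgroup.centralizer (M : Set G) = ⊥) (h : Cfsg.Lie.Iso2F4 M) : 5 ≤ (Cfsg.charDegrees G).ncard := by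
  classical
  have := hM
  obtain ⟨F, _, _, m, hm, hF, ⟨e⟩⟩ := h
  have : Fact (Nat.Prime 2) := ⟨Nat.prime_two⟩
  obtain ⟨hsimp, hna⟩ := Cfsg.Agent.S1072.result hm hF
  have hsM : IsSimpleGroup ↥M := e.isSimpleGroup
  have hnaM : ¬ IsMulCommutative ↥M := by
    intro hcm
    apply hna
    refine ⟨⟨fun x y => ?_⟩⟩
    apply e.symm.injective
    rw [map_mul, map_mul]
    exact hcm.is_comm.comm _ _
  obtain ⟨Q, UE, s, t, V, V', hsp, hS, hrel, nV, nV', iV, iV', cU, cT⟩ := OctTwF.exists_pair (K := F) hm hF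
  set q := 2 ^ (2 * m + 1) with hq
  have hq8 : 8 ≤ q := by
    rw [hq]
    calc 8 = 2 ^ 3 := by norm_num
      _ ≤ 2 ^ (2 * m + 1) := Nat.pow_le_pow_right (by norm_num) (by omega)
  have hspl := Transport.split e.symm Q hsp
  set P := Transport.mapBN e.symm Q with hP
  have hPS : P.S = {e.symm s, e.symm t} := by
    show e.symm '' Q.S = _
    rw [hS, Set.image_pair]
  have hN : ((P.B ⊓ P.N).subgroupOf P.N).Normal := normal_subgroupOf P
  obtain ⟨Mx, cs, hcs⟩ := S0320.result P
  have hI : Finite P.S := OfBN.finite_I (Equiv.refl P.S)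
  set Δ := bldg P (Equiv.refl P.S) cs hcs with hΔ
  let Sy : Sys Δ ↥M 2 := FixBN.OfBN.sys (Equiv.refl P.S) cs hcs hspl
  have hth : Δ.Thick := thick P (Equiv.refl P.S) cs hcs
  obtain ⟨A⟩ := Omega.ML.LieRow.exists_hact Sy hth
    (fun τ => UGT.U2.FOne.exists_mv hspl (Equiv.refl P.S) cs hcs τ)
  set c : ↥M ⧸ P.B := QuotientGroup.mk 1 with hc
  have hsS : e.symm s ∈ P.S := by rw [hPS]; exact Set.mem_insert _ _
  have htS : e.symm t ∈ P.S := by rw [hPS]; exact Set.mem_insert_of_mem _ rfl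
  -- the panels
  have hU1 : Nat.card ↥(UE.map e.symm.toMonoidHom) = q ^ 12 := by
    rw [← cU]
    exact Nat.card_congr (UE.equivMapOfInjective _ e.symm.injective).symm.toEquiv
  have hr1 : ∀ V : Subgroup ↥(Lie.twistedF4 F (2 ^ m)),
      (V.map e.symm.toMonoidHom).relIndex (UE.map e.symm.toMonoidHom) = V.relIndex UE := fun V =>
    Subgroup.relIndex_map_map_of_injective V UE e.symm.injective
  have hpj : ∀ x, Nat.card (Δ.Pan ⟨e.symm s, hsS⟩ x) = q + 1 := fun x => by
    have h1 := card_pan (Equiv.refl P.S) cs hcs hspl (i := ⟨e.symm s, hsS⟩) (node_map e.symm nV) x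
    rw [hr1, iV] at h1
    exact h1
  have hpi : ∀ x, Nat.card (Δ.Pan ⟨e.symm t, htS⟩ x) = q ^ 2 + 1 := fun x => by
    have h1 := card_pan (Equiv.refl P.S) cs hcs hspl (i := ⟨e.symm t, htS⟩) (node_map e.symm nV') x
    rw [hr1, iV'] at h1
    exact h1
  have hII : ∀ k : P.S, k = ⟨e.symm t, htS⟩ ∨ k = ⟨e.symm s, hsS⟩ := by
    rintro ⟨x, hx⟩
    have hx' : x ∈ P.S := hx
    rw [hPS] at hx'
    rcases hx' with h | h
    · exact Or.inr (Subtype.ext h)
    · exact Or.inl (Subtype.ext h)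
  have h16 : Nat.card (WP P) = 16 := by
    rw [← hrel]
    have h1 : P.B ⊓ P.N = (Q.B ⊓ Q.N).map e.symm.toMonoidHom := by
      show Q.B.map e.symm.toMonoidHom ⊓ Q.N.map e.symm.toMonoidHom = _
      rw [Subgroup.map_inf _ _ _ e.symm.injective]
    have h2 : P.N = Q.N.map e.symm.toMonoidHom := rfl
    rw [← Subgroup.relIndex_map_map_of_injective (f := e.symm.toMonoidHom) (Q.B ⊓ Q.N) Q.N e.symm.injective, ← h1, ← h2]
    rfl
  -- the number of chambers
  have hcB : Nat.card Q.B = q ^ 12 * (q - 1) ^ 2 := by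
    rw [← cU, ← cT]
    have h1 : Subgroup.IsComplement' (UE.subgroupOf Q.B) ((Q.B ⊓ Q.N).subgroupOf Q.B) := by
      refine Subgroup.isComplement'_of_disjoint_and_mul_eq_univ ?_ ?_
      · rw [disjoint_iff, eq_bot_iff]
        rintro x ⟨hx1, hx2⟩
        obtain ⟨k, hk, hk'⟩ := hsp.tor
        have h3 := hk' x x.2 (Subgroup.mem_subgroupOf.1 hx2).2
        obtain ⟨l, hl⟩ := hsp.isP ⟨_, Subgroup.mem_subgroupOf.1 hx1⟩
        have h4 : ((x : Q.B) : ↥(Lie.twistedF4 F (2 ^ m))) ^ 2 ^ l = 1 := congrArg Subtype.val hl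
        have h5 := Nat.dvd_gcd (orderOf_dvd_of_pow_eq_one h3) (orderOf_dvd_of_pow_eq_one h4)
        have h6 : Nat.gcd k (2 ^ l) = 1 :=
          Nat.Coprime.pow_right l (Nat.coprime_comm.1 ((Nat.Prime.coprime_iff_not_dvd Nat.prime_two).2 hk))
        rw [h6, Nat.dvd_one, orderOf_eq_one_iff] at h5
        exact Subtype.ext h5
      · rw [Set.eq_univ_iff_forall]
        intro b
        obtain ⟨u, hu, hun⟩ := hsp.cover b b.2
        refine Set.mem_mul.2 ⟨⟨u, hsp.le hu⟩, hu, ⟨u, hsp.le hu⟩⁻¹ * b, ?_, by group⟩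
        exact Subgroup.mem_subgroupOf.2 ⟨SetLike.coe_mem _, hun⟩
    have h2 := h1.card_mul_card
    have h3 : Nat.card (UE.subgroupOf Q.B) = Nat.card UE :=
      Nat.card_congr (Subgroup.subgroupOfEquivOfLe hsp.le).toEquiv
    have h4 : Nat.card ((Q.B ⊓ Q.N).subgroupOf Q.B) = Nat.card ↥(Q.B ⊓ Q.N) :=
      Nat.card_congr (Subgroup.subgroupOfEquivOfLe inf_le_left).toEquiv
    rw [h3, h4] at h2
    exact h2.symm
  have hC : Nat.card (↥M ⧸ P.B) = (1 + q) * (1 + q ^ 2) * ((1 + q ^ 3) * (1 + q ^ 6)) := by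
    have h1 := P.B.card_mul_index
    have h2 : Nat.card P.B = Nat.card Q.B :=
      (Nat.card_congr (Q.B.equivMapOfInjective _ e.symm.injective).toEquiv).symm
    have h3 : Nat.card M = Nat.card ↥(Lie.twistedF4 F (2 ^ m)) := Nat.card_congr e.toEquiv
    rw [h2, hcB, h3, Cfsg.Agent.S1068.result hF, ← hq, Subgroup.index_eq_card] at h1
    have hpos : 0 < q ^ 12 * (q - 1) ^ 2 := by
      have : 0 < q - 1 := by omega
      (clear * - this; positivity)
    apply Nat.eq_of_mul_eq_mul_left hpos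
    rw [h1]
    obtain ⟨a, ha⟩ : ∃ a, q = a + 1 := ⟨q - 1, by omega⟩
    have h4 : q ^ 4 - 1 = (q - 1) * ((1 + q) * (1 + q ^ 2)) := by
      rw [ha]
      simp only [Nat.add_sub_cancel]
      apply Nat.sub_eq_of_eq_add
      ring
    rw [h4]
    ring
  have hUc : Nat.card (Sy.U c) = q ^ 12 := by
    rw [← hU1]
    have h1 : Sy.U c = UE.map e.symm.toMonoidHom := by
      ext u
      show u ∈ FixBN.OfBN.UU P (UE.map e.symm.toMonoidHom) (QuotientGroup.mk 1) ↔ _
      rw [FixBN.OfBN.mem_UU hspl, inv_one, one_mul, mul_one]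
    rw [h1]
  have hQ : q ^ 12 ∈ charDegrees G := by
    obtain ⟨χ, h1, -, h2⟩ := H691.StExt.exists_ext M (p := 2) ⟨P, _, ⟨_, hsS⟩, hspl⟩
    refine ⟨⟨χ, h1⟩, Blocks.Basic.charDegree_of_eq ?_⟩
    show χ 1 = ((q ^ 12 : ℕ) : ℂ)
    have Z : Sylow 2 ↥M := default
    rw [h2 Z]
    -- the order of a Sylow subgroup
    have h3 : Nat.card Z = q ^ 12 := by
      obtain ⟨c', hc'⟩ := Sy.exists_fix Z Z.isPGroup'
      have hZ : (Z : Subgroup ↥M) = Sy.U c' := (Z.is_maximal' (Sy.isP c') (Sy.max c' Z Z.isPGroup' hc')).symm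
      obtain ⟨g, hg⟩ := Omega.ML.LieRow.exists_smul_top Sy hth c c'
      have h4 : Sy.U c' = (Sy.U c).map (MulAut.conj g).toMonoidHom := by
        ext x
        rw [Subgroup.mem_map_equiv, MulAut.conj_symm_apply, ← hg]
        have e1 : g * (g⁻¹ * x * g) * g⁻¹ = x := by group
        have h5 : g * (g⁻¹ * x * g) * g⁻¹ ∈ Sy.U (g • c) ↔ g⁻¹ * x * g ∈ Sy.U c := Sy.conj_mem_U_iff
        rwa [e1] at h5
      show Nat.card (Z : Subgroup ↥M) = q ^ 12
      rw [hZ, h4, ← hUc]
      exact (Nat.card_congr ((Sy.U c).equivMapOfInjective _ (MulAut.conj g).injective).toEquiv).symm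
    rw [h3]
  have := Fintype.ofFinite (WP P)
  exact OctFive.five Sy A hth hnaM hII hq8 hpi hpj h16 hC c hUc hQ

end Cfsg.Agent.H69.OctMain
end
end
end
end
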